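import Cfsg.Agent.Lib.DihedralSylow.Basic

/-!
# Odd automorphisms and homomorphisms onto dihedral 2-groups

The kernel of the map to the Frattini quotient of a dihedral group is `evenRot`.  An automorphism
of odd order of `Q` that respects, after a surjection `p` onto a dihedral group, all squares and
commutators moves every element only inside `p⁻¹(evenRot)` (`mul_map_mem_evenRot`).
-/

set_option autoImplicit false
set_option linter.unusedSectionVars false

namespace Cfsg.Agent.DihedralPair

open DihedralGroup DihedralSylow Function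

variable {m : ℕ}

/-- The rotations with even index. -/
def evenRot (hm : 2 ∣ m) : Subgroup (DihedralGroup m) where
  carrier := {d | ∃ a, parity hm a = 0 ∧ d = r a}
  one_mem' := ⟨0, map_zero _, one_def⟩
  mul_mem' := by
    rintro _ _ ⟨a, ha, rfl⟩ ⟨b, hb, rfl⟩
    exact ⟨a + b, by rw [map_add, ha, hb, add_zero], rfl⟩
  inv_mem' := by
    rintro _ ⟨a, ha, rfl⟩
    exact ⟨-a, by rw [map_neg, ha, neg_zero], by simp⟩

theorem r_mem_evenRot {hm : 2 ∣ m} {a : ZMod m} : r a ∈ evenRot hm ↔ parity hm a = 0 :=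
  ⟨fun ⟨b, hb, e⟩ => by cases e; exact hb, fun h => ⟨a, h, rfl⟩⟩

theorem sr_not_mem_evenRot {hm : 2 ∣ m} {a : ZMod m} : sr a ∉ evenRot hm := fun ⟨_, _, e⟩ => by cases e

theorem mul_self_mem_evenRot (hm : 2 ∣ m) (d : DihedralGroup m) : d * d ∈ evenRot hm := by
  rcases d with a | a
  · rw [r_mul_r, r_mem_evenRot, map_add]
    exact CharTwo.add_self_eq_zero _
  · rw [sr_mul_sr, sub_self, r_mem_evenRot, map_zero]

theorem comm_mem_evenRot (hm : 2 ∣ m) (d e : DihedralGroup m) : d * e * d⁻¹ * e⁻¹ ∈ evenRot hm := by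
  rcases d with a | a <;> rcases e with b | b <;>
    simp [r_mem_evenRot, map_add, map_sub, map_neg, ZMod.neg_eq_self_mod_two, CharTwo.sub_eq_add] <;>
    grind [CharTwo.add_self_eq_zero]

variable {Q : Type*} [Group Q] [Finite Q]

/-- If `y = x⁻¹ α x` is fixed, `α` of odd order and `Q` a 2-group, then `x` is fixed. -/
theorem eq_of_fixed_delta (hQ : IsPGroup 2 Q) {α : MulAut Q} (hα : Odd (orderOf α)) {x : Q}
    (h : α (x⁻¹ * α x) = x⁻¹ * α x) : α x = x := by
  set y := x⁻¹ * α x with hy
  have hx : α x = x * y := by rw [hy, mul_inv_cancel_left]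
  have key : ∀ n : ℕ, (α ^ n) x = x * y ^ n := by
    intro n
    induction n with
    | zero => simp
    | succ n ih => rw [pow_succ', MulAut.mul_apply, ih, map_mul, map_pow, h, hx, mul_assoc, ← pow_succ']
  have h1 : y ^ orderOf α = 1 := by
    have := key (orderOf α)
    rw [pow_orderOf_eq_one, MulAut.one_apply] at this
    exact (left_eq_mul).1 this
  obtain ⟨k, hk⟩ := hQ y
  have hd1 := orderOf_dvd_of_pow_eq_one h1
  obtain ⟨j, -, hj⟩ := (Nat.dvd_prime_pow Nat.prime_two).1 (orderOf_dvd_of_pow_eq_one hk)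
  rcases Nat.eq_zero_or_pos j with rfl | hj0
  · rw [pow_zero, orderOf_eq_one_iff] at hj
    rw [hx, hj, mul_one]
  · rw [hj] at hd1
    exact absurd ((dvd_pow_self 2 hj0.ne').trans hd1) hα.not_two_dvd_nat

/-- An element of order at most 2 fixed by the square of an automorphism of odd order is fixed. -/
theorem fixed_of_sq_fixed {α : MulAut Q} (hα : Odd (orderOf α)) {x : Q} (h : α (α x) = x) : α x = x := by
  obtain ⟨k, hk⟩ := hα
  have key : ∀ j : ℕ, (α ^ (2 * j)) x = x := by
    intro j
    induction j with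
    | zero => simp
    | succ j ih =>
      rw [show 2 * (j + 1) = 1 + (1 + 2 * j) by omega, pow_add, pow_add, pow_one, MulAut.mul_apply,
        MulAut.mul_apply, ih, h]
  have h5 := key (k + 1)
  rwa [show 2 * (k + 1) = orderOf α + 1 by omega, pow_succ, pow_orderOf_eq_one, one_mul] at h5

section ClassLemma

variable [NeZero m] (hm : 4 ∣ m) {α : MulAut Q} (p : Q →* DihedralGroup m)

local notation "h2m" => (Dvd.dvd.trans (dvd_mul_left 2 2) hm : 2 ∣ m)

variable (hp : Surjective p) (hsq : ∀ x, p (α (x * x)) = p (x * x))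
  (hcomm : ∀ x y, p (α (x * y * x⁻¹ * y⁻¹)) = p (x * y * x⁻¹ * y⁻¹))

include hm hp hsq hcomm

/-- Rotations stay rotations, with the same parity. -/
theorem map_rot (x : Q) (a : ZMod m) (hx : p x = r a) :
    ∃ a', p (α x) = r a' ∧ parity h2m a' = parity h2m a := by
  have odd_case : ∀ (x : Q) (a : ZMod m), p x = r a → a + a ≠ 0 →
      ∃ a', p (α x) = r a' ∧ (a' = a ∨ a' = a + half m) := by
    intro x a hx ha
    have h := hsq x
    rw [map_mul, map_mul, map_mul, hx, r_mul_r] at h
    rcases hd : p (α x) with a' | a'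
    · rw [hd, r_mul_r, r.injEq] at h
      exact ⟨a', rfl, (add_self_eq_iff h2m).1 h⟩
    · rw [hd, sr_mul_sr, sub_self, r.injEq] at h
      exact absurd h.symm ha
  obtain ⟨y, hy⟩ := hp (r 1)
  have h11 : (1 : ZMod m) + 1 ≠ 0 := by
    intro e
    have e2 : ((2 : ℕ) : ZMod m) = 0 := by push_cast; linear_combination e
    rw [ZMod.natCast_eq_zero_iff] at e2
    have := Nat.le_of_dvd (by omega) (hm.trans e2)
    omega
  by_cases ha : a + a = 0
  · obtain ⟨b, hb, hb'⟩ := odd_case y 1 hy h11
    have h := hcomm x y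
    simp only [map_mul, map_inv, hx, hy, hb, inv_r, r_mul_r] at h
    have hbb : b + b ≠ 0 := by
      rcases hb' with rfl | rfl
      · exact h11
      · intro e
        exact h11 (by linear_combination e - half_add_half (m := m) h2m)
    rcases hd : p (α x) with a' | a'
    · have h3 := hsq x
      rw [map_mul, map_mul, map_mul, hx, hd, r_mul_r, r_mul_r, r.injEq] at h3
      refine ⟨a', rfl, ?_⟩
      rcases (add_self_eq_iff h2m).1 h3 with rfl | rfl
      · rfl
      · rw [map_add, parity_half hm, add_zero]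
    · rw [hd] at h
      simp only [inv_sr, sr_mul_r, sr_mul_sr, r_mul_r, r.injEq] at h
      exact absurd (show b + b = 0 by linear_combination -h) hbb
  · obtain ⟨a', hd, h'⟩ := odd_case x a hx ha
    refine ⟨a', hd, ?_⟩
    rcases h' with rfl | rfl
    · rfl
    · rw [map_add, parity_half hm, add_zero]

/-- Reflections stay reflections. -/
theorem map_refl (x : Q) (a : ZMod m) (hx : p x = sr a) : ∃ a', p (α x) = sr a' := by
  obtain ⟨y, hy⟩ := hp (r 1)
  obtain ⟨b, hb, hbp⟩ := map_rot hm p hp hsq hcomm y 1 hy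
  rcases hd : p (α x) with a' | a'
  · have h := hcomm x y
    simp only [map_mul, map_inv, hx, hy, hb, hd, inv_r, inv_sr, r_mul_r, sr_mul_r, sr_mul_sr,
      r.injEq] at h
    have e : ((2 : ℕ) : ZMod m) = 0 := by push_cast; linear_combination h
    rw [ZMod.natCast_eq_zero_iff] at e
    have := Nat.le_of_dvd (by omega) (hm.trans e)
    omega
  · exact ⟨a', rfl⟩

/-- The class lemma. -/
theorem mul_map_mem_evenRot (hα : Odd (orderOf α)) (x : Q) :
    (p x)⁻¹ * p (α x) ∈ evenRot h2m := by
  rcases hx : p x with a | a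
  · obtain ⟨a', hd, ha'⟩ := map_rot hm p hp hsq hcomm x a hx
    rw [hd, inv_r, r_mul_r, r_mem_evenRot, map_add, map_neg, ha', ← sub_eq_neg_add, sub_self]
  · obtain ⟨a', hd⟩ := map_refl hm p hp hsq hcomm x a hx
    rw [hd, inv_sr, sr_mul_sr, r_mem_evenRot]
    set y := x⁻¹ * α x with hy
    have hpy : p y = r (a' - a) := by rw [hy, map_mul, map_inv, hx, hd, inv_sr, sr_mul_sr]
    have hrot : ∀ i : ℕ, ∃ c, p ((α ^ i) y) = r c ∧ parity h2m c = parity h2m (a' - a) := by
      intro i
      induction i with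
      | zero => exact ⟨_, by simpa using hpy, rfl⟩
      | succ i ih =>
        obtain ⟨c, hc, hc'⟩ := ih
        obtain ⟨c', h1, h2⟩ := map_rot hm p hp hsq hcomm _ c hc
        exact ⟨c', by rw [pow_succ', MulAut.mul_apply]; exact h1, h2.trans hc'⟩
    have key : ∀ n : ℕ, ∃ c, p ((α ^ n) x) = sr c ∧
        parity h2m c = parity h2m a + n • parity h2m (a' - a) := by
      intro n
      induction n with
      | zero => exact ⟨a, by simpa using hx, by simp⟩
      | succ n ih =>
        obtain ⟨c, hc, hc'⟩ := ih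
        obtain ⟨d, hd1, hd2⟩ := hrot n
        refine ⟨c + d, ?_, by rw [map_add, hc', hd2, succ_nsmul, add_assoc]⟩
        have e : α x = x * y := by rw [hy, mul_inv_cancel_left]
        rw [pow_succ, MulAut.mul_apply, e, map_mul, map_mul, hc, hd1, sr_mul_r]
    obtain ⟨c, hc, hc'⟩ := key (orderOf α)
    rw [pow_orderOf_eq_one, MulAut.one_apply, hx, sr.injEq] at hc
    subst hc
    have h0 : orderOf α • parity h2m (a' - a) = 0 := left_eq_add.1 hc'
    rwa [nsmul_eq_mul, (ZMod.natCast_eq_one_iff_odd).2 hα, one_mul] at h0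

end ClassLemma

end Cfsg.Agent.DihedralPair
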