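import Cfsg.Agent.Lib.DihedralPair.Radical
import Cfsg.Agent.Lib.IndexFour.Fusion

/-!
# Fusion read off from elements of odd order normalising essential subgroups
-/

set_option autoImplicit false
set_option linter.unusedSectionVars false

namespace Cfsg.Agent.DihedralPair

open Subgroup Cfsg Cfsg.FusionSystem Cfsg.Agent.Fusion

variable {G : Type*} [Group G] [Finite G] (S : Sylow 2 G)

/-- An automorphism of odd order induced by conjugation is induced by an element of odd order. -/
theorem exists_odd_conj {R : Subgroup G} {a : MulAut R}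
    (hR : R ≤ (S : Subgroup G)) (ha : a ∈ (groupFusionSystem (S : Subgroup G)).autGroup R)
    (ho : Odd (orderOf a)) :
    ∃ n ∈ normalizer (R : Set G), Odd (orderOf n) ∧ ∀ x : R, ((a x : R) : G) = n * x * n⁻¹ := by
  rw [group_autGroup hR] at ha
  obtain ⟨g, -, hg⟩ := mem_autInducedBy_iff.1 ha
  have hgN := mem_normalizer_of_aut hg
  obtain ⟨t, m, hm, ht⟩ := Nat.exists_eq_two_pow_mul_odd (orderOf_pos g).ne'
  have hag : a = R.normalizerMonoidHom ⟨g, hgN⟩ := MulEquiv.ext fun x => Subtype.ext (hg x)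
  -- a power of `g` of odd order with the same action
  obtain ⟨u, hu⟩ := exists_pow_eq_self_of_coprime (x := a) (n := 2 ^ t)
    ((Nat.coprime_two_left.2 ho).pow_left t)
  refine ⟨(g ^ 2 ^ t) ^ u, pow_mem (pow_mem hgN _) _, ?_, fun x => ?_⟩
  · refine Odd.of_dvd_nat ?_ (orderOf_pow_dvd u)
    rw [orderOf_pow' _ (by positivity), ht, Nat.gcd_eq_right (dvd_mul_right _ _),
      Nat.mul_div_cancel_left _ (by positivity)]
    exact hm
  · conv_lhs => rw [← hu, hag, ← map_pow, ← map_pow]
    rfl

/-- Equivalences respected by `S` and by the odd-order normalisers of `S` and of the essential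
subgroups are respected by fusion. -/
theorem rel_of_essential (Rel : G → G → Prop) (hRel : Equivalence Rel)
    (hin : ∀ s ∈ (S : Subgroup G), ∀ x ∈ (S : Subgroup G), Rel x (s * x * s⁻¹))
    (hodd : ∀ R : Subgroup G, (R = (S : Subgroup G) ∨
        (groupFusionSystem (S : Subgroup G)).IsEssential 2 R) →
      ∀ n ∈ normalizer (R : Set G), Odd (orderOf n) → ∀ x ∈ R, Rel x (n * x * n⁻¹))
    {x g : G} (hx : x ∈ (S : Subgroup G)) (hgx : g * x * g⁻¹ ∈ (S : Subgroup G)) :
    Rel x (g * x * g⁻¹) := by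
  have : Fact (Nat.Prime 2) := ⟨Nat.prime_two⟩
  set F := groupFusionSystem (S : Subgroup G) with hFdef
  have hF : F.IsSaturated 2 := groupFusionSystem_saturated S
  let E : FusionSystem (S : Subgroup G) :=
    subsystemOf F (fun P φ => ∀ x : P, Rel x (φ x))
      (fun P g hP hg x => hin g hg x (hP x.2))
      (fun P Q φ ψ _ _ hφ hψ h x => hRel.trans (hφ x) (hψ ⟨φ x, h x⟩))
      (fun P φ ψ _ hφ _ hψ y => by
        obtain ⟨_, x, rfl⟩ := y
        rw [hψ x]
        exact hRel.symm (hφ x))
  have hle : F ≤ E := alperin_essential S.2 hF E fun R hR => by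
    have hn : F.IsFullyNormalized R := by
      rcases hR with rfl | h
      · exact isFullyNormalized_self F
      · exact h.2.1
    have hRS := hn.1
    let W : Subgroup (MulAut R) :=
      { carrier := {a | ∀ x : R, Rel x (a x)}
        one_mem' := fun x => hRel.refl _
        mul_mem' := fun {a b} ha hb x => hRel.trans (hb x) (ha (b x))
        inv_mem' := fun {a} ha x => hRel.symm (by simpa using ha (a⁻¹ x)) }
    intro a ha
    have hW : a ∈ W := autGroup_le_of_odd S.2 hF hn W (fun b hb x => by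
        obtain ⟨s, hs, he⟩ := mem_autInducedBy_iff.1 hb
        rw [he]
        exact hin s hs x (hRS x.2))
      (fun b hb ho x => by
        obtain ⟨n, hnN, hno, he⟩ := exists_odd_conj S hRS hb ho
        rw [he]
        exact hodd R hR n hnN hno x x.2) ha
    exact Subgroup.subset_closure ⟨(Agent.Fusion.mem_autGroup_iff hRS).1 ha, hW⟩
  have hmem : conjHom (zpowers x) g ∈ F.Hom (zpowers x) := by
    refine conjHom_mem_groupHom (zpowers_le.2 hx) ?_
    rw [MonoidHom.map_zpowers, zpowers_le]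
    exact hgx
  exact (hle _ hmem).2 ⟨x, mem_zpowers x⟩

/-- With no normal subgroup of odd index or of index two the group is perfect. -/
theorem commutator_eq_top (hidx : ∀ N : Subgroup G, N.Normal → Odd N.index → N = ⊤)
    (h2 : ∀ N : Subgroup G, N.Normal → N.index ≠ 2) : commutator G = ⊤ := by
  have : Fact (Nat.Prime 2) := ⟨Nat.prime_two⟩
  set K := commutator G ⊔ closure {x : G | Odd (orderOf x)} with hK
  have hKn : K.Normal := Normal.of_map_subtype_eq_or (H := K) (le_sup_left)
  have hp : IsPGroup 2 (G ⧸ K) := by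
    intro q
    obtain ⟨g, rfl⟩ := QuotientGroup.mk'_surjective K q
    obtain ⟨t, m, hm, ht⟩ := Nat.exists_eq_two_pow_mul_odd (orderOf_pos g).ne'
    refine ⟨t, ?_⟩
    rw [← map_pow]
    refine (QuotientGroup.eq_one_iff _).2 (Subgroup.mem_sup_right (subset_closure ?_))
    show Odd (orderOf (g ^ 2 ^ t))
    rw [orderOf_pow' _ (by positivity), ht, Nat.gcd_eq_right (dvd_mul_right _ _),
      Nat.mul_div_cancel_left _ (by positivity)]
    exact hm
  have hKtop : K = ⊤ := by
    by_contra hne
    obtain ⟨k, hk⟩ := IsPGroup.iff_card.1 hp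
    obtain ⟨H, hKH, hH⟩ := exists_coatom hk hne
    have hHn : H.Normal := Normal.of_map_subtype_eq_or (le_sup_left.trans hKH)
    exact h2 H hHn hH
  refine hidx _ inferInstance ?_
  rw [index_eq_card, ← Nat.not_even_iff_odd, even_iff_two_dvd]
  intro hd
  obtain ⟨q, hq⟩ := exists_prime_orderOf_dvd_card' (G := G ⧸ commutator G) 2 hd
  have hcomm : ∀ u v : G ⧸ commutator G, Commute u v := fun u v =>
    (inferInstance : CommGroup (Abelianization G)).mul_comm u v
  have hall : ∀ g ∈ K, Odd (orderOf (QuotientGroup.mk' (commutator G) g)) := by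
    intro g hg
    rw [hK, Subgroup.mem_sup_of_normal_left] at hg
    obtain ⟨c, hc, y, hy, rfl⟩ := hg
    rw [map_mul, show QuotientGroup.mk' (commutator G) c = 1 from (QuotientGroup.eq_one_iff c).2 hc,
      one_mul]
    induction hy using Subgroup.closure_induction with
    | mem z hz => exact Odd.of_dvd_nat hz (orderOf_map_dvd _ z)
    | one => rw [map_one, orderOf_one]; exact odd_one
    | mul a b _ _ ia ib =>
      rw [map_mul]
      exact (ia.mul ib).of_dvd_nat ((Commute.orderOf_mul_dvd_lcm (hcomm (QuotientGroup.mk' (commutator G) a) (QuotientGroup.mk' (commutator G) b))).trans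
        (Nat.lcm_dvd_mul _ _))
    | inv a _ ia => rwa [map_inv, orderOf_inv]
  obtain ⟨g, rfl⟩ := QuotientGroup.mk'_surjective (commutator G) q
  have := hall g (hKtop ▸ mem_top g)
  rw [hq] at this
  exact absurd this (by decide)
where
  Normal.of_map_subtype_eq_or {H : Subgroup G} (h : commutator G ≤ H) : H.Normal :=
    ⟨fun x hx g => by
      have := H.mul_mem (h (commutator_mem_commutator (mem_top g) (mem_top x))) hx
      simpa [commutatorElement_def, mul_assoc] using this⟩
  exists_coatom {K : Subgroup G} [K.Normal] {k : ℕ} (hk : Nat.card (G ⧸ K) = 2 ^ k) (hne : K ≠ ⊤) :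
      ∃ H : Subgroup G, K ≤ H ∧ H.index = 2 := by
    have : Fact (Nat.Prime 2) := ⟨Nat.prime_two⟩
    have hp : IsPGroup 2 (G ⧸ K) := IsPGroup.of_card hk
    have hbt : (⊥ : Subgroup (G ⧸ K)) ≠ ⊤ := fun e => hne (by
      have := congrArg (Subgroup.comap (QuotientGroup.mk' K)) e
      rwa [MonoidHom.comap_bot, QuotientGroup.ker_mk', Subgroup.comap_top] at this)
    obtain ⟨M, hM, -⟩ := (eq_top_or_exists_le_coatom (⊥ : Subgroup (G ⧸ K))).resolve_left hbt
    refine ⟨M.comap (QuotientGroup.mk' K), fun g hg => ?_, ?_⟩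
    · rw [Subgroup.mem_comap, show QuotientGroup.mk' K g = 1 from (QuotientGroup.eq_one_iff g).mpr hg]
      exact M.one_mem
    · rw [Subgroup.index_comap_of_surjective M (QuotientGroup.mk'_surjective K),
        Agent.PGroup.index_of_isCoatom hp hM]

/-- A subgroup absorbing fusion contains `S`. -/
theorem sylow_le_of_essential (hperf : commutator G = ⊤) (T : Subgroup G)
    (hin : ∀ s ∈ (S : Subgroup G), ∀ x ∈ (S : Subgroup G), x⁻¹ * (s * x * s⁻¹) ∈ T)
    (hodd : ∀ R : Subgroup G, (R = (S : Subgroup G) ∨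
        (groupFusionSystem (S : Subgroup G)).IsEssential 2 R) →
      ∀ n ∈ normalizer (R : Set G), Odd (orderOf n) → ∀ x ∈ R, x⁻¹ * (n * x * n⁻¹) ∈ T) :
    (S : Subgroup G) ≤ T := by
  refine IndexFour.le_of_rel hperf S T fun x hx g hgx => ?_
  refine rel_of_essential S (fun a b => a⁻¹ * b ∈ T) ⟨fun a => ?_, fun h => ?_, fun h h' => ?_⟩
    hin hodd hx hgx
  · rw [inv_mul_cancel]; exact one_mem T
  · simpa using inv_mem h
  · simpa [mul_assoc] using mul_mem h h'

/-- An element of a normaliser is the product of a 2-element and an odd-order element of it. -/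
theorem exists_two_mul_odd (n : G) :
    ∃ i j : ℕ, n = n ^ i * n ^ j ∧ (∃ t, orderOf (n ^ i) = 2 ^ t) ∧ Odd (orderOf (n ^ j)) := by
  obtain ⟨t, m, hm, ht⟩ := Nat.exists_eq_two_pow_mul_odd (orderOf_pos n).ne'
  obtain ⟨a, b, hab⟩ : ∃ a b : ℤ, ((2 ^ t : ℕ) : ℤ) * a + (m : ℤ) * b = 1 :=
    ⟨Int.gcdA (2 ^ t : ℕ) m, Int.gcdB (2 ^ t : ℕ) m, by
      rw [← Int.gcd_eq_gcd_ab, Int.gcd_natCast_natCast, (Nat.coprime_two_left.2 hm).pow_left t]; rfl⟩
  set M := orderOf n with hM
  refine ⟨((m : ℤ) * b % M).toNat, (((2 ^ t : ℕ) : ℤ) * a % M).toNat, ?_, ?_, ?_⟩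
  · have e : ∀ z : ℤ, n ^ ((z % M).toNat) = n ^ z := fun z => by
      rw [← zpow_natCast, Int.toNat_of_nonneg (Int.emod_nonneg _ (by exact_mod_cast (orderOf_pos n).ne')),
        zpow_mod_orderOf]
    rw [e, e, ← zpow_add, add_comm, hab, zpow_one]
  · rw [← zpow_natCast, Int.toNat_of_nonneg (Int.emod_nonneg _ (by exact_mod_cast (orderOf_pos n).ne')),
      zpow_mod_orderOf, zpow_mul]
    have hd : orderOf ((n ^ (m : ℤ)) ^ b) ∣ 2 ^ t := by
      refine (orderOf_zpow_dvd_of b).trans (dvd_of_eq ?_)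
      rw [zpow_natCast, orderOf_pow' _ hm.pos.ne', ← hM, ht, Nat.gcd_eq_right (dvd_mul_left _ _),
        Nat.mul_div_cancel _ hm.pos]
    obtain ⟨s, -, hs⟩ := (Nat.dvd_prime_pow Nat.prime_two).1 hd
    exact ⟨s, hs⟩
  · rw [← zpow_natCast, Int.toNat_of_nonneg (Int.emod_nonneg _ (by exact_mod_cast (orderOf_pos n).ne')),
      zpow_mod_orderOf, zpow_mul]
    refine hm.of_dvd_nat ((orderOf_zpow_dvd_of a).trans (dvd_of_eq ?_))
    rw [zpow_natCast, orderOf_pow' _ (by positivity), ← hM, ht, Nat.gcd_eq_right (dvd_mul_right _ _),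
      Nat.mul_div_cancel_left _ (by positivity)]
where
  orderOf_zpow_dvd_of {x : G} (b : ℤ) : orderOf (x ^ b) ∣ orderOf x :=
    orderOf_dvd_of_mem_zpowers (zpow_mem (mem_zpowers x) b)

end Cfsg.Agent.DihedralPair
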