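import Mathlib.GroupTheory.OrderOfElement
import Mathlib.Algebra.Group.End
import Mathlib.Algebra.Group.Subgroup.Finite
import Mathlib.Algebra.Group.Subgroup.Pointwise

/-!
# A class of transvections without two commuting members

On a group `A` of exponent two let `T` be a set of transvections, closed under conjugation by its
members, in which commuting members are equal.  If `T` has two members, its centres form a
subgroup `{1, z, z', z z'}`, complemented by the common fixed points.
-/

set_option autoImplicit false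
set_option linter.unusedSectionVars false

namespace Cfsg.Agent.DihedralPair

variable {A : Type*} [Group A]

/-- `δ` is a transvection with centre `z`. -/
structure Trans (δ : MulAut A) (z : A) : Prop where
  moves : ∀ a, δ a = a ∨ δ a = a * z
  fix : δ z = z
  ne_one : z ≠ 1
  exists_moved : ∃ a, δ a ≠ a

theorem comm_of_mul_self (hA : ∀ a : A, a * a = 1) (a b : A) : a * b = b * a := by
  have hi : ∀ c : A, c⁻¹ = c := fun c => inv_eq_of_mul_eq_one_right (hA c)
  calc a * b = (a * b)⁻¹ := (hi _).symm
    _ = b * a := by rw [mul_inv_rev, hi, hi]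

theorem Trans.centre_unique {δ : MulAut A} {z w : A} (h : Trans δ z) (h' : Trans δ w) : z = w := by
  obtain ⟨a, ha⟩ := h.exists_moved
  have h1 := (h.moves a).resolve_left ha
  have h2 := (h'.moves a).resolve_left ha
  exact mul_left_cancel (h1.symm.trans h2)

theorem Trans.conj {δ : MulAut A} {z : A} (h : Trans δ z) (φ : MulAut A) :
    Trans (φ * δ * φ⁻¹) (φ z) := by
  refine ⟨fun a => ?_, by simp [MulAut.mul_apply, h.fix], fun e => h.ne_one (φ.injective (e.trans (map_one φ).symm)), ?_⟩
  · rcases h.moves (φ⁻¹ a) with e | e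
    · left; simp only [MulAut.mul_apply, e, MulAut.apply_inv_self]
    · right; simp only [MulAut.mul_apply, e, map_mul, MulAut.apply_inv_self]
  · obtain ⟨a, ha⟩ := h.exists_moved
    exact ⟨φ a, fun e => ha (φ.injective (by simpa [MulAut.mul_apply] using e))⟩

theorem Trans.apply_apply (hA : ∀ a : A, a * a = 1) {δ : MulAut A} {z : A} (h : Trans δ z) (a : A) :
    δ (δ a) = a := by
  rcases h.moves a with e | e
  · rw [e, e]
  · rw [e, map_mul, h.fix, e, mul_assoc, hA, mul_one]

theorem Trans.inv_eq (hA : ∀ a : A, a * a = 1) {δ : MulAut A} {z : A} (h : Trans δ z) : δ⁻¹ = δ :=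
  inv_eq_of_mul_eq_one_right (MulEquiv.ext (h.apply_apply hA))

/-- An involution-free automorphism of a four-group fixing a nontrivial element is trivial on it. -/
theorem fixes_of_card_four [Finite A] {L : Subgroup A} (hL : Nat.card L = 4) {x : MulAut A}
    (hodd : Odd (orderOf x)) (hinv : ∀ a ∈ L, x a ∈ L) {z : A} (hz : z ∈ L) (hz1 : z ≠ 1)
    (hxz : x z = z) {a : A} (ha : a ∈ L) : x a = a := by
  classical
  by_contra hne
  have h2 : x (x a) = a := by
    by_contra h3
    have h1 : ∀ b, x b = b → b ≠ a ∧ b ≠ x a ∧ b ≠ x (x a) := fun b hb =>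
      ⟨fun e => hne (e ▸ hb), fun e => hne (x.injective (e ▸ hb)),
        fun e => hne (x.injective (x.injective (e ▸ hb)))⟩
    obtain ⟨z1, z2, z3⟩ := h1 z hxz
    obtain ⟨o1, o2, o3⟩ := h1 1 (map_one x)
    have e : ({1, z, a, x a, x (x a)} : Finset A).card = 5 := by
      have a1 : a ≠ x a := fun e => hne e.symm
      have a2 : a ≠ x (x a) := fun e => h3 e.symm
      have a3 : x a ≠ x (x a) := fun e => a1 (x.injective e)
      simp [o1, o2, o3, z1, z2, z3, a1, a2, a3, hz1.symm]
    have hsub : (({1, z, a, x a, x (x a)} : Finset A) : Set A) ⊆ L := by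
      intro b hb
      simp only [Finset.coe_insert, Finset.coe_singleton, Set.mem_insert_iff,
        Set.mem_singleton_iff] at hb
      rcases hb with rfl | rfl | rfl | rfl | rfl
      exacts [one_mem _, hz, ha, hinv _ ha, hinv _ (hinv _ ha)]
    have := Set.ncard_le_ncard hsub (Set.toFinite _)
    rw [Set.ncard_coe_finset, e, ← Nat.card_coe_set_eq] at this
    have h4 : Nat.card (L : Set A) = 4 := hL
    omega
  obtain ⟨k, hk⟩ := hodd
  have h4 : ∀ j : ℕ, (x ^ (2 * j)) a = a := by
    intro j
    induction j with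
    | zero => simp
    | succ j ih =>
      rw [show 2 * (j + 1) = 1 + (1 + 2 * j) by omega, pow_add, pow_add, pow_one,
        MulAut.mul_apply, MulAut.mul_apply, ih, h2]
  apply hne
  have h5 := h4 (k + 1)
  rw [show 2 * (k + 1) = orderOf x + 1 by omega, pow_succ, pow_orderOf_eq_one, one_mul] at h5
  exact h5

/-- Transvections, closed under mutual conjugation, commuting ones being equal. -/
structure Config (T : Set (MulAut A)) : Prop where
  sq : ∀ a : A, a * a = 1
  trans : ∀ t ∈ T, ∃ z, Trans t z
  conj : ∀ t ∈ T, ∀ t' ∈ T, t * t' * t⁻¹ ∈ T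
  eq_of_commute : ∀ t ∈ T, ∀ t' ∈ T, t * t' = t' * t → t = t'

/-- The subgroup generated by the centres. -/
def centres (T : Set (MulAut A)) : Subgroup A := Subgroup.closure {z | ∃ t ∈ T, Trans t z}

/-- The common fixed points. -/
def fixed (T : Set (MulAut A)) : Subgroup A where
  carrier := {a | ∀ t ∈ T, t a = a}
  one_mem' := fun t _ => map_one t
  mul_mem' := fun ha hb t ht => by rw [map_mul, ha t ht, hb t ht]
  inv_mem' := fun ha t ht => by rw [map_inv, ha t ht]

theorem mem_fixed {T : Set (MulAut A)} {a : A} : a ∈ fixed T ↔ ∀ t ∈ T, t a = a := Iff.rfl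

theorem map_mem_centres {T : Set (MulAut A)} {φ : MulAut A} (hφ : ∀ t ∈ T, φ * t * φ⁻¹ ∈ T) {a : A}
    (ha : a ∈ centres T) : φ a ∈ centres T := by
  induction ha using Subgroup.closure_induction with
  | mem z hz =>
    obtain ⟨t, ht, hz⟩ := hz
    exact Subgroup.subset_closure ⟨_, hφ t ht, hz.conj φ⟩
  | one => rw [map_one]; exact one_mem _
  | mul x y _ _ ix iy => rw [map_mul]; exact mul_mem ix iy
  | inv x _ ix => rw [map_inv]; exact inv_mem ix

theorem map_mem_fixed [Finite A] {T : Set (MulAut A)} {φ : MulAut A}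
    (hφ : ∀ t ∈ T, φ * t * φ⁻¹ ∈ T) {a : A} (ha : a ∈ fixed T) : φ a ∈ fixed T := by
  have : Finite (MulAut A) := Finite.of_injective (fun b : MulAut A => (b : A → A)) DFunLike.coe_injective
  intro t ht
  let f : T → T := fun t => ⟨φ * t * φ⁻¹, hφ t t.2⟩
  have hf : Function.Injective f := fun t t' e => by
    have := congrArg Subtype.val e
    exact Subtype.ext (mul_left_cancel (mul_right_cancel this))
  obtain ⟨⟨t', ht'⟩, e⟩ := (Finite.injective_iff_surjective.1 hf) ⟨t, ht⟩
  have e' : φ * t' * φ⁻¹ = t := congrArg Subtype.val e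
  rw [← e', MulAut.mul_apply, MulAut.mul_apply, MulAut.inv_apply_self, ha t' ht']

namespace Config

variable {T : Set (MulAut A)} (c : Config T)
include c

/-- Two members move each other's centre. -/
theorem moves_centre {t t' : MulAut A} {z z' : A} (ht : t ∈ T) (ht' : t' ∈ T) (hne : t ≠ t')
    (h : Trans t z) (h' : Trans t' z') : t z' = z' * z ∧ z ≠ z' := by
  have key : ∀ {t t' : MulAut A} {z z' : A}, t ∈ T → t' ∈ T → t ≠ t' → Trans t z → Trans t' z' →
      t z' = z' → t' z = z → False := by
    intro t t' z z' ht ht' hne h h' e1 e2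
    refine hne (c.eq_of_commute t ht t' ht' (MulEquiv.ext fun a => ?_))
    show t (t' a) = t' (t a)
    rcases h.moves a with ea | ea <;> rcases h'.moves a with eb | eb <;>
      simp only [ea, eb, map_mul, e1, e2, mul_assoc, comm_of_mul_self c.sq z z']
  have hz : z ≠ z' := by
    rintro rfl
    exact key ht ht' hne h h' h.fix h'.fix
  refine ⟨(h.moves z').resolve_left fun e1 => ?_, hz⟩
  rcases h'.moves z with e2 | e2
  · exact key ht ht' hne h h' e1 e2
  -- `t'` moves `z`: its conjugate by itself commutes with `t`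
  set u := t' * t * t'⁻¹ with hu
  have hu' : Trans u (z * z') := e2 ▸ h.conj t'
  have hzz : z * z' ≠ z := fun e => h'.ne_one (by simpa using e)
  have hut : u ≠ t := fun e => hzz (hu'.centre_unique (e ▸ h))
  refine key ht (c.conj t' ht' t ht) hut.symm h hu' ?_ ?_
  · rw [map_mul, h.fix, e1]
  · have ez : t'⁻¹ z = z * z' := by rw [h'.inv_eq c.sq, e2]
    show t' (t (t'⁻¹ z)) = z
    rw [ez, map_mul, h.fix, e1, map_mul, e2, h'.fix, mul_assoc, c.sq, mul_one]

variable {t t' : MulAut A} {z z' : A} (ht : t ∈ T) (ht' : t' ∈ T) (hne : t ≠ t')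
  (h : Trans t z) (h' : Trans t' z')
include ht ht' hne h h'

/-- There are at most three centres. -/
theorem centre_cases {u : MulAut A} {w : A} (hu : u ∈ T) (hw : Trans u w) :
    w = z ∨ w = z' ∨ w = z * z' := by
  by_contra hno
  push Not at hno
  obtain ⟨hn1, hn2, hn3⟩ := hno
  have hv : Trans (t * t' * t⁻¹) (z' * z) := (c.moves_centre ht ht' hne h h').1 ▸ h'.conj t
  have e1 := (c.moves_centre hu ht (fun e => hn1 (hw.centre_unique (e ▸ h))) hw h).1
  have e2 := (c.moves_centre hu ht' (fun e => hn2 (hw.centre_unique (e ▸ h'))) hw h').1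
  have e3 := (c.moves_centre hu (c.conj t ht t' ht') (fun e => hn3 (by
    rw [hw.centre_unique (e ▸ hv), comm_of_mul_self c.sq])) hw hv).1
  rw [map_mul, e1, e2, comm_of_mul_self c.sq z w] at e3
  have e4 : z' * (w * (w * z)) = z' * (z * w) := by simpa [mul_assoc] using e3
  have e5 := mul_left_cancel e4
  rw [← mul_assoc, c.sq, one_mul] at e5
  exact hw.ne_one (mul_left_cancel (a := z) (by rw [mul_one]; exact e5.symm))

theorem centres_eq : (centres T : Set A) = {1, z, z', z * z'} := by
  have hzm : z ∈ centres T := Subgroup.subset_closure ⟨t, ht, h⟩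
  have hzm' : z' ∈ centres T := Subgroup.subset_closure ⟨t', ht', h'⟩
  refine Set.Subset.antisymm (fun a ha => ?_) ?_
  · have hc := comm_of_mul_self c.sq
    have hl : ∀ a b : A, a * (a * b) = b := fun a b => by rw [← mul_assoc, c.sq, one_mul]
    induction ha using Subgroup.closure_induction with
    | mem w hw =>
      obtain ⟨u, hu, hw⟩ := hw
      rcases c.centre_cases ht ht' hne h h' hu hw with e | e | e <;> simp [e]
    | one => simp
    | mul x y _ _ ix iy =>
      simp only [Set.mem_insert_iff, Set.mem_singleton_iff] at ix iy ⊢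
      have hlc : ∀ a b d : A, a * (b * d) = b * (a * d) := fun a b d => by
        rw [← mul_assoc, hc a b, mul_assoc]
      rcases ix with ex | ex | ex | ex <;> rcases iy with ey | ey | ey | ey <;>
        simp [ex, ey, mul_assoc, hc z' z, hlc z' z, hl, c.sq]
    | inv x _ ix => rwa [inv_eq_of_mul_eq_one_right (c.sq x)]
  · simp only [Set.insert_subset_iff, Set.singleton_subset_iff]
    exact ⟨one_mem _, hzm, hzm', mul_mem hzm hzm'⟩

theorem card_centres : Nat.card (centres T) = 4 := by
  have hz := (c.moves_centre ht ht' hne h h').2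
  have h3 : z * z' ≠ 1 := fun e => hz (mul_right_cancel (b := z') (by rw [e, c.sq]))
  rw [← SetLike.coe_sort_coe, Nat.card_coe_set_eq, c.centres_eq ht ht' hne h h',
    Set.ncard_insert_of_notMem (by simp [h.ne_one.symm, h'.ne_one.symm, h3.symm]),
    Set.ncard_insert_of_notMem (by
      simp only [Set.mem_insert_iff, Set.mem_singleton_iff, not_or]
      exact ⟨hz, fun e => h'.ne_one (by simpa using e)⟩),
    Set.ncard_pair (fun e => h.ne_one (by simpa using e))]

/-- The fixed points of `T` are those of two members. -/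
theorem mem_fixed_of_two {a : A} (ha : t a = a) (ha' : t' a = a) : a ∈ fixed T := by
  intro u hu
  by_cases e : u = t
  · rwa [e]
  by_cases e' : u = t'
  · rwa [e']
  obtain ⟨w, hw⟩ := c.trans u hu
  have hv : Trans (t * t' * t⁻¹) (z' * z) := (c.moves_centre ht ht' hne h h').1 ▸ h'.conj t
  suffices u = t * t' * t⁻¹ by
    rw [this, h.inv_eq c.sq, MulAut.mul_apply, MulAut.mul_apply, ha, ha', ha]
  by_contra e3
  have n1 := (c.moves_centre hu ht e hw h).2
  have n2 := (c.moves_centre hu ht' e' hw h').2
  have n3 := (c.moves_centre hu (c.conj t ht t' ht') e3 hw hv).2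
  rcases c.centre_cases ht ht' hne h h' hu hw with x | x | x
  · exact n1 x
  · exact n2 x
  · exact n3 (by rw [x, comm_of_mul_self c.sq])

theorem inf_eq_bot : centres T ⊓ fixed T = ⊥ := by
  refine (Subgroup.eq_bot_iff_forall _).2 fun a ha => ?_
  obtain ⟨hc, hf⟩ := Subgroup.mem_inf.1 ha
  have hc' : a ∈ ({1, z, z', z * z'} : Set A) := c.centres_eq ht ht' hne h h' ▸ hc
  have e1 := c.moves_centre ht ht' hne h h'
  have e2 := c.moves_centre ht' ht hne.symm h' h
  rcases hc' with x | x | x | x
  · exact x
  · exact absurd ((x ▸ hf t' ht' : t' z = z).symm.trans e2.1) (fun e => h'.ne_one (by simpa using e))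
  · exact absurd ((x ▸ hf t ht : t z' = z').symm.trans e1.1) (fun e => h.ne_one (by simpa using e))
  · have := (x ▸ hf t ht : t (z * z') = z * z')
    rw [map_mul, h.fix, e1.1] at this
    exact absurd this (fun e => h.ne_one (by simpa using e))

theorem exists_mul_mem_fixed (a : A) : ∃ l ∈ centres T, a * l ∈ fixed T := by
  have hzm : z ∈ centres T := Subgroup.subset_closure ⟨t, ht, h⟩
  have hzm' : z' ∈ centres T := Subgroup.subset_closure ⟨t', ht', h'⟩
  have e1 := (c.moves_centre ht ht' hne h h').1
  have e2 := (c.moves_centre ht' ht hne.symm h' h).1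
  have hc := comm_of_mul_self c.sq
  rcases h.moves a with x | x <;> rcases h'.moves a with y | y
  · exact ⟨1, one_mem _, by rw [mul_one]; exact c.mem_fixed_of_two ht ht' hne h h' x y⟩
  · refine ⟨z, hzm, c.mem_fixed_of_two ht ht' hne h h' (by rw [map_mul, x, h.fix]) ?_⟩
    rw [map_mul, y, e2, mul_assoc, hc z z', ← mul_assoc z' z', c.sq, one_mul]
  · refine ⟨z', hzm', c.mem_fixed_of_two ht ht' hne h h' ?_ (by rw [map_mul, y, h'.fix])⟩
    rw [map_mul, x, e1, mul_assoc, hc z' z, ← mul_assoc z z, c.sq, one_mul]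
  · refine ⟨z * z', mul_mem hzm hzm', c.mem_fixed_of_two ht ht' hne h h' ?_ ?_⟩
    · rw [map_mul, map_mul, x, h.fix, e1, mul_assoc, hc z' z, ← mul_assoc z z, c.sq, one_mul]
    · rw [map_mul, map_mul, y, e2, h'.fix, mul_assoc, hc z z', mul_assoc z' z z',
        ← mul_assoc z' z', c.sq, one_mul, hc z' z]

end Config

end Cfsg.Agent.DihedralPair
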