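import Cfsg.Agent.Lib.DihedralPair.Shape
import Cfsg.Agent.Lib.DihedralPair.Transvection
import Cfsg.Agent.Lib.DihedralPair.Fusion
import Cfsg.Agent.Lib.StrongEmb.Basic

/-!
# The elementary subgroups of order 16

`E i j = four i × four j`.  The conjugates of the transvection `δ₁` (conjugation by the quarter
rotation of the first factor) in `Aut_G(E)` commute only when equal.  If some element of the
normaliser of `E` moves `z₁`, their centres form a four-group `axis i j`, complemented by their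
common fixed points `cfix i j`; both are invariant under the normaliser.
-/

set_option autoImplicit false
set_option linter.unusedSectionVars false

namespace Cfsg.Agent.DihedralPair

open DihedralGroup DihedralSylow Subgroup Cfsg Cfsg.FusionSystem Cfsg.Agent.Fusion

section Dihedral

variable {k : ℕ}

theorem r_quart_mem_normalizer' (hk : 1 ≤ k) (i : ZMod (2 ^ k)) :
    r (quart (2 ^ k)) ∈ Subgroup.normalizer
      ((four (two_dvd_pow hk) i : Subgroup (DihedralGroup (2 ^ k))) : Set (DihedralGroup (2 ^ k))) := by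
  rcases Nat.lt_or_ge k 2 with h | h
  · obtain rfl : k = 1 := by omega
    exact (r_mem_normalizer_four_iff _).2 (Or.inl (by decide))
  · exact r_quart_mem_normalizer h i

theorem r_quart_conj_sr (hk : 2 ≤ k) (c : ZMod (2 ^ k)) :
    r (quart (2 ^ k)) * sr c * (r (quart (2 ^ k)))⁻¹ = sr c * r (half (2 ^ k)) := by
  rw [r_mul_sr, inv_r, sr_mul_r, sr_mul_r]
  congr 1
  linear_combination -quart_add_quart (four_dvd hk) - half_add_half (two_dvd_pow (by omega : 1 ≤ k))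

theorem quart_two : quart (2 ^ 1) = (0 : ZMod (2 ^ 1)) := by decide

theorem sr_ne_one {m : ℕ} (c : ZMod m) : sr c ≠ (1 : DihedralGroup m) := fun e => by
  rw [one_def] at e; cases e

theorem sr_ne_r {m : ℕ} (c a : ZMod m) : sr c ≠ r a := fun e => by cases e

/-- The action of the normaliser of a four-group on it. -/
theorem conj_cases (hk : 1 ≤ k) {i : ZMod (2 ^ k)} {a : DihedralGroup (2 ^ k)}
    (ha : a ∈ Subgroup.normalizer
      ((four (two_dvd_pow hk) i : Subgroup (DihedralGroup (2 ^ k))) : Set (DihedralGroup (2 ^ k)))) :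
    (∀ x ∈ four (two_dvd_pow hk) i, a * x * a⁻¹ = x) ∨
      ∀ x ∈ four (two_dvd_pow hk) i, a * x * a⁻¹ = r (quart (2 ^ k)) * x * (r (quart (2 ^ k)))⁻¹ := by
  have hm := two_dvd_pow hk
  have triv : ∀ f ∈ four hm i, ∀ x ∈ four hm i, f * x * f⁻¹ = x := fun f hf x hx => by
    rw [four_comm hk i f hf x hx, mul_inv_cancel_right]
  have key : ∀ c : ZMod (2 ^ k), (c + c = 0 ∨ c + c = half (2 ^ k)) →
      r c ∈ four hm i ∨ ∃ f ∈ four hm i, r c = r (quart (2 ^ k)) * f := by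
    intro c hc
    rcases hc with h | h
    · exact Or.inl (r_mem_four_iff.2 (eq_zero_or_half h))
    · by_cases hk2 : 2 ≤ k
      · rw [← quart_add_quart (four_dvd hk2)] at h
        rcases (add_self_eq_iff hm).1 h with rfl | rfl
        · exact Or.inr ⟨1, one_mem _, (mul_one _).symm⟩
        · exact Or.inr ⟨r (half _), r_mem_four_iff.2 (Or.inr rfl), (r_mul_r _ _).symm⟩
      · obtain rfl : k = 1 := by omega
        left
        rw [four_eq_top]
        exact mem_top _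
  rcases a with c | c
  · rcases key c ((r_mem_normalizer_four_iff hm).1 ha) with h | ⟨f, hf, he⟩
    · exact Or.inl (triv _ h)
    · refine Or.inr fun x hx => ?_
      calc r c * x * (r c)⁻¹ = r (quart _) * (f * x * f⁻¹) * (r (quart _))⁻¹ := by rw [he]; group
        _ = _ := by rw [triv f hf x hx]
  · have e : sr c = sr i * r (c - i) := by rw [sr_mul_r, add_sub_cancel]
    have hi := sr_mem_four_self hm i
    rcases key (c - i) ((sr_mem_normalizer_four_iff hm).1 ha) with h | ⟨f, hf, he⟩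
    · exact Or.inl (triv _ (e ▸ mul_mem hi h))
    · refine Or.inr fun x hx => ?_
      have hx' : r (quart (2 ^ k)) * x * (r (quart (2 ^ k)))⁻¹ ∈ four hm i :=
        (Subgroup.mem_normalizer_iff.1 (r_quart_mem_normalizer' hk i) x).1 hx
      calc sr c * x * (sr c)⁻¹
          = sr i * (r (quart _) * (f * x * f⁻¹) * (r (quart _))⁻¹) * (sr i)⁻¹ := by
            rw [e, he]; group
        _ = _ := by rw [triv f hf x hx, triv _ hi _ hx']

theorem exists_four_of_sq (hk : 1 ≤ k) (P : Subgroup (DihedralGroup (2 ^ k)))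
    (h : ∀ x ∈ P, x * x = 1) : ∃ i, P ≤ four (two_dvd_pow hk) i := by
  have hrot : ∀ c : ZMod (2 ^ k), r c ∈ P → c = 0 ∨ c = half (2 ^ k) := by
    intro c hc
    have := h _ hc
    rw [r_mul_r, one_def, r.injEq] at this
    exact eq_zero_or_half this
  by_cases hs : ∃ i, sr i ∈ P
  · obtain ⟨i, hi⟩ := hs
    refine ⟨i, ?_⟩
    rintro (c | c) hc
    · exact r_mem_four_iff.2 (hrot c hc)
    · have := hrot _ (sr_mul_sr i c ▸ mul_mem hi hc)
      rcases this with e | e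
      · exact sr_mem_four_iff.2 (Or.inl (sub_eq_zero.1 e))
      · exact sr_mem_four_iff.2 (Or.inr (sub_eq_iff_eq_add'.1 e))
  · push Not at hs
    refine ⟨0, ?_⟩
    rintro (c | c) hc
    · exact r_mem_four_iff.2 (hrot c hc)
    · exact absurd hc (hs c)

end Dihedral

variable {G : Type*} [Group G]

/-- A four-group normalised by an element of odd order is centralised as soon as one non-trivial
element is fixed. -/
theorem centralizes_four [Finite G] {L : Subgroup G} (hL : Nat.card L = 4) {n : G} (hodd : Odd (orderOf n))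
    (hinv : ∀ a ∈ L, n * a * n⁻¹ ∈ L) {z : G} (hz : z ∈ L) (hz1 : z ≠ 1) (hnz : n * z * n⁻¹ = z)
    {a : G} (ha : a ∈ L) : n * a * n⁻¹ = a :=
  fixes_of_card_four hL (x := MulAut.conj n) (hodd.of_dvd_nat (orderOf_map_dvd MulAut.conj n))
    hinv hz hz1 hnz ha

namespace Setup

section General

variable {S : Subgroup G} {k₁ k₂ : ℕ} (st : Setup S k₁ k₂)

/-- The elementary subgroup `four i × four j`. -/
def E (i : ZMod (2 ^ k₁)) (j : ZMod (2 ^ k₂)) : Subgroup G :=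
  st.box (four (two_dvd_pow st.one_le₁) i) (four (two_dvd_pow st.one_le₂) j)

/-- The central involution of the first factor. -/
def z₁ : G := st.φ (r (half _), 1)

/-- The quarter rotation of the first factor. -/
def q₁ : G := st.φ (r (quart _), 1)

theorem swap_E (i : ZMod (2 ^ k₁)) (j : ZMod (2 ^ k₂)) : st.swap.E j i = st.E i j := st.swap_box _ _

theorem swap_z₁ : st.swap.z₁ = st.φ (1, r (half _)) := rfl

theorem mem_E {i : ZMod (2 ^ k₁)} {j : ZMod (2 ^ k₂)} {a : DihedralGroup (2 ^ k₁)}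
    {b : DihedralGroup (2 ^ k₂)} :
    st.φ (a, b) ∈ st.E i j ↔ a ∈ four (two_dvd_pow st.one_le₁) i ∧ b ∈ four (two_dvd_pow st.one_le₂) j :=
  st.mem_box

theorem exists_of_mem_box {A : Subgroup (DihedralGroup (2 ^ k₁))} {B : Subgroup (DihedralGroup (2 ^ k₂))}
    {x : G} (hx : x ∈ st.box A B) : ∃ a ∈ A, ∃ b ∈ B, st.φ (a, b) = x := by
  obtain ⟨⟨a, b⟩, ⟨ha, hb⟩, rfl⟩ := hx
  exact ⟨a, ha, b, hb, rfl⟩

theorem E_le (i : ZMod (2 ^ k₁)) (j : ZMod (2 ^ k₂)) : st.E i j ≤ S := st.box_le _ _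

theorem z₁_mem_E (i : ZMod (2 ^ k₁)) (j : ZMod (2 ^ k₂)) : st.z₁ ∈ st.E i j :=
  st.mem_E.2 ⟨r_mem_four_iff.2 (Or.inr rfl), one_mem _⟩

theorem E_sq {i : ZMod (2 ^ k₁)} {j : ZMod (2 ^ k₂)} {x : G} (hx : x ∈ st.E i j) : x * x = 1 := by
  obtain ⟨a, ha, b, hb, rfl⟩ := st.exists_of_mem_box hx
  rw [← map_mul, Prod.mk_mul_mk, sq_four _ ha, sq_four _ hb, Prod.mk_one_one, map_one]

theorem z₁_ne_one : st.z₁ ≠ 1 := fun e =>
  r_half_ne (two_dvd_pow st.one_le₁) (congrArg Prod.fst (st.inj (e.trans (map_one st.φ).symm)))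

theorem z₁_ne_swap : st.z₁ ≠ st.swap.z₁ := fun e =>
  r_half_ne (two_dvd_pow st.one_le₁) (congrArg Prod.fst (st.inj e))

theorem card_box (A : Subgroup (DihedralGroup (2 ^ k₁))) (B : Subgroup (DihedralGroup (2 ^ k₂))) :
    Nat.card (st.box A B) = Nat.card A * Nat.card B := by
  rw [box, Subgroup.card_map_of_injective st.inj, Nat.card_congr (Subgroup.prodEquiv A B).toEquiv,
    Nat.card_prod]

theorem card_E (i : ZMod (2 ^ k₁)) (j : ZMod (2 ^ k₂)) : Nat.card (st.E i j) = 16 := by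
  rw [E, st.card_box, card_four, card_four]

theorem mem_normalizer_box {A : Subgroup (DihedralGroup (2 ^ k₁))} {B : Subgroup (DihedralGroup (2 ^ k₂))}
    {a : DihedralGroup (2 ^ k₁)} {b : DihedralGroup (2 ^ k₂)} :
    st.φ (a, b) ∈ normalizer (st.box A B : Set G) ↔
      a ∈ normalizer (A : Set (DihedralGroup (2 ^ k₁))) ∧ b ∈ normalizer (B : Set (DihedralGroup (2 ^ k₂))) := by
  constructor
  · intro h
    refine ⟨Subgroup.mem_normalizer_iff.2 fun x => ?_, Subgroup.mem_normalizer_iff.2 fun y => ?_⟩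
    · have := Subgroup.mem_normalizer_iff.1 h (st.φ (x, 1))
      rw [conj_eq, st.mem_box, st.mem_box] at this
      simpa using this
    · have := Subgroup.mem_normalizer_iff.1 h (st.φ (1, y))
      rw [conj_eq, st.mem_box, st.mem_box] at this
      simpa using this
  · rintro ⟨ha, hb⟩
    have key : ∀ (a : DihedralGroup (2 ^ k₁)) (b : DihedralGroup (2 ^ k₂)),
        a ∈ normalizer (A : Set (DihedralGroup (2 ^ k₁))) → b ∈ normalizer (B : Set (DihedralGroup (2 ^ k₂))) →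
        ∀ g ∈ st.box A B, st.φ (a, b) * g * (st.φ (a, b))⁻¹ ∈ st.box A B := by
      intro a b ha hb g hg
      obtain ⟨x, hx, y, hy, rfl⟩ := st.exists_of_mem_box hg
      rw [conj_eq, st.mem_box]
      exact ⟨(Subgroup.mem_normalizer_iff.1 ha x).1 hx, (Subgroup.mem_normalizer_iff.1 hb y).1 hy⟩
    refine Subgroup.mem_normalizer_iff.2 fun g => ⟨key a b ha hb g, fun hg => ?_⟩
    have := key a⁻¹ b⁻¹ (inv_mem ha) (inv_mem hb) _ hg
    rw [show st.φ (a⁻¹, b⁻¹) = (st.φ (a, b))⁻¹ from map_inv st.φ (a, b)] at this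
    simpa [mul_assoc] using this

theorem normalizerIn_box (A : Subgroup (DihedralGroup (2 ^ k₁))) (B : Subgroup (DihedralGroup (2 ^ k₂))) :
    normalizerIn S (st.box A B) = st.box (normalizer (A : Set (DihedralGroup (2 ^ k₁))))
      (normalizer (B : Set (DihedralGroup (2 ^ k₂)))) := by
  ext g
  constructor
  · rintro ⟨hgS, hgN⟩
    obtain ⟨⟨a, b⟩, rfl⟩ := st.exists_preimage hgS
    exact st.mem_box.2 (st.mem_normalizer_box.1 hgN)
  · intro hg
    obtain ⟨a, ha, b, hb, rfl⟩ := st.exists_of_mem_box hg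
    exact ⟨st.mem _, st.mem_normalizer_box.2 ⟨ha, hb⟩⟩

theorem q₁_mem_normalizer (i : ZMod (2 ^ k₁)) (j : ZMod (2 ^ k₂)) :
    st.q₁ ∈ normalizer (st.E i j : Set G) :=
  st.mem_normalizer_box.2 ⟨r_quart_mem_normalizer' st.one_le₁ i, one_mem _⟩

theorem q₂_mem_normalizer (i : ZMod (2 ^ k₁)) (j : ZMod (2 ^ k₂)) :
    st.swap.q₁ ∈ normalizer (st.E i j : Set G) :=
  st.mem_normalizer_box.2 ⟨one_mem _, r_quart_mem_normalizer' st.one_le₂ j⟩

/-- The transvection given by the first factor. -/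
def δ₁ (i : ZMod (2 ^ k₁)) (j : ZMod (2 ^ k₂)) : MulAut (st.E i j) :=
  conjAut (st.q₁_mem_normalizer i j)

/-- The transvection given by the second factor. -/
def δ₂ (i : ZMod (2 ^ k₁)) (j : ZMod (2 ^ k₂)) : MulAut (st.E i j) :=
  conjAut (st.q₂_mem_normalizer i j)

theorem δ₁_δ₂_comm (i : ZMod (2 ^ k₁)) (j : ZMod (2 ^ k₂)) :
    st.δ₁ i j * st.δ₂ i j = st.δ₂ i j * st.δ₁ i j := by
  rw [δ₁, δ₂, conjAut, conjAut, ← map_mul, ← map_mul]
  refine congrArg _ (Subtype.ext ?_)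
  show st.φ (_, 1) * st.φ (1, _) = st.φ (1, _) * st.φ (_, 1)
  rw [← map_mul, ← map_mul, Prod.mk_mul_mk, Prod.mk_mul_mk, mul_one, one_mul, mul_one, one_mul]

/-- The twisted first factor. -/
def twist (χ : DihedralGroup (2 ^ k₁) →* DihedralGroup (2 ^ k₂)) : DihedralGroup (2 ^ k₁) →* G :=
  st.φ.comp ((MonoidHom.id _).prod χ)

theorem twist_apply (χ : DihedralGroup (2 ^ k₁) →* DihedralGroup (2 ^ k₂)) (d : DihedralGroup (2 ^ k₁)) :
    st.twist χ d = st.φ (d, χ d) := rfl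

theorem twist_injective (χ : DihedralGroup (2 ^ k₁) →* DihedralGroup (2 ^ k₂)) :
    Function.Injective (st.twist χ) := fun _ _ e => congrArg Prod.fst (st.inj e)

theorem conj_q₁ (hk : 2 ≤ k₁) {i : ZMod (2 ^ k₁)} {a : DihedralGroup (2 ^ k₁)}
    (ha : a ∈ four (two_dvd_pow st.one_le₁) i) (b : DihedralGroup (2 ^ k₂)) :
    ((a = 1 ∨ a = r (half _)) ∧ st.q₁ * st.φ (a, b) * st.q₁⁻¹ = st.φ (a, b)) ∨
      ((a = sr i ∨ a = sr (i + half _)) ∧ st.q₁ * st.φ (a, b) * st.q₁⁻¹ = st.φ (a, b) * st.z₁) := by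
  rw [q₁, conj_eq, z₁, ← map_mul, Prod.mk_mul_mk, mul_one, one_mul, inv_one, mul_one]
  rcases ha with rfl | rfl | rfl | rfl
  · exact Or.inl ⟨Or.inl rfl, by simp⟩
  · exact Or.inl ⟨Or.inr rfl, by rw [r_mul_r, inv_r, r_mul_r]; simp [add_comm]⟩
  · exact Or.inr ⟨Or.inl rfl, by rw [r_quart_conj_sr hk]⟩
  · exact Or.inr ⟨Or.inr rfl, by rw [r_quart_conj_sr hk]⟩

theorem trans_δ₁ (hk : 2 ≤ k₁) (i : ZMod (2 ^ k₁)) (j : ZMod (2 ^ k₂)) :
    Trans (st.δ₁ i j) ⟨st.z₁, st.z₁_mem_E i j⟩ := by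
  refine ⟨fun x => ?_, Subtype.ext ?_, fun e => st.z₁_ne_one (congrArg Subtype.val e), ?_⟩
  · obtain ⟨a, ha, b, -, he⟩ := st.exists_of_mem_box x.2
    rcases st.conj_q₁ hk ha b with ⟨-, h⟩ | ⟨-, h⟩
    · exact Or.inl (Subtype.ext (by rw [δ₁, coe_conjAut, ← he, h]))
    · exact Or.inr (Subtype.ext (by rw [δ₁, coe_conjAut, Subgroup.coe_mul, ← he, h]))
  · rcases st.conj_q₁ hk (i := i) (r_mem_four_iff.2 (Or.inr rfl)) 1 with ⟨-, h⟩ | ⟨ha, -⟩
    · rw [δ₁, coe_conjAut]; exact h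
    · rcases ha with e | e <;> exact absurd e.symm (sr_ne_r _ _)
  · refine ⟨⟨st.φ (sr i, 1), st.mem_E.2 ⟨sr_mem_four_self _ i, one_mem _⟩⟩, fun e => ?_⟩
    rcases st.conj_q₁ hk (sr_mem_four_self (two_dvd_pow st.one_le₁) i) 1 with ⟨ha, -⟩ | ⟨-, h⟩
    · rcases ha with e | e
      · exact sr_ne_one _ e
      · exact sr_ne_r _ _ e
    · have h2 := congrArg Subtype.val e
      rw [δ₁, coe_conjAut] at h2
      rw [h2, left_eq_mul] at h
      exact st.z₁_ne_one h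

end General

section Sylow

variable [Finite G] {S : Sylow 2 G} {k₁ k₂ : ℕ} (st : Setup (S : Subgroup G) k₁ k₂)

theorem isFullyNormalized_E (i : ZMod (2 ^ k₁)) (j : ZMod (2 ^ k₂)) :
    (groupFusionSystem (S : Subgroup G)).IsFullyNormalized (st.E i j) := by
  have : Fact (Nat.Prime 2) := ⟨Nat.prime_two⟩
  refine ⟨st.E_le i j, fun Q hQ => le_of_eq ?_⟩
  obtain ⟨-, hQS, g, hg⟩ := group_isConj_iff.1 hQ
  have hsq : ∀ x : Q, x * x = 1 := by
    rintro ⟨x, hx⟩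
    obtain ⟨e, he, rfl⟩ := hg ▸ hx
    exact Subtype.ext (show _ * _ = (1 : G) by rw [← map_mul, st.E_sq he, map_one])
  have hsq₁ : ∀ x ∈ (st.pr₁ hQS).range, x * x = 1 := by
    rintro _ ⟨q, rfl⟩; rw [← map_mul, hsq, map_one]
  have hsq₂ : ∀ x ∈ (st.pr₂ hQS).range, x * x = 1 := by
    rintro _ ⟨q, rfl⟩; rw [← map_mul, hsq, map_one]
  obtain ⟨i', hi⟩ := exists_four_of_sq st.one_le₁ _ hsq₁
  obtain ⟨j', hj⟩ := exists_four_of_sq st.one_le₂ _ hsq₂
  have hle : Q ≤ st.E i' j' := fun x hx => by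
    rw [← show st.φ (st.pr₁ hQS ⟨x, hx⟩, st.pr₂ hQS ⟨x, hx⟩) = x from st.φ_pr hQS ⟨x, hx⟩]
    exact st.mem_E.2 ⟨hi ⟨_, rfl⟩, hj ⟨_, rfl⟩⟩
  obtain rfl : Q = st.E i' j' := eq_of_le_of_card_ge hle
    (by rw [st.card_E, ← hg, Subgroup.card_map_of_injective (MulAut.conj g).injective, st.card_E])
  rw [E, E, st.normalizerIn_box, st.normalizerIn_box, st.card_box, st.card_box,
    card_normalizer_four _ i', card_normalizer_four _ j', card_normalizer_four _ i,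
    card_normalizer_four _ j]

theorem conjAut_mem {i : ZMod (2 ^ k₁)} {j : ZMod (2 ^ k₂)} {n : G}
    (hn : n ∈ normalizer (st.E i j : Set G)) :
    conjAut hn ∈ autInducedBy (⊤ : Subgroup G) (st.E i j) :=
  conjAut_mem_autInducedBy (mem_top n) hn

theorem exists_sylow_aut (i : ZMod (2 ^ k₁)) (j : ZMod (2 ^ k₂)) :
    ∃ P : Sylow 2 ↥(autInducedBy (⊤ : Subgroup G) (st.E i j)), (P : Subgroup _) =
      (autInducedBy (S : Subgroup G) (st.E i j)).subgroupOf (autInducedBy ⊤ (st.E i j)) :=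
  haveI : Fact (Nat.Prime 2) := ⟨Nat.prime_two⟩
  aut_sylow_of_normalizer_sylow S
    ((group_isFullyNormalized_iff S (st.E_le i j)).1 (st.isFullyNormalized_E i j))

/-- The automorphisms induced by `S`. -/
theorem aut_cases {i : ZMod (2 ^ k₁)} {j : ZMod (2 ^ k₂)} {α : MulAut (st.E i j)}
    (hα : α ∈ autInducedBy (S : Subgroup G) (st.E i j)) :
    α = 1 ∨ α = st.δ₁ i j ∨ α = st.δ₂ i j ∨ α = st.δ₁ i j * st.δ₂ i j := by
  obtain ⟨g, hgS, hg⟩ := mem_autInducedBy_iff.1 hα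
  have hgN := mem_normalizer_of_aut hg
  obtain ⟨⟨a, b⟩, rfl⟩ := st.exists_preimage hgS
  obtain ⟨ha, hb⟩ := st.mem_normalizer_box.1 hgN
  rcases conj_cases st.one_le₁ ha with h₁ | h₁ <;> rcases conj_cases st.one_le₂ hb with h₂ | h₂
  · refine Or.inl (MulEquiv.ext fun x => Subtype.ext ?_)
    obtain ⟨c, hc, d, hd, he⟩ := st.exists_of_mem_box x.2
    rw [hg, MulAut.one_apply, ← he, conj_eq, h₁ c hc, h₂ d hd]
  · refine Or.inr (Or.inr (Or.inl (MulEquiv.ext fun x => Subtype.ext ?_)))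
    obtain ⟨c, hc, d, hd, he⟩ := st.exists_of_mem_box x.2
    rw [hg, δ₂, coe_conjAut, ← he, conj_eq, h₁ c hc, h₂ d hd, q₁, swap_φ, conj_eq]
    simp
  · refine Or.inr (Or.inl (MulEquiv.ext fun x => Subtype.ext ?_))
    obtain ⟨c, hc, d, hd, he⟩ := st.exists_of_mem_box x.2
    rw [hg, δ₁, coe_conjAut, ← he, conj_eq, h₁ c hc, h₂ d hd, q₁, conj_eq]
    simp
  · refine Or.inr (Or.inr (Or.inr (MulEquiv.ext fun x => Subtype.ext ?_)))
    obtain ⟨c, hc, d, hd, he⟩ := st.exists_of_mem_box x.2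
    rw [hg, MulAut.mul_apply, δ₁, δ₂, coe_conjAut, coe_conjAut, ← he, conj_eq, h₁ c hc, h₂ d hd, q₁, q₁,
      swap_φ, conj_eq, conj_eq]
    simp

theorem δ₂_eq_one (hk : ¬ 2 ≤ k₂) (i : ZMod (2 ^ k₁)) (j : ZMod (2 ^ k₂)) : st.δ₂ i j = 1 := by
  obtain rfl : k₂ = 1 := by have := st.one_le₂; omega
  refine MulEquiv.ext fun x => Subtype.ext ?_
  rw [δ₂, coe_conjAut, MulAut.one_apply, q₁, swap_φ, quart_two, r_zero, Prod.mk_one_one, map_one]
  group

theorem not_trans_mul (hk₁ : 2 ≤ k₁) (hk₂ : 2 ≤ k₂) {i : ZMod (2 ^ k₁)} {j : ZMod (2 ^ k₂)}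
    {w : st.E i j} (h : Trans (st.δ₁ i j * st.δ₂ i j) w) : False := by
  have e₁ : (st.δ₁ i j * st.δ₂ i j) ⟨st.φ (sr i, 1), st.mem_E.2 ⟨sr_mem_four_self _ i, one_mem _⟩⟩ =
      ⟨st.φ (sr i, 1), st.mem_E.2 ⟨sr_mem_four_self _ i, one_mem _⟩⟩ * ⟨st.z₁, st.z₁_mem_E i j⟩ := by
    refine Subtype.ext ?_
    rw [MulAut.mul_apply, δ₁, δ₂, coe_conjAut, coe_conjAut, q₁, q₁, swap_φ, conj_eq, conj_eq,
      Subgroup.coe_mul]
    show _ = st.φ (sr i, 1) * st.φ (r (half _), 1)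
    rw [← map_mul, Prod.mk_mul_mk]
    refine congrArg st.φ (Prod.ext ?_ ?_)
    · show r (quart (2 ^ k₁)) * (1 * sr i * 1⁻¹) * (r (quart (2 ^ k₁)))⁻¹ = sr i * r (half _)
      rw [one_mul, inv_one, mul_one, r_quart_conj_sr hk₁]
    · simp
  have hz : st.swap.z₁ ∈ st.E i j := st.mem_E.2 ⟨one_mem _, r_mem_four_iff.2 (Or.inr rfl)⟩
  have e₂ : (st.δ₁ i j * st.δ₂ i j) ⟨st.φ (1, sr j), st.mem_E.2 ⟨one_mem _, sr_mem_four_self _ j⟩⟩ =
      ⟨st.φ (1, sr j), st.mem_E.2 ⟨one_mem _, sr_mem_four_self _ j⟩⟩ * ⟨st.swap.z₁, hz⟩ := by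
    refine Subtype.ext ?_
    rw [MulAut.mul_apply, δ₁, δ₂, coe_conjAut, coe_conjAut, q₁, q₁, swap_φ, conj_eq, conj_eq,
      Subgroup.coe_mul]
    show _ = st.φ (1, sr j) * st.φ (1, r (half _))
    rw [← map_mul, Prod.mk_mul_mk]
    refine congrArg st.φ (Prod.ext ?_ ?_)
    · simp
    · show 1 * (r (quart (2 ^ k₂)) * sr j * (r (quart (2 ^ k₂)))⁻¹) * 1⁻¹ = sr j * r (half _)
      rw [one_mul, inv_one, mul_one, r_quart_conj_sr hk₂]
  have w₁ : w = ⟨st.z₁, st.z₁_mem_E i j⟩ := by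
    rcases h.moves _ with e | e
    · rw [e₁, mul_eq_left] at e
      exact absurd (congrArg Subtype.val e) st.z₁_ne_one
    · exact (mul_left_cancel (e₁.symm.trans e)).symm
  have w₂ : w = ⟨st.swap.z₁, hz⟩ := by
    rcases h.moves _ with e | e
    · rw [e₂, mul_eq_left] at e
      exact absurd (congrArg Subtype.val e) st.swap.z₁_ne_one
    · exact (mul_left_cancel (e₂.symm.trans e)).symm
  exact st.z₁_ne_swap (congrArg Subtype.val (w₁.symm.trans w₂))

/-- The transvections induced by `S`. -/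
theorem eq_δ_of_trans (hk : 2 ≤ k₁) {i : ZMod (2 ^ k₁)} {j : ZMod (2 ^ k₂)} {α : MulAut (st.E i j)}
    (hα : α ∈ autInducedBy (S : Subgroup G) (st.E i j)) {w : st.E i j} (hw : Trans α w) :
    α = st.δ₁ i j ∨ (2 ≤ k₂ ∧ α = st.δ₂ i j) := by
  obtain ⟨x, hx⟩ := hw.exists_moved
  by_cases hk₂ : 2 ≤ k₂
  · rcases st.aut_cases hα with rfl | rfl | rfl | rfl
    · exact absurd rfl hx
    · exact Or.inl rfl
    · exact Or.inr ⟨hk₂, rfl⟩
    · exact (st.not_trans_mul hk hk₂ hw).elim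
  · rcases st.aut_cases hα with rfl | rfl | rfl | rfl
    · exact absurd rfl hx
    · exact Or.inl rfl
    · rw [st.δ₂_eq_one hk₂] at hx
      exact absurd rfl hx
    · rw [st.δ₂_eq_one hk₂, mul_one]
      exact Or.inl rfl

/-- The class of `δ₁` in `Aut_G(E)`. -/
def Tr (i : ZMod (2 ^ k₁)) (j : ZMod (2 ^ k₂)) : Set (MulAut (st.E i j)) :=
  {t | ∃ a ∈ autInducedBy (⊤ : Subgroup G) (st.E i j), a * st.δ₁ i j * a⁻¹ = t}

theorem δ₁_mem_Tr (i : ZMod (2 ^ k₁)) (j : ZMod (2 ^ k₂)) : st.δ₁ i j ∈ st.Tr i j :=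
  ⟨1, one_mem _, by group⟩

theorem conj_mem_Tr {i : ZMod (2 ^ k₁)} {j : ZMod (2 ^ k₂)} {a t : MulAut (st.E i j)}
    (ha : a ∈ autInducedBy (⊤ : Subgroup G) (st.E i j)) (ht : t ∈ st.Tr i j) :
    a * t * a⁻¹ ∈ st.Tr i j := by
  obtain ⟨b, hb, rfl⟩ := ht
  exact ⟨a * b, mul_mem ha hb, by group⟩

theorem Tr_subset {i : ZMod (2 ^ k₁)} {j : ZMod (2 ^ k₂)} {t : MulAut (st.E i j)} (ht : t ∈ st.Tr i j) :
    t ∈ autInducedBy (⊤ : Subgroup G) (st.E i j) := by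
  obtain ⟨a, ha, rfl⟩ := ht
  exact mul_mem (mul_mem ha (st.conjAut_mem _)) (inv_mem ha)

/-- Commuting conjugates of `δ₁` are equal. -/
theorem config (hk : 2 ≤ k₁) (i : ZMod (2 ^ k₁)) (j : ZMod (2 ^ k₂)) : Config (st.Tr i j) := by
  refine ⟨fun x => Subtype.ext (st.E_sq x.2), ?_, fun t ht t' ht' => st.conj_mem_Tr (st.Tr_subset ht) ht', ?_⟩
  · rintro _ ⟨a, -, rfl⟩
    exact ⟨_, (st.trans_δ₁ hk i j).conj a⟩
  intro t ht t' ht' hc
  by_contra hne
  have : Fact (Nat.Prime 2) := ⟨Nat.prime_two⟩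
  have hsq : ∀ x : st.E i j, x * x = 1 := fun x => Subtype.ext (st.E_sq x.2)
  have : Finite (MulAut (st.E i j)) :=
    Finite.of_injective (fun b : MulAut (st.E i j) => (b : st.E i j → st.E i j)) DFunLike.coe_injective
  set X := autInducedBy (⊤ : Subgroup G) (st.E i j) with hX
  obtain ⟨P, hP⟩ := st.exists_sylow_aut i j
  have hPmem : ∀ x : X, x ∈ P ↔ (x : MulAut (st.E i j)) ∈ autInducedBy (S : Subgroup G) (st.E i j) :=
    fun x => by
      show x ∈ (P : Subgroup X) ↔ _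
      rw [hP]; exact mem_subgroupOf
  have hinv : ∀ u : X, (u : MulAut (st.E i j)) ∈ st.Tr i j → IsPGroup 2 (zpowers u) := by
    intro u hu
    obtain ⟨a, -, he⟩ := hu
    have h1 := ((st.trans_δ₁ hk i j).conj a).apply_apply hsq
    rw [he] at h1
    have h2 : u * u = 1 := Subtype.ext (MulEquiv.ext h1)
    have hd : orderOf u ∣ 2 := orderOf_dvd_of_pow_eq_one (by rw [pow_two, h2])
    obtain ⟨e, -, he⟩ := (Nat.dvd_prime_pow Nat.prime_two).1 (by simpa using hd : orderOf u ∣ 2 ^ 1)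
    exact IsPGroup.of_card (n := e) (by rw [Nat.card_zpowers, he])
  set u : X := ⟨t, st.Tr_subset ht⟩
  set u' : X := ⟨t', st.Tr_subset ht'⟩
  have hcu : Commute u u' := Subtype.ext hc
  have hsup : IsPGroup 2 (zpowers u ⊔ zpowers u' : Subgroup X) := by
    refine IsPGroup.to_sup_of_normal_left' (hinv u ht) (hinv u' ht') ?_
    refine (zpowers_le.2 ?_).trans (centralizer_le_normalizer _)
    rw [Subgroup.mem_centralizer_iff]
    rintro _ ⟨n, rfl⟩
    exact (hcu.zpow_left n).eq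
  obtain ⟨U, hU⟩ := hsup.exists_le_sylow
  obtain ⟨g, hg⟩ := MulAction.exists_smul_eq X U P
  have hin : ∀ v ∈ (U : Subgroup X), g * v * g⁻¹ ∈ P := fun v hv => by
    show g * v * g⁻¹ ∈ (P : Subgroup X)
    rw [← hg, StrongEmb.mem_smul_sylow_iff]
    simpa [mul_assoc] using hv
  have himg : ∀ v : X, (v : MulAut (st.E i j)) ∈ st.Tr i j → g * v * g⁻¹ ∈ P →
      ((g * v * g⁻¹ : X) : MulAut (st.E i j)) = st.δ₁ i j ∨
        (2 ≤ k₂ ∧ ((g * v * g⁻¹ : X) : MulAut (st.E i j)) = st.δ₂ i j) := by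
    intro v hv hvP
    obtain ⟨a, ha, hae⟩ := st.conj_mem_Tr g.2 hv
    refine st.eq_δ_of_trans hk ((hPmem _).1 hvP) (w := a ⟨st.z₁, st.z₁_mem_E i j⟩) ?_
    rw [show ((g * v * g⁻¹ : X) : MulAut (st.E i j)) = (g : MulAut (st.E i j)) * v * (g : MulAut (st.E i j))⁻¹
      from rfl, ← hae]
    exact (st.trans_δ₁ hk i j).conj a
  have h₁ := himg u ht (hin u (hU (Subgroup.mem_sup_left (mem_zpowers u))))
  have h₂ := himg u' ht' (hin u' (hU (Subgroup.mem_sup_right (mem_zpowers u'))))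
  -- so `δ₂` is conjugate to `δ₁`
  set d₁ : X := ⟨st.δ₁ i j, st.conjAut_mem _⟩
  set d₂ : X := ⟨st.δ₂ i j, st.conjAut_mem _⟩
  obtain ⟨hk₂, v, hv, hvd⟩ : 2 ≤ k₂ ∧ ∃ v : X, (v : MulAut (st.E i j)) ∈ st.Tr i j ∧ g * v * g⁻¹ = d₂ := by
    rcases h₁ with e₁ | ⟨hk₂, e₁⟩
    · rcases h₂ with e₂ | ⟨hk₂, e₂⟩
      · have := mul_left_cancel (mul_right_cancel (Subtype.ext (e₁.trans e₂.symm) :
          g * u * g⁻¹ = g * u' * g⁻¹))
        exact absurd (congrArg Subtype.val this) hne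
      · exact ⟨hk₂, u', ht', Subtype.ext e₂⟩
    · exact ⟨hk₂, u, ht, Subtype.ext e₁⟩
  obtain ⟨b, hb, hbv⟩ := hv
  have hd12 : d₁ ≠ d₂ := by
    intro e
    have e' : st.δ₁ i j = st.δ₂ i j := congrArg Subtype.val e
    have := congrArg (fun α : MulAut (st.E i j) =>
      ((α ⟨st.φ (sr i, 1), st.mem_E.2 ⟨sr_mem_four_self _ i, one_mem _⟩⟩ : st.E i j) : G)) e'
    simp only [δ₁, δ₂, coe_conjAut, q₁, swap_φ, conj_eq] at this
    have h3 := congrArg Prod.fst (st.inj this)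
    simp only [one_mul, inv_one, mul_one, r_quart_conj_sr hk, mul_eq_left] at h3
    exact r_half_ne (two_dvd_pow st.one_le₁) h3
  have hd₁P : d₁ ∈ P := (hPmem d₁).2 (conjAut_mem_autInducedBy (st.mem _) _)
  have hd₂P : d₂ ∈ P := (hPmem d₂).2 (conjAut_mem_autInducedBy (st.mem _) _)
  have hgb : (g * ⟨b, hb⟩)⁻¹⁻¹ * d₁ * (g * ⟨b, hb⟩)⁻¹ = d₂ := by
    rw [← hvd]
    refine Subtype.ext ?_
    simp only [Subgroup.coe_mul, InvMemClass.coe_inv, inv_inv, d₁, ← hbv]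
    group
  have hcomm : IsMulCommutative (P : Subgroup X) := by
    refine ⟨⟨fun x y => Subtype.ext (Subtype.ext ?_)⟩⟩
    show ((x : X) : MulAut (st.E i j)) * ((y : X) : MulAut _) = ((y : X) : MulAut _) * ((x : X) : MulAut _)
    have hc12 := st.δ₁_δ₂_comm i j
    have hgen : ∀ z : (P : Subgroup X), ((z : X) : MulAut (st.E i j)) = 1 ∨
        ((z : X) : MulAut (st.E i j)) = st.δ₁ i j ∨ ((z : X) : MulAut (st.E i j)) = st.δ₂ i j ∨
        ((z : X) : MulAut (st.E i j)) = st.δ₁ i j * st.δ₂ i j :=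
      fun z => st.aut_cases ((hPmem _).1 z.2)
    have c₁ : Commute (st.δ₁ i j) (st.δ₂ i j) := hc12
    rcases hgen x with e | e | e | e <;> rcases hgen y with e' | e' | e' | e' <;> rw [e, e'] <;>
      first
        | rfl
        | simp
        | exact c₁.eq
        | exact c₁.symm.eq
        | exact ((Commute.refl _).mul_right c₁).eq
        | exact (c₁.symm.mul_right (Commute.refl _)).eq
        | exact ((Commute.refl _).mul_left c₁.symm).eq
        | exact (c₁.mul_left (Commute.refl _)).eq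
  obtain ⟨n, hn, hne₁⟩ := P.conj_eq_normalizer_conj_of_mem d₁ _ hd₁P (by rw [hgb]; exact hd₂P)
  rw [hgb] at hne₁
  obtain ⟨a, c, hac, ⟨s, hs⟩, hodd⟩ := exists_two_mul_odd n⁻¹
  have hm : n⁻¹ ∈ normalizer ((P : Subgroup X) : Set X) := inv_mem hn
  have haP : n⁻¹ ^ a ∈ (P : Subgroup X) := by
    have h2 : IsPGroup 2 ((P : Subgroup X) ⊔ zpowers (n⁻¹ ^ a) : Subgroup X) := by
      refine IsPGroup.to_sup_of_normal_left' P.2 (IsPGroup.of_card (n := s) (by rw [Nat.card_zpowers, hs])) ?_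
      exact zpowers_le.2 (pow_mem hm a)
    rw [← P.3 h2 le_sup_left]
    exact Subgroup.mem_sup_right (mem_zpowers _)
  have hswap₁ : n⁻¹ * d₁ * n⁻¹⁻¹ = d₂ := by rw [inv_inv]; exact hne₁.symm
  have hswap₂ : n⁻¹ * d₂ * n⁻¹⁻¹ = d₁ := by
    have hP2 : n⁻¹ * d₂ * n⁻¹⁻¹ ∈ (P : Subgroup X) := (Subgroup.mem_normalizer_iff.1 hm d₂).1 hd₂P
    have htr : ∃ w, Trans (d₂ : MulAut (st.E i j)) w :=
      ⟨_, by rw [← hswap₁]; exact (st.trans_δ₁ hk i j).conj _⟩
    obtain ⟨w, hw⟩ := htr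
    have hw' := hw.conj ((n⁻¹ : X) : MulAut (st.E i j))
    rcases st.eq_δ_of_trans hk ((hPmem _).1 hP2) hw' with e | ⟨-, e⟩
    · exact Subtype.ext e
    · exact absurd (mul_left_cancel (mul_right_cancel (hswap₁.trans (Subtype.ext e).symm))) hd12
  have hfix : ∀ d ∈ (P : Subgroup X), n⁻¹ ^ a * d * (n⁻¹ ^ a)⁻¹ = d := fun d hd => by
    rw [show n⁻¹ ^ a * d = d * n⁻¹ ^ a from
      congrArg Subtype.val (hcomm.is_comm.comm ⟨_, haP⟩ ⟨d, hd⟩), mul_inv_cancel_right]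
  have hcP : ∀ d ∈ (P : Subgroup X), n⁻¹ ^ c * d * (n⁻¹ ^ c)⁻¹ ∈ (P : Subgroup X) := fun d hd =>
    (Subgroup.mem_normalizer_iff.1 (pow_mem hm c) d).1 hd
  have key : ∀ d ∈ (P : Subgroup X), n⁻¹ ^ c * d * (n⁻¹ ^ c)⁻¹ = n⁻¹ * d * n⁻¹⁻¹ := by
    intro d hd
    conv_rhs => rw [hac]
    rw [show n⁻¹ ^ a * n⁻¹ ^ c * d * (n⁻¹ ^ a * n⁻¹ ^ c)⁻¹ =
      n⁻¹ ^ a * (n⁻¹ ^ c * d * (n⁻¹ ^ c)⁻¹) * (n⁻¹ ^ a)⁻¹ by group, hfix _ (hcP d hd)]
  have e₁ := (key d₁ hd₁P).trans hswap₁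
  have e₂ := (key d₂ hd₂P).trans hswap₂
  refine hd12 ?_
  have hfix2 : MulAut.conj (n⁻¹ ^ c) (MulAut.conj (n⁻¹ ^ c) d₁) = d₁ := by
    simp only [MulAut.conj_apply]
    rw [e₁, e₂]
  have := fixed_of_sq_fixed (hodd.of_dvd_nat (orderOf_map_dvd MulAut.conj _)) hfix2
  rw [MulAut.conj_apply, e₁] at this
  exact this.symm

/-- The subgroup generated by the centres of the transvections, in `G`. -/
def axis (i : ZMod (2 ^ k₁)) (j : ZMod (2 ^ k₂)) : Subgroup G :=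
  (centres (st.Tr i j)).map (st.E i j).subtype

/-- The common fixed points of the transvections, in `G`. -/
def cfix (i : ZMod (2 ^ k₁)) (j : ZMod (2 ^ k₂)) : Subgroup G :=
  (fixed (st.Tr i j)).map (st.E i j).subtype

theorem axis_le (i : ZMod (2 ^ k₁)) (j : ZMod (2 ^ k₂)) : st.axis i j ≤ st.E i j :=
  Subgroup.map_subtype_le _

theorem cfix_le (i : ZMod (2 ^ k₁)) (j : ZMod (2 ^ k₂)) : st.cfix i j ≤ st.E i j :=
  Subgroup.map_subtype_le _

theorem conj_mem_axis {i : ZMod (2 ^ k₁)} {j : ZMod (2 ^ k₂)} {n : G}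
    (hn : n ∈ normalizer (st.E i j : Set G)) {x : G} (hx : x ∈ st.axis i j) :
    n * x * n⁻¹ ∈ st.axis i j := by
  obtain ⟨y, hy, rfl⟩ := hx
  exact ⟨conjAut hn y, map_mem_centres (fun t ht => st.conj_mem_Tr (st.conjAut_mem hn) ht) hy,
    coe_conjAut hn y⟩

theorem conj_mem_cfix {i : ZMod (2 ^ k₁)} {j : ZMod (2 ^ k₂)} {n : G}
    (hn : n ∈ normalizer (st.E i j : Set G)) {x : G} (hx : x ∈ st.cfix i j) :
    n * x * n⁻¹ ∈ st.cfix i j := by
  obtain ⟨y, hy, rfl⟩ := hx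
  exact ⟨conjAut hn y, map_mem_fixed (fun t ht => st.conj_mem_Tr (st.conjAut_mem hn) ht) hy,
    coe_conjAut hn y⟩

variable (hk : 2 ≤ k₁) {i : ZMod (2 ^ k₁)} {j : ZMod (2 ^ k₂)} {n : G}
  (hn : n ∈ normalizer (st.E i j : Set G)) (hm : n * st.z₁ * n⁻¹ ≠ st.z₁)

include hk hn hm

/-- A second transvection in the class. -/
theorem second : conjAut hn * st.δ₁ i j * (conjAut hn)⁻¹ ∈ st.Tr i j ∧
    st.δ₁ i j ≠ conjAut hn * st.δ₁ i j * (conjAut hn)⁻¹ ∧
    Trans (conjAut hn * st.δ₁ i j * (conjAut hn)⁻¹) (conjAut hn ⟨st.z₁, st.z₁_mem_E i j⟩) := by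
  have h := (st.trans_δ₁ hk i j).conj (conjAut hn)
  refine ⟨st.conj_mem_Tr (st.conjAut_mem hn) (st.δ₁_mem_Tr i j), fun e => hm ?_, h⟩
  have h' : Trans (st.δ₁ i j) (conjAut hn ⟨st.z₁, st.z₁_mem_E i j⟩) := by rw [e]; exact h
  exact congrArg Subtype.val (((st.trans_δ₁ hk i j).centre_unique h').symm)

theorem axis_coe : (st.axis i j : Set G) = {1, st.z₁, n * st.z₁ * n⁻¹, st.z₁ * (n * st.z₁ * n⁻¹)} := by
  obtain ⟨h1, h2, h3⟩ := st.second hk hn hm
  rw [axis, Subgroup.coe_map,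
    (st.config hk i j).centres_eq (st.δ₁_mem_Tr i j) h1 h2 (st.trans_δ₁ hk i j) h3]
  simp [Set.image_insert_eq, coe_conjAut]

theorem z₁_mem_axis : st.z₁ ∈ st.axis i j := by
  rw [← SetLike.mem_coe, st.axis_coe hk hn hm]; simp

theorem conj_z₁_mem_axis : n * st.z₁ * n⁻¹ ∈ st.axis i j := by
  rw [← SetLike.mem_coe, st.axis_coe hk hn hm]; simp

theorem card_axis : Nat.card (st.axis i j) = 4 := by
  obtain ⟨h1, h2, h3⟩ := st.second hk hn hm
  rw [axis, Subgroup.card_map_of_injective (st.E i j).subtype_injective]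
  exact (st.config hk i j).card_centres (st.δ₁_mem_Tr i j) h1 h2 (st.trans_δ₁ hk i j) h3

/-- The axis does not depend on the second index as long as one element moving `z₁` normalises both. -/
theorem axis_eq {j' : ZMod (2 ^ k₂)} (hn' : n ∈ normalizer (st.E i j' : Set G)) :
    st.axis i j' = st.axis i j :=
  SetLike.coe_injective ((st.axis_coe hk hn' hm).trans (st.axis_coe hk hn hm).symm)

theorem axis_inf_cfix {x : G} (hx : x ∈ st.axis i j) (hx' : x ∈ st.cfix i j) : x = 1 := by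
  obtain ⟨h1, h2, h3⟩ := st.second hk hn hm
  obtain ⟨y, hy, rfl⟩ := hx
  obtain ⟨w, hw, hwy⟩ := hx'
  obtain rfl := (st.E i j).subtype_injective hwy
  have := ((st.config hk i j).inf_eq_bot (st.δ₁_mem_Tr i j) h1 h2 (st.trans_δ₁ hk i j) h3).le
    (Subgroup.mem_inf.2 ⟨hy, hw⟩)
  rw [Subgroup.mem_bot.1 this, map_one]

theorem z₁_not_mem_cfix : st.z₁ ∉ st.cfix i j := fun h =>
  st.z₁_ne_one (st.axis_inf_cfix hk hn hm (st.z₁_mem_axis hk hn hm) h)

theorem exists_mul_mem_cfix {x : G} (hx : x ∈ st.E i j) : ∃ l ∈ st.axis i j, x * l ∈ st.cfix i j := by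
  obtain ⟨h1, h2, h3⟩ := st.second hk hn hm
  obtain ⟨l, hl, hl'⟩ := (st.config hk i j).exists_mul_mem_fixed (st.δ₁_mem_Tr i j) h1 h2
    (st.trans_δ₁ hk i j) h3 ⟨x, hx⟩
  exact ⟨l, ⟨l, hl, rfl⟩, ⟨⟨x, hx⟩ * l, hl', rfl⟩⟩

theorem card_cfix : Nat.card (st.cfix i j) = 4 := by
  let f : st.axis i j × st.cfix i j → st.E i j := fun p =>
    ⟨(p.2 : G) * (p.1 : G)⁻¹, mul_mem (st.cfix_le i j p.2.2) (inv_mem (st.axis_le i j p.1.2))⟩
  have hf : Function.Bijective f := by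
    refine ⟨fun p q e => ?_, fun x => ?_⟩
    · have e' : (p.2 : G) * (p.1 : G)⁻¹ = (q.2 : G) * (q.1 : G)⁻¹ := congrArg Subtype.val e
      have e2 : (q.2 : G)⁻¹ * p.2 = (q.1 : G)⁻¹ * p.1 := by
        calc (q.2 : G)⁻¹ * p.2 = (q.2 : G)⁻¹ * ((p.2 : G) * (p.1 : G)⁻¹) * p.1 := by group
          _ = _ := by rw [e']; group
      have h1 := st.axis_inf_cfix hk hn hm (mul_mem (inv_mem q.1.2) p.1.2)
        (e2 ▸ mul_mem (inv_mem q.2.2) p.2.2)
      refine Prod.ext (Subtype.ext (inv_mul_eq_one.1 h1).symm) (Subtype.ext ?_)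
      rw [← e2] at h1
      exact (inv_mul_eq_one.1 h1).symm
    · obtain ⟨l, hl, hl'⟩ := st.exists_mul_mem_cfix hk hn hm x.2
      exact ⟨(⟨l, hl⟩, ⟨_, hl'⟩), Subtype.ext (mul_inv_cancel_right (x : G) l)⟩
  have := Nat.card_eq_of_bijective f hf
  rw [Nat.card_prod, st.card_axis hk hn hm, st.card_E] at this
  omega

theorem cfix_cases {a : DihedralGroup (2 ^ k₁)} {b : DihedralGroup (2 ^ k₂)}
    (h : st.φ (a, b) ∈ st.cfix i j) : a = 1 ∨ a = r (half _) := by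
  obtain ⟨y, hy, he⟩ := h
  have h2 := congrArg Subtype.val (mem_fixed.1 hy _ (st.δ₁_mem_Tr i j))
  rw [δ₁, coe_conjAut, show (y : G) = st.φ (a, b) from he] at h2
  rcases st.conj_q₁ hk (st.mem_E.1 ((show (y : G) = st.φ (a, b) from he) ▸ y.2)).1 b with ⟨ha, -⟩ | ⟨-, h3⟩
  · exact ha
  · rw [h2, left_eq_mul] at h3
    exact absurd h3 st.z₁_ne_one

/-- The element of the axis over `sr i`. -/
theorem axis_shape : ∃ e ∈ four (two_dvd_pow st.one_le₂) j, st.φ (sr i, e) ∈ st.axis i j ∧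
    (2 ≤ k₂ → e = 1 ∨ e = r (half _)) := by
  obtain ⟨h1, h2, h3⟩ := st.second hk hn hm
  have hmv := congrArg Subtype.val
    ((st.config hk i j).moves_centre (st.δ₁_mem_Tr i j) h1 h2 (st.trans_δ₁ hk i j) h3).1
  rw [δ₁, coe_conjAut, Subgroup.coe_mul, coe_conjAut] at hmv
  have hw := st.conj_z₁_mem_axis hk hn hm
  obtain ⟨a, ha, e, he, hae⟩ := st.exists_of_mem_box (st.axis_le i j hw)
  rw [← hae] at hmv hw
  rcases st.conj_q₁ hk ha e with ⟨-, h4⟩ | ⟨hsr, -⟩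
  · rw [hmv, mul_eq_left] at h4
    exact absurd h4 st.z₁_ne_one
  have hz := st.z₁_mem_axis hk hn hm
  have hin : st.φ (sr i, e) ∈ st.axis i j := by
    rcases hsr with rfl | rfl
    · exact hw
    · have := mul_mem hw hz
      rw [z₁, ← map_mul, Prod.mk_mul_mk, sr_mul_r, mul_one, add_assoc,
        half_add_half (two_dvd_pow st.one_le₁), add_zero] at this
      exact this
  refine ⟨e, he, hin, fun hk₂ => ?_⟩
  rcases st.swap.conj_q₁ hk₂ he (sr i) with ⟨h5, -⟩ | ⟨-, h5⟩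
  · exact h5
  · exfalso
    have h6 : st.swap.φ (e, sr i) * st.swap.z₁ ∈ st.axis i j :=
      h5 ▸ st.conj_mem_axis (st.q₂_mem_normalizer i j) hin
    have h7 : st.swap.z₁ ∈ (st.axis i j : Set G) := (Subgroup.mul_mem_cancel_left _ hin).1 h6
    rw [st.axis_coe hk hn hm, ← hae] at h7
    rcases h7 with h8 | h8 | h8 | h8
    · exact st.swap.z₁_ne_one h8
    · exact st.z₁_ne_swap h8.symm
    · have h9 := congrArg Prod.fst (st.inj h8)
      rcases hsr with e' | e' <;> exact sr_ne_one _ (e'.symm.trans h9.symm)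
    · rw [z₁, ← map_mul, Prod.mk_mul_mk] at h8
      have h9 := congrArg Prod.fst (st.inj h8)
      rcases hsr with e' | e' <;> rw [e', r_mul_sr] at h9 <;> exact sr_ne_one _ h9.symm

theorem axis_eq_map (χ : DihedralGroup (2 ^ k₁) →* DihedralGroup (2 ^ k₂))
    (hχ : χ (r (half _)) = 1) (he : st.φ (sr i, χ (sr i)) ∈ st.axis i j) :
    st.axis i j = (four (two_dvd_pow st.one_le₁) i).map (st.twist χ) := by
  symm
  refine eq_of_le_of_card_ge ?_ ?_
  · rintro _ ⟨d, hd, rfl⟩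
    rcases hd with rfl | rfl | rfl | rfl
    · rw [map_one]; exact one_mem _
    · rw [twist_apply, hχ]; exact st.z₁_mem_axis hk hn hm
    · exact he
    · rw [← sr_mul_r, map_mul, twist_apply, twist_apply, hχ]
      exact mul_mem he (st.z₁_mem_axis hk hn hm)
  · rw [Subgroup.card_map_of_injective (st.twist_injective χ), card_four, st.card_axis hk hn hm]


end Sylow

end Setup

end Cfsg.Agent.DihedralPair
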