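import Cfsg.Agent.Lib.DihedralPair.Common

/-!
# Both dihedral factors non-abelian

The odd-order normalisers of `S` centralise it and `four × four` is never essential.  The strongly
closed factor is generated by two axes, one for each class of reflections.
-/

set_option autoImplicit false
set_option linter.unusedSectionVars false

namespace Cfsg.Agent.DihedralPair

open DihedralGroup DihedralSylow Subgroup Cfsg Cfsg.FusionSystem Cfsg.Agent.Fusion

variable {G : Type*} [Group G] [Finite G] {S : Sylow 2 G} {k₁ k₂ : ℕ}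
  (st : Setup (S : Subgroup G) k₁ k₂)

namespace Setup

/-- `four i × D₂`. -/
def Q1 (i : ZMod (2 ^ k₁)) : Subgroup G := st.box (four (two_dvd_pow st.one_le₁) i) ⊤

theorem Q1_le (i : ZMod (2 ^ k₁)) : st.Q1 i ≤ (S : Subgroup G) := st.box_le _ _

theorem swap_Q1 (j : ZMod (2 ^ k₂)) : st.swap.Q1 j = st.box ⊤ (four (two_dvd_pow st.one_le₂) j) :=
  st.swap_box _ _

theorem E_le_Q1 (i : ZMod (2 ^ k₁)) (j : ZMod (2 ^ k₂)) : st.E i j ≤ st.Q1 i := by
  intro x hx
  obtain ⟨a, ha, b, -, rfl⟩ := st.exists_of_mem_box hx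
  exact st.mem_box.2 ⟨ha, mem_top _⟩

/-- Some odd element of the normaliser of `four i × D₂` moves `z₁`. -/
def Active (i : ZMod (2 ^ k₁)) : Prop :=
  ∃ n ∈ normalizer (st.Q1 i : Set G), Odd (orderOf n) ∧ n * st.z₁ * n⁻¹ ≠ st.z₁

section
variable (hk₁ : 2 ≤ k₁) (hk₂ : 2 ≤ k₂)
include st hk₁ hk₂

/-- Elements of odd order normalising `S` centralise it. -/
theorem centralizes_sylow {n : G} (hn : n ∈ normalizer ((S : Subgroup G) : Set G)) (ho : Odd (orderOf n))
    {x : G} (hx : x ∈ (S : Subgroup G)) : n * x * n⁻¹ = x := by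
  have hQ : IsPGroup 2 (S : Subgroup G) := S.2
  have hα : Odd (orderOf (conjAut hn)) := by
    refine ho.of_dvd_nat ?_
    rw [conjAut, ← Subgroup.orderOf_mk n hn]
    exact orderOf_map_dvd _ _
  let p₁ := st.pr₁ (le_refl (S : Subgroup G))
  let p₂ := st.pr₂ (le_refl (S : Subgroup G))
  have hprod : ∀ d₁ d₂, ∃ q, p₁ q = d₁ ∧ p₂ q = d₂ := fun d₁ d₂ =>
    ⟨⟨_, st.mem (d₁, d₂)⟩, st.pr₁_eq _ rfl, st.pr₂_eq _ rfl⟩
  have s : Sub p₁ p₂ := ⟨fun d => (hprod d 1).imp fun _ h => h.1, fun d => (hprod 1 d).imp fun _ h => h.2,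
    fun q h₁ h₂ => st.coords_injective le_rfl (by
      rw [map_one]; exact Prod.ext h₁ h₂)⟩
  set M := evenPart p₁ p₂ (four_dvd hk₁) (four_dvd hk₂)
  have hinv : ∀ y ∈ M, y * y = 1 → conjAut hn y ∈ M := by
    intro y hy h2
    have hc : ∀ w, conjAut hn y * w = w * conjAut hn y := by
      intro w
      obtain ⟨w, rfl⟩ := (conjAut hn).surjective w
      rw [← map_mul, ← map_mul]
      congr 1
      obtain ⟨hy1, hy2⟩ := Subgroup.mem_inf.1 hy
      refine s.ext ?_ ?_
      · rw [map_mul, map_mul]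
        exact halfSub_comm (hk := st.one_le₁)
          (eq_one_or_half (Subgroup.mem_comap.1 hy1) (by rw [← map_mul, h2, map_one])) _
      · rw [map_mul, map_mul]
        exact halfSub_comm (hk := st.one_le₂)
          (eq_one_or_half (Subgroup.mem_comap.1 hy2) (by rw [← map_mul, h2, map_one])) _
    refine Subgroup.mem_inf.2 ⟨Subgroup.mem_comap.2 ?_, Subgroup.mem_comap.2 ?_⟩
    · rcases center_mem hk₁ (d := p₁ (conjAut hn y)) (fun e => by
        obtain ⟨w, rfl⟩ := s.surj₁ e; rw [← map_mul, ← map_mul, hc w]) with e | e <;> rw [e]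
      · exact one_mem _
      · exact r_mem_evenRot.2 (parity_half (four_dvd hk₁))
    · rcases center_mem hk₂ (d := p₂ (conjAut hn y)) (fun e => by
        obtain ⟨w, rfl⟩ := s.surj₂ e; rw [← map_mul, ← map_mul, hc w]) with e | e <;> rw [e]
      · exact one_mem _
      · exact r_mem_evenRot.2 (parity_half (four_dvd hk₂))
  by_cases hmove : ∃ y ∈ M, y * y = 1 ∧ conjAut hn y ≠ y
  · exact (false_of_product hk₁ hk₂ s hα hprod hmove hinv).elim
  · push Not at hmove
    exact congrArg Subtype.val (s.all_fixed (four_dvd hk₁) (four_dvd hk₂) hQ hα hmove ⟨x, hx⟩)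

variable {i : ZMod (2 ^ k₁)} {n : G} (hn : n ∈ normalizer (st.Q1 i : Set G)) (ho : Odd (orderOf n))
include hn ho

/-- Elements of `four i × D₂` move inside `four i × {1, h}`. -/
theorem Q1_delta {x : G} (hx : x ∈ st.Q1 i) :
    x⁻¹ * (n * x * n⁻¹) ∈ st.box (four (two_dvd_pow st.one_le₁) i) (halfSub st.one_le₂) := by
  have hR := st.Q1_le i
  have hα : Odd (orderOf (conjAut hn)) := by
    refine ho.of_dvd_nat ?_
    rw [conjAut, ← Subgroup.orderOf_mk n hn]
    exact orderOf_map_dvd _ _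
  have h₁ : ∀ q : st.Q1 i, st.pr₁ hR q ∈ four (two_dvd_pow st.one_le₁) i := fun q => by
    obtain ⟨a, ha, b, -, he⟩ := st.exists_of_mem_box q.2
    rwa [st.pr₁_eq hR he]
  let u := (st.pr₁ hR).codRestrict _ h₁
  have := mixed_mem hk₂ (u := u) (p := st.pr₂ hR) (fun a => Subtype.ext (sq_four _ a.2))
    (fun d => ⟨⟨_, st.mem_box.2 ⟨one_mem _, mem_top d⟩⟩, st.pr₂_eq hR rfl⟩)
    (fun q e₁ e₂ => st.coords_injective hR (by
      rw [map_one]; exact Prod.ext (congrArg Subtype.val e₁) e₂))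
    (S.2.to_le hR) hα ⟨x, hx⟩
  rw [show x⁻¹ * (n * x * n⁻¹) = ((⟨x, hx⟩⁻¹ * conjAut hn ⟨x, hx⟩ : st.Q1 i) : G) from rfl,
    ← st.φ_pr hR]
  exact st.mem_box.2 ⟨h₁ _, this⟩

theorem mem_normalizer_E (j : ZMod (2 ^ k₂)) : n ∈ normalizer (st.E i j : Set G) := by
  refine Setup.mem_normalizer inferInstance fun q => ?_
  have h := st.Q1_delta hk₁ hk₂ hn ho (st.E_le_Q1 i j q.2)
  obtain ⟨a, ha, b, hb, he⟩ := st.exists_of_mem_box h
  have := mul_mem q.2 (st.mem_E.2 ⟨ha, halfSub_le_four _ j hb⟩)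
  rwa [he, mul_inv_cancel_left] at this

/-- They fix the central involution of the second factor. -/
theorem Q1_fix : n * st.swap.z₁ * n⁻¹ = st.swap.z₁ := by
  set w := st.φ (1, r (quart (2 ^ k₂))) with hw
  have hwQ : w ∈ st.Q1 i := st.mem_box.2 ⟨one_mem _, mem_top _⟩
  have hz : st.swap.z₁ = w * w := by
    rw [swap_z₁, hw, ← map_mul, Prod.mk_mul_mk, one_mul, r_mul_r, quart_add_quart (four_dvd hk₂)]
  obtain ⟨a, ha, b, hb, he⟩ := st.exists_of_mem_box (st.Q1_delta hk₁ hk₂ hn ho hwQ)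
  have he' : n * w * n⁻¹ = w * st.φ (a, b) := by rw [he, mul_inv_cancel_left]
  have hc : st.φ (a, b) * w = w * st.φ (a, b) := by
    rw [hw, ← map_mul, ← map_mul, Prod.mk_mul_mk, Prod.mk_mul_mk, one_mul, mul_one, halfSub_comm hb]
  rw [hz, show n * (w * w) * n⁻¹ = (n * w * n⁻¹) * (n * w * n⁻¹) by group, he', mul_assoc,
    ← mul_assoc (st.φ (a, b)), hc, mul_assoc, ← map_mul st.φ, Prod.mk_mul_mk, sq_four _ ha,
    sq_four _ (halfSub_le_four st.one_le₂ 0 hb), Prod.mk_one_one, map_one, mul_one]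

/-- An odd element fixing `z₁` centralises `four i × D₂`. -/
theorem Q1_centralizes (hz : n * st.z₁ * n⁻¹ = st.z₁) {x : G} (hx : x ∈ st.Q1 i) :
    n * x * n⁻¹ = x := by
  have hz' := st.Q1_fix hk₁ hk₂ hn ho
  have hcen : ∀ a b, a ∈ halfSub st.one_le₁ → b ∈ halfSub st.one_le₂ →
      n * st.φ (a, b) * n⁻¹ = st.φ (a, b) := by
    intro a b ha hb
    have e : st.φ (a, b) = st.φ (a, 1) * st.φ (1, b) := by
      rw [← map_mul, Prod.mk_mul_mk, mul_one, one_mul]
    have h1 : n * st.φ (a, 1) * n⁻¹ = st.φ (a, 1) := by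
      rcases ha with rfl | rfl
      · rw [Prod.mk_one_one, map_one]; group
      · exact hz
    have h2 : n * st.φ (1, b) * n⁻¹ = st.φ (1, b) := by
      rcases hb with rfl | rfl
      · rw [Prod.mk_one_one, map_one]; group
      · exact hz'
    rw [e, show n * (st.φ (a, 1) * st.φ (1, b)) * n⁻¹ =
      (n * st.φ (a, 1) * n⁻¹) * (n * st.φ (1, b) * n⁻¹) by group, h1, h2]
  have hα : Odd (orderOf (conjAut hn)) := by
    refine ho.of_dvd_nat ?_
    rw [conjAut, ← Subgroup.orderOf_mk n hn]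
    exact orderOf_map_dvd _ _
  -- the elements of `four i × {1, h}` are fixed
  have hB : ∀ y ∈ st.box (four (two_dvd_pow st.one_le₁) i) (halfSub st.one_le₂),
      n * y * n⁻¹ = y := by
    intro y hy
    set e := st.φ (sr i, 1) with he
    have heQ : e ∈ st.Q1 i := st.mem_box.2 ⟨sr_mem_four_self _ i, mem_top _⟩
    have hefix : n * e * n⁻¹ = e := by
      obtain ⟨a, ha, b, hb, hd⟩ := st.exists_of_mem_box (st.Q1_delta hk₁ hk₂ hn ho heQ)
      have hfixd : a ∈ halfSub st.one_le₁ → n * e * n⁻¹ = e := fun ha' =>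
        congrArg Subtype.val (eq_of_fixed_delta (S.2.to_le (st.Q1_le i)) hα (x := ⟨e, heQ⟩)
          (Subtype.ext (by
            show n * (e⁻¹ * (n * e * n⁻¹)) * n⁻¹ = e⁻¹ * (n * e * n⁻¹)
            rw [← hd]
            exact hcen a b ha' hb)))
      have hmoved : ∀ a' ∈ halfSub st.one_le₁, sr i * a = a' → False := by
        intro a' ha' hp
        have hd' : n * e * n⁻¹ = n * st.φ (a', b) * n⁻¹ := by
          rw [hcen a' b ha' hb, ← hp, show st.φ (sr i * a, b) = e * st.φ (a, b) by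
            rw [he, ← map_mul, Prod.mk_mul_mk, one_mul], hd, mul_inv_cancel_left]
        have h6 := congrArg Prod.fst (st.inj (he.symm.trans (mul_left_cancel (mul_right_cancel hd'))))
        rcases ha' with e' | e' <;> rw [e'] at h6
        · exact sr_ne_one _ h6
        · exact sr_ne_r _ _ h6
      rcases ha with rfl | rfl | rfl | rfl
      · exact hfixd (Or.inl rfl)
      · exact hfixd (Or.inr rfl)
      · exact (hmoved 1 (one_mem _) (sr_mul_self i)).elim
      · exact (hmoved (r (half _)) (Or.inr rfl) (by rw [sr_mul_sr, add_sub_cancel_left])).elim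
    obtain ⟨a, ha, b, hb, rfl⟩ := st.exists_of_mem_box hy
    rcases ha with rfl | rfl | rfl | rfl
    · exact hcen _ b (Or.inl rfl) hb
    · exact hcen _ b (Or.inr rfl) hb
    · have e1 : st.φ (sr i, b) = e * st.φ (1, b) := by
        rw [he, ← map_mul, Prod.mk_mul_mk, mul_one, one_mul]
      rw [e1, show n * (e * st.φ (1, b)) * n⁻¹ = (n * e * n⁻¹) * (n * st.φ (1, b) * n⁻¹) by group,
        hefix, hcen _ b (Or.inl rfl) hb]
    · have e1 : st.φ (sr (i + half _), b) = e * st.φ (r (half _), b) := by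
        rw [he, ← map_mul, Prod.mk_mul_mk, sr_mul_r, one_mul]
      rw [e1, show n * (e * st.φ (r (half _), b)) * n⁻¹ =
        (n * e * n⁻¹) * (n * st.φ (r (half _), b) * n⁻¹) by group, hefix, hcen _ b (Or.inr rfl) hb]
  exact congrArg Subtype.val (eq_of_fixed_delta (S.2.to_le (st.Q1_le i)) hα (x := ⟨x, hx⟩)
    (Subtype.ext (hB _ (st.Q1_delta hk₁ hk₂ hn ho hx))))

end

section
variable (hk₁ : 2 ≤ k₁) (hk₂ : 2 ≤ k₂)
include hk₁ hk₂

theorem E_not_essential (i : ZMod (2 ^ k₁)) (j : ZMod (2 ^ k₂)) :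
    ¬ (groupFusionSystem (S : Subgroup G)).IsEssential 2 (st.E i j) := by
  rintro ⟨-, -, hI, Em, hEm⟩
  set A := (groupFusionSystem (S : Subgroup G)).autGroup (st.E i j) with hA
  have hsq : ∀ x : st.E i j, x * x = 1 := fun x => Subtype.ext (st.E_sq x.2)
  have hinn : ∀ a ∈ (Inn (st.E i j)).subgroupOf A, a = 1 := by
    rintro a ⟨g, hg⟩
    refine Subtype.ext (hg.symm.trans (MulEquiv.ext fun x => ?_))
    rw [MulAut.conj_apply, comm_of_mul_self hsq g x, mul_inv_cancel_right, Subgroup.coe_one,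
      MulAut.one_apply]
  have hmem : ∀ {g : G} (hg : g ∈ normalizer (st.E i j : Set G)), g ∈ (S : Subgroup G) →
      conjAut hg ∈ A := fun hg hgS =>
    autInducedBy_le_autGroup _ (st.E_le i j) (conjAut_mem_autInducedBy hgS hg)
  set d₁ : A := ⟨st.δ₁ i j, hmem _ (st.mem _)⟩
  set d₂ : A := ⟨st.δ₂ i j, hmem _ (st.mem _)⟩
  let π := QuotientGroup.mk' ((Inn (st.E i j)).subgroupOf A)
  have hπ : Function.Injective π := (injective_iff_map_eq_one π).2 fun a ha =>
    hinn a ((QuotientGroup.eq_one_iff a).1 ha)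
  have hne : ∀ {α : MulAut (st.E i j)} {w : st.E i j}, Trans α w → α ≠ 1 := fun {α w} h e => by
    obtain ⟨a, ha⟩ := h.exists_moved
    exact ha (by rw [e, MulAut.one_apply])
  have h2 : ∀ a : A, a * a = 1 → a ≠ 1 → orderOf (π a) = 2 := fun a ha hne => by
    rw [orderOf_injective π hπ]
    exact orderOf_eq_prime (by rw [pow_two, ha]) hne
  have hd₁ := st.trans_δ₁ hk₁ i j
  have e₁ : st.δ₁ i j * st.δ₁ i j = 1 := MulEquiv.ext (hd₁.apply_apply hsq)
  have e₂ : st.δ₂ i j * st.δ₂ i j = 1 := by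
    refine MulEquiv.ext fun x => Subtype.ext ?_
    obtain ⟨a, ha, b, hb, he⟩ := st.exists_of_mem_box x.2
    rcases st.swap.conj_q₁ hk₂ hb a with ⟨-, h⟩ | ⟨-, h⟩
    · rw [MulAut.mul_apply, δ₂, coe_conjAut, coe_conjAut, ← he, MulAut.one_apply]
      rw [swap_φ] at h
      rw [h, h, he]
    · rw [MulAut.mul_apply, δ₂, coe_conjAut, coe_conjAut, ← he, MulAut.one_apply]
      rw [swap_φ] at h
      have hzz : st.swap.q₁ * st.swap.z₁ * st.swap.q₁⁻¹ = st.swap.z₁ := by
        rw [q₁, z₁, conj_eq]; simp [add_comm]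
      rw [h, show st.swap.q₁ * (st.φ (a, b) * st.swap.z₁) * st.swap.q₁⁻¹ =
        (st.swap.q₁ * st.φ (a, b) * st.swap.q₁⁻¹) * (st.swap.q₁ * st.swap.z₁ * st.swap.q₁⁻¹) by group,
        h, hzz, mul_assoc, st.swap.E_sq (st.swap.z₁_mem_E j i), mul_one, he]
  have c12 := st.δ₁_δ₂_comm i j
  have e₁₂ : st.δ₁ i j * st.δ₂ i j * (st.δ₁ i j * st.δ₂ i j) = 1 := by
    calc st.δ₁ i j * st.δ₂ i j * (st.δ₁ i j * st.δ₂ i j)
        = st.δ₁ i j * st.δ₂ i j * (st.δ₂ i j * st.δ₁ i j) := by rw [c12]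
      _ = st.δ₁ i j * (st.δ₂ i j * st.δ₂ i j) * st.δ₁ i j := by simp only [mul_assoc]
      _ = 1 := by rw [e₂, mul_one, e₁]
  have hne₁₂ : st.δ₁ i j * st.δ₂ i j ≠ 1 := by
    intro e
    have he : st.δ₂ i j = st.δ₁ i j := by
      calc st.δ₂ i j = st.δ₁ i j * (st.δ₁ i j * st.δ₂ i j) := by rw [← mul_assoc, e₁, one_mul]
        _ = _ := by rw [e, mul_one]
    have := congrArg (fun α : MulAut (st.E i j) =>
      ((α ⟨st.φ (sr i, 1), st.mem_E.2 ⟨sr_mem_four_self _ i, one_mem _⟩⟩ : st.E i j) : G)) he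
    simp only [δ₁, δ₂, coe_conjAut, q₁, swap_φ, conj_eq] at this
    have h3 := congrArg Prod.fst (st.inj this)
    simp only [one_mul, inv_one, mul_one, r_quart_conj_sr hk₁, left_eq_mul] at h3
    exact r_half_ne (two_dvd_pow st.one_le₁) h3
  obtain ⟨c, hc⟩ := isConj_iff.1 (isConj_of_stronglyEmbedded hEm
    (h2 d₁ (Subtype.ext e₁) fun e => hne hd₁ (congrArg Subtype.val e))
    (h2 (d₁ * d₂) (Subtype.ext e₁₂) fun e => hne₁₂ (congrArg Subtype.val e)))
  obtain ⟨a, rfl⟩ := QuotientGroup.mk'_surjective _ c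
  rw [← map_inv, ← map_mul, ← map_mul] at hc
  have hc' : (a : MulAut (st.E i j)) * st.δ₁ i j * (a : MulAut (st.E i j))⁻¹ =
      st.δ₁ i j * st.δ₂ i j := congrArg Subtype.val (hπ hc)
  exact st.not_trans_mul hk₁ hk₂ (hc' ▸ hd₁.conj (a : MulAut (st.E i j)))

theorem essential_cases {R : Subgroup G}
    (hR : (groupFusionSystem (S : Subgroup G)).IsEssential 2 R) :
    (∃ i, R = st.Q1 i) ∨ ∃ j, R = st.box ⊤ (four (two_dvd_pow st.one_le₂) j) := by
  have : Fact (Nat.Prime 2) := ⟨Nat.prime_two⟩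
  have hF := groupFusionSystem_saturated S
  have hRS := hR.1.1
  have hC : centralizerIn (S : Subgroup G) R ≤ R :=
    hR.1.2 R (group_isConj_iff.2 ⟨hRS, hRS, 1, by ext x; simp⟩)
  have hne : R ≠ (S : Subgroup G) := fun e => not_essential_self S.2 hF (e ▸ hR)
  rcases st.shape S.2 (isRadical_of_essential S.2 hF hR) hC hne with h | h | ⟨i, j, rfl⟩
  · exact Or.inl h
  · exact Or.inr h
  · exact absurd hR (st.E_not_essential hk₁ hk₂ i j)

/-- Both classes of reflections have active four-groups. -/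
theorem exists_active (hperf : commutator G = ⊤) (p : ZMod 2) :
    ∃ i, parity (two_dvd_pow st.one_le₁) i = p ∧ st.Active i := by
  by_contra hno
  push Not at hno
  refine st.not_le_box p (sylow_le_of_essential S hperf _ (fun s hs x hx => st.comm_mem_box p hs hx) ?_)
  intro R hR n hn ho x hx
  rcases hR with rfl | hR
  · rw [st.centralizes_sylow hk₁ hk₂ hn ho hx, inv_mul_cancel]
    exact one_mem _
  rcases st.essential_cases hk₁ hk₂ hR with ⟨i, rfl⟩ | ⟨j, rfl⟩
  · by_cases hp : parity (two_dvd_pow st.one_le₁) i = p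
    · by_cases hz : n * st.z₁ * n⁻¹ = st.z₁
      · rw [st.Q1_centralizes hk₁ hk₂ hn ho hz hx, inv_mul_cancel]
        exact one_mem _
      · exact absurd ⟨n, hn, ho, hz⟩ (hno i hp)
    · have hy := mul_mem (inv_mem hx) ((Subgroup.mem_normalizer_iff.1 hn x).1 hx)
      obtain ⟨a, ha, b, -, he⟩ := st.exists_of_mem_box hy
      rw [← he]
      exact st.mem_box.2 ⟨four_le_otherClass hk₁ hp ha, mem_top _⟩
  · rw [← st.swap_Q1 j] at hn hx
    obtain ⟨b, -, a, ha, he⟩ :=
      st.swap.exists_of_mem_box (st.swap.Q1_delta hk₂ hk₁ hn ho hx)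
    rw [← he, swap_φ]
    exact st.mem_box.2 ⟨halfSub_le_otherClass hk₁ p ha, mem_top _⟩

end

/-- A choice of active four-groups with the homomorphism read off from their axes. -/
structure Act where
  idx : ZMod 2 → ZMod (2 ^ k₁)
  par : ∀ p, parity (two_dvd_pow st.one_le₁) (idx p) = p
  act : ∀ p, st.Active (idx p)
  χ : DihedralGroup (2 ^ k₁) →* DihedralGroup (2 ^ k₂)
  χ_half : χ (r (half _)) = 1
  χ_mem : ∀ d, χ d ∈ halfSub st.one_le₂
  χ_axis : ∀ p, st.φ (sr (idx p), χ (sr (idx p))) ∈ st.axis (idx p) 0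

theorem exists_act (hk₁ : 2 ≤ k₁) (hk₂ : 2 ≤ k₂) (hperf : commutator G = ⊤) : Nonempty st.Act := by
  choose idx par act using st.exists_active hk₁ hk₂ hperf
  have he : ∀ p, ∃ e ∈ halfSub st.one_le₂, st.φ (sr (idx p), e) ∈ st.axis (idx p) 0 := by
    intro p
    obtain ⟨n, hn, ho, hm⟩ := act p
    obtain ⟨e, -, he, hh⟩ := st.axis_shape hk₁ (st.mem_normalizer_E hk₁ hk₂ hn ho 0) hm
    exact ⟨e, hh hk₂, he⟩
  choose e he heax using he
  have hsq : ∀ p, e p * e p = 1 := fun p => sq_four _ (halfSub_le_four st.one_le₂ 0 (he p))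
  obtain ⟨χ, hχ, hχ₀, hχ₁, hχP⟩ := exists_signHom hk₁ (e 0) (e 1) (hsq 0) (hsq 1) (halfSub_comm (he 0) _)
  refine ⟨⟨idx, par, act, χ, hχ, hχP _ (he 0) (he 1), fun p => ?_⟩⟩
  rcases (show ∀ q : ZMod 2, q = 0 ∨ q = 1 by decide) p with rfl | rfl
  · rw [hχ₀ _ (par 0)]; exact heax 0
  · rw [hχ₁ _ (par 1)]; exact heax 1

end Setup

end Cfsg.Agent.DihedralPair
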