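import Cfsg.Agent.Lib.DihedralPair.CaseA

/-!
# The strongly closed factors when both dihedral groups are non-abelian
-/

set_option autoImplicit false
set_option linter.unusedSectionVars false

namespace Cfsg.Agent.DihedralPair

open DihedralGroup DihedralSylow Subgroup Cfsg Cfsg.FusionSystem Cfsg.Agent.Fusion

variable {G : Type*} [Group G] [Finite G] {S : Sylow 2 G} {k₁ k₂ : ℕ}

namespace Setup.Act

variable {st : Setup (S : Subgroup G) k₁ k₂} (d : st.Act)

/-- The factor read off from the axes. -/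
def side : Subgroup G := (st.twist d.χ).range

theorem central (x : DihedralGroup (2 ^ k₁)) (y : DihedralGroup (2 ^ k₂)) : d.χ x * y = y * d.χ x :=
  halfSub_comm (d.χ_mem x) y

theorem side_le_box : d.side ≤ st.box ⊤ (halfSub st.one_le₂) := by
  rintro _ ⟨c, rfl⟩
  exact st.mem_box.2 ⟨mem_top _, d.χ_mem c⟩

variable (hk₁ : 2 ≤ k₁) (hk₂ : 2 ≤ k₂)
include hk₁ hk₂

theorem axis_map (p : ZMod 2) :
    st.axis (d.idx p) 0 = (four (two_dvd_pow st.one_le₁) (d.idx p)).map (st.twist d.χ) := by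
  obtain ⟨n, hn, ho, hm⟩ := d.act p
  exact st.axis_eq_map hk₁ (st.mem_normalizer_E hk₁ hk₂ hn ho 0) hm d.χ d.χ_half (d.χ_axis p)

/-- Odd normalisers of `D₁ × four j` centralise the factor. -/
theorem side_centralized {j : ZMod (2 ^ k₂)} {n : G}
    (hn : n ∈ normalizer (st.box ⊤ (four (two_dvd_pow st.one_le₂) j) : Set G))
    (ho : Odd (orderOf n)) {x : G} (hx : x ∈ d.side) : n * x * n⁻¹ = x := by
  rw [← st.swap_Q1 j] at hn
  have hz : n * st.z₁ * n⁻¹ = st.z₁ := st.swap.Q1_fix hk₂ hk₁ hn ho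
  have key : ∀ p, (four (two_dvd_pow st.one_le₁) (d.idx p)).map (st.twist d.χ) ≤ centralizer {n} := by
    intro p a ha
    rw [← d.axis_map hk₁ hk₂ p] at ha
    obtain ⟨m, hm, hmo, hmz⟩ := d.act p
    have hE0 := st.mem_normalizer_E hk₁ hk₂ hm hmo 0
    have hEj := st.mem_normalizer_E hk₁ hk₂ hm hmo j
    rw [← st.axis_eq hk₁ hE0 hmz hEj] at ha
    have hnE : n ∈ normalizer (st.E (d.idx p) j : Set G) := by
      rw [← st.swap_E]; exact st.swap.mem_normalizer_E hk₂ hk₁ hn ho _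
    have := centralizes_four (st.card_axis hk₁ hEj hmz) ho (fun b hb => st.conj_mem_axis hnE hb)
      (st.z₁_mem_axis hk₁ hEj hmz) st.z₁_ne_one hz ha
    exact Subgroup.mem_centralizer_singleton_iff.2 (mul_inv_eq_iff_eq_mul.1 this).symm
  have h01 : parity (two_dvd_pow st.one_le₁) (d.idx 0) ≠ parity (two_dvd_pow st.one_le₁) (d.idx 1) := by
    rw [d.par, d.par]; decide
  have := Subgroup.mem_centralizer_singleton_iff.1 (st.twist_range_le_of_four h01 d.χ (key 0) (key 1) hx)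
  rw [← this, mul_inv_cancel_right]

/-- Odd normalisers of `four i × D₂` preserve the factor. -/
theorem side_preserved {i : ZMod (2 ^ k₁)} {n : G} (hn : n ∈ normalizer (st.Q1 i : Set G))
    (ho : Odd (orderOf n)) {x : G} (hx : x ∈ st.Q1 i) (hx' : x ∈ d.side) :
    n * x * n⁻¹ ∈ d.side := by
  set p := parity (two_dvd_pow st.one_le₁) i with hp
  obtain ⟨c, hc⟩ := four_conj_of_parity st.one_le₁ (i := i) (i' := d.idx p) (by rw [d.par])
  set g := st.φ (c, 1) with hg
  have hQ : ∀ y : G, y ∈ (S : Subgroup G) → (y ∈ st.Q1 i ↔ g * y * g⁻¹ ∈ st.Q1 (d.idx p)) := by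
    intro y hy
    obtain ⟨⟨a, b⟩, rfl⟩ := st.exists_preimage hy
    rw [hg, conj_eq, Q1, Q1, st.mem_box, st.mem_box, ← hc]
    simp
  have hgn : g * n * g⁻¹ ∈ normalizer (st.Q1 (d.idx p) : Set G) := by
    refine Setup.mem_normalizer inferInstance fun q => ?_
    have h1 : g⁻¹ * (q : G) * g ∈ st.Q1 i := by
      refine (hQ _ ?_).2 (by simp [mul_assoc])
      exact mul_mem (mul_mem (inv_mem (st.mem _)) (st.Q1_le _ q.2)) (st.mem _)
    have h2 := (Subgroup.mem_normalizer_iff.1 hn _).1 h1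
    have h3 := (hQ _ (st.Q1_le _ h2)).1 h2
    simpa [mul_assoc] using h3
  have hgo : Odd (orderOf (g * n * g⁻¹)) := ho.of_dvd_nat (orderOf_map_dvd (MulAut.conj g).toMonoidHom n)
  obtain ⟨e, rfl⟩ := hx'
  have he : e ∈ four (two_dvd_pow st.one_le₁) i := (st.mem_box.1 hx).1
  have hax : g * st.twist d.χ e * g⁻¹ ∈ st.axis (d.idx p) 0 := by
    rw [d.axis_map hk₁ hk₂ p]
    refine ⟨c * e * c⁻¹, (hc e).1 he, ?_⟩
    rw [hg, twist_apply, twist_apply, conj_eq, map_mul, map_mul, map_inv]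
    refine congrArg st.φ (Prod.ext rfl ?_)
    show d.χ c * d.χ e * (d.χ c)⁻¹ = 1 * d.χ e * 1⁻¹
    rw [d.central c, mul_inv_cancel_right, one_mul, inv_one, mul_one]
  have := st.conj_mem_axis (st.mem_normalizer_E hk₁ hk₂ hgn hgo 0) hax
  rw [d.axis_map hk₁ hk₂ p] at this
  obtain ⟨f, -, hf⟩ := this
  have h4 := st.twist_conj_mem d.central (inv_mem (st.mem (c, 1))) (x := st.twist d.χ f) ⟨f, rfl⟩
  rw [hf] at h4
  simpa [hg, mul_assoc, side] using h4

end Setup.Act

/-- Case A. -/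
theorem Setup.split_of_two_le (st : Setup (S : Subgroup G) k₁ k₂) (hk₁ : 2 ≤ k₁) (hk₂ : 2 ≤ k₂)
    (hperf : commutator G = ⊤) : ∃ S₁ S₂, Split S S₁ S₂ := by
  obtain ⟨d⟩ := st.exists_act hk₁ hk₂ hperf
  obtain ⟨d'⟩ := st.swap.exists_act hk₂ hk₁ hperf
  refine ⟨d.side, d'.side, st.twist_product d.central d'.central ?_, ?_, ?_, st.twist_dihedral _,
    st.swap.twist_dihedral _, ?_⟩
  · intro y
    rcases d'.χ_mem y with e | e <;> rw [e]
    · exact map_one _
    · exact d.χ_half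
  · refine stronglyClosed_of_odd S (st.twist_range_le _)
      (fun s hs x hx => st.twist_conj_mem d.central hs hx) ?_
    intro R hR n hn ho x hx hxT
    rcases hR with rfl | hR
    · rwa [st.centralizes_sylow hk₁ hk₂ hn ho hx]
    rcases st.essential_cases hk₁ hk₂ hR with ⟨i, rfl⟩ | ⟨j, rfl⟩
    · exact d.side_preserved hk₁ hk₂ hn ho hx hxT
    · rwa [d.side_centralized hk₁ hk₂ hn ho hxT]
  · refine stronglyClosed_of_odd S (st.swap.twist_range_le _)
      (fun s hs x hx => st.swap.twist_conj_mem d'.central hs hx) ?_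
    intro R hR n hn ho x hx hxT
    rcases hR with rfl | hR
    · rwa [st.centralizes_sylow hk₁ hk₂ hn ho hx]
    rcases st.essential_cases hk₁ hk₂ hR with ⟨i, rfl⟩ | ⟨j, rfl⟩
    · rw [Setup.Q1, ← st.swap_box] at hn
      rwa [d'.side_centralized hk₂ hk₁ hn ho hxT]
    · rw [← st.swap_Q1 j] at hn hx
      exact d'.side_preserved hk₂ hk₁ hn ho hx hxT
  · intro x hx hc
    obtain ⟨⟨a, b⟩, rfl⟩ := st.exists_preimage hx
    have hcomm : ∀ a' b', (a * a', b * b') = ((a' * a, b' * b) :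
        DihedralGroup (2 ^ k₁) × DihedralGroup (2 ^ k₂)) := by
      intro a' b'
      refine st.inj ?_
      have := mul_inv_eq_iff_eq_mul.1 (hc (st.φ (a', b')))
      rw [← map_mul, ← map_mul] at this
      exact this.symm
    have ha := center_mem hk₁ (d := a) fun e => congrArg Prod.fst (hcomm e 1)
    have hb := center_mem hk₂ (d := b) fun e => congrArg Prod.snd (hcomm 1 e)
    obtain ⟨n, hn, ho, hm⟩ := d.act 0
    obtain ⟨n', hn', ho', hm'⟩ := d'.act 0
    have h₂ := st.Q1_fix hk₁ hk₂ hn ho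
    have h₁ : n' * st.z₁ * n'⁻¹ = st.z₁ := st.swap.Q1_fix hk₂ hk₁ hn' ho'
    rcases ha with rfl | rfl <;> rcases hb with rfl | rfl
    · rw [Prod.mk_one_one, map_one]
    · exact absurd (hc n') hm'
    · exact absurd (hc n) hm
    · exfalso
      have h := hc n
      have e : st.φ (r (half _), r (half _)) = st.z₁ * st.swap.z₁ := by
        rw [z₁, swap_z₁, ← map_mul, Prod.mk_mul_mk, mul_one, one_mul]
      rw [e, show n * (st.z₁ * st.swap.z₁) * n⁻¹ =
        (n * st.z₁ * n⁻¹) * (n * st.swap.z₁ * n⁻¹) by group, h₂] at h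
      exact hm (mul_right_cancel h)

end Cfsg.Agent.DihedralPair
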