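import Cfsg.Agent.Lib.DihedralPair.Common

/-!
# One factor a four-group

`S ≅ D × 2²`.  The essential subgroups are `E i = four i × 2²`; the strongly closed factors are the
join of two axes and the common fixed four-group in the centre of `S`.
-/

set_option autoImplicit false
set_option linter.unusedSectionVars false

namespace Cfsg.Agent.DihedralPair

open DihedralGroup DihedralSylow Subgroup Cfsg Cfsg.FusionSystem Cfsg.Agent.Fusion

theorem two_sq (d : DihedralGroup (2 ^ 1)) : d * d = 1 :=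
  (by decide : ∀ d : DihedralGroup (2 ^ 1), d * d = 1) d

theorem two_comm (a b : DihedralGroup (2 ^ 1)) : a * b = b * a := comm_of_mul_self two_sq a b

variable {G : Type*} [Group G] [Finite G] {S : Sylow 2 G} {k : ℕ} (st : Setup (S : Subgroup G) k 1)

namespace Setup

/-- The subgroup `{1, h} × 2²`. -/
def Zb : Subgroup G := st.box (halfSub st.one_le₁) ⊤

theorem Zb_central {x : G} (hx : x ∈ st.Zb) {s : G} (hs : s ∈ (S : Subgroup G)) : x * s = s * x := by
  obtain ⟨a, ha, b, -, rfl⟩ := st.exists_of_mem_box hx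
  obtain ⟨⟨c, e⟩, rfl⟩ := st.exists_preimage hs
  rw [← map_mul, ← map_mul, Prod.mk_mul_mk, Prod.mk_mul_mk, halfSub_comm ha c, two_comm b e]

theorem z₁_mem_Zb : st.z₁ ∈ st.Zb := st.mem_box.2 ⟨Or.inr rfl, mem_top _⟩

theorem mem_E_zero {i : ZMod (2 ^ k)} {a : DihedralGroup (2 ^ k)} {b : DihedralGroup (2 ^ 1)} :
    st.φ (a, b) ∈ st.E i 0 ↔ a ∈ four (two_dvd_pow st.one_le₁) i :=
  st.mem_E.trans ⟨fun h => h.1, fun h => ⟨h, by rw [four_eq_top]; exact mem_top b⟩⟩

theorem Zb_le_E (i : ZMod (2 ^ k)) : st.Zb ≤ st.E i 0 := by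
  intro x hx
  obtain ⟨a, ha, b, -, rfl⟩ := st.exists_of_mem_box hx
  exact st.mem_E_zero.2 (halfSub_le_four _ i ha)

/-- Conjugation by the first factor carries the elementary subgroups of one class to one another. -/
theorem transport_E {i i' : ZMod (2 ^ k)} {c : DihedralGroup (2 ^ k)}
    (hc : ∀ x, x ∈ four (two_dvd_pow st.one_le₁) i ↔ c * x * c⁻¹ ∈ four (two_dvd_pow st.one_le₁) i')
    {n : G} (hn : n ∈ normalizer (st.E i 0 : Set G)) :
    st.φ (c, 1) * n * (st.φ (c, 1))⁻¹ ∈ normalizer (st.E i' 0 : Set G) := by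
  have hQ : ∀ y : G, y ∈ (S : Subgroup G) →
      (y ∈ st.E i 0 ↔ st.φ (c, 1) * y * (st.φ (c, 1))⁻¹ ∈ st.E i' 0) := by
    intro y hy
    obtain ⟨⟨a, b⟩, rfl⟩ := st.exists_preimage hy
    rw [conj_eq, st.mem_E_zero, st.mem_E_zero, ← hc]
  refine Setup.mem_normalizer inferInstance fun q => ?_
  have h1 : (st.φ (c, 1))⁻¹ * (q : G) * st.φ (c, 1) ∈ st.E i 0 := by
    refine (hQ _ ?_).2 (by simp [mul_assoc])
    exact mul_mem (mul_mem (inv_mem (st.mem _)) (st.E_le _ _ q.2)) (st.mem _)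
  have h2 := (Subgroup.mem_normalizer_iff.1 hn _).1 h1
  have h3 := (hQ _ (st.E_le _ _ h2)).1 h2
  simpa [mul_assoc] using h3

section
variable (hk : 2 ≤ k)
include st hk

theorem essential_cases_two {R : Subgroup G}
    (hR : (groupFusionSystem (S : Subgroup G)).IsEssential 2 R) : ∃ i, R = st.E i 0 := by
  have : Fact (Nat.Prime 2) := ⟨Nat.prime_two⟩
  have hF := groupFusionSystem_saturated S
  have hRS := hR.1.1
  have hC : centralizerIn (S : Subgroup G) R ≤ R :=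
    hR.1.2 R (group_isConj_iff.2 ⟨hRS, hRS, 1, by ext x; simp⟩)
  have hne : R ≠ (S : Subgroup G) := fun e => not_essential_self S.2 hF (e ▸ hR)
  rcases st.shape S.2 (isRadical_of_essential S.2 hF hR) hC hne with ⟨i, h⟩ | ⟨j, h⟩ | ⟨i, j, h⟩
  · exact ⟨i, by rw [h, Setup.E, four_eq_top _ 0]⟩
  · refine absurd (le_antisymm hRS fun x hx => ?_) hne
    obtain ⟨d, rfl⟩ := st.exists_preimage hx
    rw [h]
    exact st.mem_box.2 ⟨mem_top _, by rw [four_eq_top]; exact mem_top _⟩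
  · exact ⟨i, by rw [h, Setup.E, four_eq_top _ j, four_eq_top _ 0]⟩

/-- An essential `four i × 2²` has an automorphism moving `z₁`. -/
theorem active_of_essential {i : ZMod (2 ^ k)}
    (hR : (groupFusionSystem (S : Subgroup G)).IsEssential 2 (st.E i 0)) :
    ∃ n ∈ normalizer (st.E i 0 : Set G), n * st.z₁ * n⁻¹ ≠ st.z₁ := by
  have : Fact (Nat.Prime 2) := ⟨Nat.prime_two⟩
  have hF := groupFusionSystem_saturated S
  by_contra hno
  push Not at hno
  have hsq : ∀ x : st.E i 0, x * x = 1 := fun x => Subtype.ext (st.E_sq x.2)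
  have hT : ∀ a ∈ autInducedBy (⊤ : Subgroup G) (st.E i 0),
      a * st.δ₁ i 0 * a⁻¹ = st.δ₁ i 0 := by
    intro a ha
    by_contra hne
    obtain ⟨g, -, hg⟩ := mem_autInducedBy_iff.1 ha
    have hz : a ⟨st.z₁, st.z₁_mem_E i 0⟩ = ⟨st.z₁, st.z₁_mem_E i 0⟩ :=
      Subtype.ext ((hg _).trans (hno g (mem_normalizer_of_aut hg)))
    have h := (st.trans_δ₁ hk i 0).conj a
    rw [hz] at h
    exact ((st.config hk i 0).moves_centre (st.δ₁_mem_Tr i 0) ⟨a, ha, rfl⟩ (Ne.symm hne)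
      (st.trans_δ₁ hk i 0) h).2 rfl
  have hC : centralizerIn (S : Subgroup G) (st.E i 0) ≤ st.E i 0 :=
    hR.1.2 _ (group_isConj_iff.2 ⟨st.E_le i 0, st.E_le i 0, 1, by ext x; simp⟩)
  have hq := mem_of_radical (isRadical_of_essential S.2 hF hR) hC (st.mem _) (st.q₁_mem_normalizer i 0)
    (zpowers (st.δ₁ i 0)) (mem_zpowers _) (fun a ha b hb => ?_) (fun a _ ha' ho => ?_)
  · exact r_quart_not_mem hk i (st.mem_E_zero.1 hq)
  · rw [group_autGroup (st.E_le i 0)] at ha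
    obtain ⟨m, rfl⟩ := hb
    rw [← conj_zpow, hT a ha]
    exact zpow_mem (mem_zpowers _) m
  · have h1 : st.δ₁ i 0 ^ 2 = 1 := by
      rw [pow_two]; exact MulEquiv.ext ((st.trans_δ₁ hk i 0).apply_apply hsq)
    have h2 : orderOf a ∣ 2 := (orderOf_dvd_of_mem_zpowers ha').trans (orderOf_dvd_of_pow_eq_one h1)
    rcases (Nat.dvd_prime Nat.prime_two).1 h2 with e | e
    · exact orderOf_eq_one_iff.1 e
    · exact absurd (e ▸ ho) (by decide)

variable {n : G} (hn : n ∈ normalizer ((S : Subgroup G) : Set G)) (ho : Odd (orderOf n))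
include hn ho

/-- Odd normalisers of `S` move elements inside `Zb`. -/
theorem sylow_delta {x : G} (hx : x ∈ (S : Subgroup G)) : x⁻¹ * (n * x * n⁻¹) ∈ st.Zb := by
  have hα : Odd (orderOf (conjAut hn)) := by
    refine ho.of_dvd_nat ?_
    rw [conjAut, ← Subgroup.orderOf_mk n hn]
    exact orderOf_map_dvd _ _
  have := mixed_mem hk (u := st.pr₂ (le_refl (S : Subgroup G))) (p := st.pr₁ (le_refl (S : Subgroup G)))
    two_sq (fun d => ⟨⟨_, st.mem (d, 1)⟩, st.pr₁_eq _ rfl⟩)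
    (fun q e₁ e₂ => st.coords_injective le_rfl (by rw [map_one]; exact Prod.ext e₂ e₁))
    S.2 hα ⟨x, hx⟩
  rw [show x⁻¹ * (n * x * n⁻¹) =
      (((⟨x, hx⟩ : (S : Subgroup G))⁻¹ * conjAut hn ⟨x, hx⟩ : (S : Subgroup G)) : G) from rfl,
    ← st.φ_pr (le_refl (S : Subgroup G))]
  exact st.mem_box.2 ⟨this, mem_top _⟩

theorem sylow_fix : n * st.z₁ * n⁻¹ = st.z₁ := by
  set w := st.φ (r (quart (2 ^ k)), 1) with hw
  have hz : st.z₁ = w * w := by
    rw [z₁, hw, ← map_mul, Prod.mk_mul_mk, mul_one, r_mul_r, quart_add_quart (four_dvd hk)]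
  set y := w⁻¹ * (n * w * n⁻¹) with hy
  have hyZ := st.sylow_delta hk hn ho (st.mem (r (quart (2 ^ k)), 1))
  rw [← hw, ← hy] at hyZ
  have hy2 : y * y = 1 := st.E_sq (st.Zb_le_E 0 hyZ)
  have he : n * w * n⁻¹ = w * y := by rw [hy, mul_inv_cancel_left]
  rw [hz, show n * (w * w) * n⁻¹ = (n * w * n⁻¹) * (n * w * n⁻¹) by group, he, mul_assoc,
    ← mul_assoc y w, st.Zb_central hyZ (st.mem (r (quart (2 ^ k)), 1)), ← hw, mul_assoc w y y, hy2,
    mul_one]

theorem sylow_mem_normalizer_E (i : ZMod (2 ^ k)) : n ∈ normalizer (st.E i 0 : Set G) := by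
  refine Setup.mem_normalizer inferInstance fun q => ?_
  have := mul_mem q.2 (st.Zb_le_E i (st.sylow_delta hk hn ho (st.E_le i 0 q.2)))
  rwa [mul_inv_cancel_left] at this

theorem sylow_centralizes (hZ : ∀ z ∈ st.Zb, n * z * n⁻¹ = z) {x : G} (hx : x ∈ (S : Subgroup G)) :
    n * x * n⁻¹ = x := by
  have hα : Odd (orderOf (conjAut hn)) := by
    refine ho.of_dvd_nat ?_
    rw [conjAut, ← Subgroup.orderOf_mk n hn]
    exact orderOf_map_dvd _ _
  exact congrArg Subtype.val (eq_of_fixed_delta S.2 hα (x := ⟨x, hx⟩)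
    (Subtype.ext (hZ _ (st.sylow_delta hk hn ho hx))))

end

/-- A choice of active elementary subgroups with the homomorphism read off from their axes. -/
structure ActTwo where
  idx : ZMod 2 → ZMod (2 ^ k)
  par : ∀ p, parity (two_dvd_pow st.one_le₁) (idx p) = p
  act : ∀ p, ∃ n ∈ normalizer (st.E (idx p) 0 : Set G), n * st.z₁ * n⁻¹ ≠ st.z₁
  χ : DihedralGroup (2 ^ k) →* DihedralGroup (2 ^ 1)
  χ_half : χ (r (half _)) = 1
  χ_axis : ∀ p, st.φ (sr (idx p), χ (sr (idx p))) ∈ st.axis (idx p) 0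

theorem exists_actTwo (hk : 2 ≤ k) (hperf : commutator G = ⊤) : Nonempty st.ActTwo := by
  have hact : ∀ p, ∃ i, parity (two_dvd_pow st.one_le₁) i = p ∧
      ∃ n ∈ normalizer (st.E i 0 : Set G), n * st.z₁ * n⁻¹ ≠ st.z₁ := by
    intro p
    by_contra hno
    push Not at hno
    refine st.not_le_box p (sylow_le_of_essential S hperf _ (fun s hs x hx => st.comm_mem_box p hs hx) ?_)
    intro R hR n hn ho x hx
    rcases hR with rfl | hR
    · obtain ⟨a, ha, b, hb, he⟩ := st.exists_of_mem_box (st.sylow_delta hk hn ho hx)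
      rw [← he]
      exact st.mem_box.2 ⟨halfSub_le_otherClass hk p ha, hb⟩
    obtain ⟨i, rfl⟩ := st.essential_cases_two hk hR
    by_cases hp : parity (two_dvd_pow st.one_le₁) i = p
    · obtain ⟨m, hm, hmz⟩ := st.active_of_essential hk hR
      exact absurd (hno i hp m hm) hmz
    · have hy := mul_mem (inv_mem hx) ((Subgroup.mem_normalizer_iff.1 hn x).1 hx)
      obtain ⟨a, ha, b, -, he⟩ := st.exists_of_mem_box hy
      rw [← he]
      exact st.mem_box.2 ⟨four_le_otherClass hk hp ha, mem_top _⟩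
  choose idx par act using hact
  have he : ∀ p, ∃ e, st.φ (sr (idx p), e) ∈ st.axis (idx p) 0 := fun p => by
    obtain ⟨n, hn, hm⟩ := act p
    obtain ⟨e, -, he, -⟩ := st.axis_shape hk hn hm
    exact ⟨e, he⟩
  choose e he using he
  obtain ⟨χ, hχ, hχ₀, hχ₁, -⟩ := exists_signHom hk (e 0) (e 1) (two_sq _) (two_sq _) (two_comm _ _)
  refine ⟨⟨idx, par, act, χ, hχ, fun p => ?_⟩⟩
  rcases (show ∀ q : ZMod 2, q = 0 ∨ q = 1 by decide) p with rfl | rfl
  · rw [hχ₀ _ (par 0)]; exact he 0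
  · rw [hχ₁ _ (par 1)]; exact he 1

namespace ActTwo

variable {st} (d : st.ActTwo)

/-- The factor generated by the axes. -/
def side : Subgroup G := (st.twist d.χ).range

theorem axis_map (hk : 2 ≤ k) (p : ZMod 2) :
    st.axis (d.idx p) 0 = (four (two_dvd_pow st.one_le₁) (d.idx p)).map (st.twist d.χ) := by
  obtain ⟨n, hn, hm⟩ := d.act p
  exact st.axis_eq_map hk hn hm d.χ d.χ_half (d.χ_axis p)

theorem axis_le_side (hk : 2 ≤ k) (p : ZMod 2) : st.axis (d.idx p) 0 ≤ d.side := by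
  rw [d.axis_map hk p]; exact Subgroup.map_le_range _ _

theorem side_le_of_axis (hk : 2 ≤ k) {M : Subgroup G} (h : ∀ p, st.axis (d.idx p) 0 ≤ M) : d.side ≤ M :=
  st.twist_range_le_of_four (i := d.idx 0) (i' := d.idx 1) (by rw [d.par, d.par]; decide) d.χ
    (d.axis_map hk 0 ▸ h 0) (d.axis_map hk 1 ▸ h 1)

theorem side_conj {s x : G} (hs : s ∈ (S : Subgroup G)) (hx : x ∈ d.side) : s * x * s⁻¹ ∈ d.side :=
  st.twist_conj_mem (fun _ _ => two_comm _ _) hs hx

theorem cfix_le_Zb (hk : 2 ≤ k) (p : ZMod 2) : st.cfix (d.idx p) 0 ≤ st.Zb := by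
  obtain ⟨n, hn, hm⟩ := d.act p
  intro x hx
  obtain ⟨a, -, b, -, rfl⟩ := st.exists_of_mem_box (st.cfix_le _ _ hx)
  exact st.mem_box.2 ⟨st.cfix_cases hk hn hm hx, mem_top _⟩

/-- An element of `Zb` differs from one in the fixed four-group by a power of `z₁`. -/
theorem exists_shift (hk : 2 ≤ k) (p : ZMod 2) {x : G} (hx : x ∈ st.Zb) :
    ∃ l, (l = 1 ∨ l = st.z₁) ∧ x * l ∈ st.cfix (d.idx p) 0 := by
  obtain ⟨n, hn, hm⟩ := d.act p
  obtain ⟨l, hl, hl'⟩ := st.exists_mul_mem_cfix hk hn hm (st.Zb_le_E (d.idx p) hx)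
  refine ⟨l, ?_, hl'⟩
  have hlZ : l ∈ st.Zb := (Subgroup.mul_mem_cancel_left _ hx).1 (d.cfix_le_Zb hk p hl')
  rw [d.axis_map hk p] at hl
  obtain ⟨a, -, rfl⟩ := hl
  rcases (show a = 1 ∨ a = r (half (2 ^ k)) from (st.mem_box.1 hlZ).1) with e | e
  · left; rw [e, map_one]
  · right; rw [e, twist_apply, d.χ_half]; rfl

end ActTwo

end Setup

end Cfsg.Agent.DihedralPair
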