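import Cfsg.Agent.Lib.DihedralPair.CaseB
import Cfsg.Agent.Lib.Transfer.Fusion

/-!
# The strongly closed factors when one dihedral group is a four-group
-/

set_option autoImplicit false
set_option linter.unusedSectionVars false

namespace Cfsg.Agent.DihedralPair

open DihedralGroup DihedralSylow Subgroup Cfsg Cfsg.FusionSystem Cfsg.Agent.Fusion

variable {G : Type*} [Group G] [Finite G] {S : Sylow 2 G} {k : ℕ}

namespace Setup.ActTwo

variable {st : Setup (S : Subgroup G) k 1} (d : st.ActTwo) (hk : 2 ≤ k)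

include d hk

/-- Fusion inside `Zb` is trivial if the odd normalisers of `S` centralise `Zb`. -/
theorem conj_eq_of_centralized
    (hall : ∀ n ∈ normalizer ((S : Subgroup G) : Set G), Odd (orderOf n) → ∀ z ∈ st.Zb, n * z * n⁻¹ = z)
    {g c : G} (hc : c ∈ st.Zb) (hgc : g * c * g⁻¹ ∈ st.Zb) : g * c * g⁻¹ = c := by
  have : Fact (Nat.Prime 2) := ⟨Nat.prime_two⟩
  have hcen : ∀ {z}, z ∈ st.Zb → z ∈ centralizer ((S : Subgroup G) : Set G) := fun hz =>
    Subgroup.mem_centralizer_iff.2 fun s hs => (st.Zb_central hz hs).symm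
  obtain ⟨m, hm, he⟩ := Transfer.exists_sylow_normalizer_conj_eq S {c} g
    (Set.singleton_subset_iff.2 (hcen hc)) (fun a ha => Set.mem_singleton_iff.1 ha ▸ hcen hgc)
  rw [← he c rfl]
  obtain ⟨a, b, hab, ⟨t, ht⟩, hodd⟩ := exists_two_mul_odd m
  have h2 : IsPGroup 2 ((S : Subgroup G) ⊔ zpowers (m ^ a) : Subgroup G) := by
    refine IsPGroup.to_sup_of_normal_left' S.2 (IsPGroup.of_card (n := t) (by rw [Nat.card_zpowers, ht])) ?_
    exact zpowers_le.2 (pow_mem hm a)
  have ha : m ^ a ∈ (S : Subgroup G) := by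
    rw [← S.3 h2 le_sup_left]; exact Subgroup.mem_sup_right (mem_zpowers _)
  conv_lhs => rw [hab]
  rw [show m ^ a * m ^ b * c * (m ^ a * m ^ b)⁻¹ = m ^ a * (m ^ b * c * (m ^ b)⁻¹) * (m ^ a)⁻¹ by group,
    hall _ (pow_mem hm b) hodd c hc, ← st.Zb_central hc ha, mul_inv_cancel_right]

/-- Some odd normaliser of `S` moves the centre. -/
theorem exists_moving (hperf : commutator G = ⊤) :
    ∃ n ∈ normalizer ((S : Subgroup G) : Set G), Odd (orderOf n) ∧ ∃ z ∈ st.Zb, n * z * n⁻¹ ≠ z := by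
  by_contra hno
  push Not at hno
  have hdelta : ∀ p, ∀ n ∈ normalizer (st.E (d.idx p) 0 : Set G), ∀ x ∈ st.E (d.idx p) 0,
      x⁻¹ * (n * x * n⁻¹) ∈ d.side := by
    intro p n hn x hx
    obtain ⟨m, hm, hmz⟩ := d.act p
    obtain ⟨l, hl, hl'⟩ := st.exists_mul_mem_cfix hk hm hmz hx
    have hc' := st.conj_mem_cfix hn hl'
    have e := d.conj_eq_of_centralized hk hno (d.cfix_le_Zb hk p hl') (d.cfix_le_Zb hk p hc')
    have e2 : n * x * n⁻¹ = x * l * (n * l * n⁻¹)⁻¹ := by
      rw [← show n * (x * l) * n⁻¹ = x * l from e]; group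
    rw [e2, mul_assoc x, inv_mul_cancel_left]
    exact d.axis_le_side hk p (mul_mem hl (inv_mem (st.conj_mem_axis hn hl)))
  have hle : (S : Subgroup G) ≤ d.side := by
    refine sylow_le_of_essential S hperf d.side ?_ ?_
    · intro s hs x hx
      obtain ⟨⟨a, b⟩, rfl⟩ := st.exists_preimage hs
      obtain ⟨⟨c, e⟩, rfl⟩ := st.exists_preimage hx
      refine ⟨c⁻¹ * (a * c * a⁻¹), ?_⟩
      rw [st.conj_eq, ← map_inv, ← map_mul, twist_apply, map_mul d.χ, map_mul d.χ, map_mul d.χ,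
        map_inv d.χ, map_inv d.χ]
      refine congrArg st.φ (Prod.ext rfl ?_)
      show (d.χ c)⁻¹ * (d.χ a * d.χ c * (d.χ a)⁻¹) = e⁻¹ * (b * e * b⁻¹)
      rw [two_comm (d.χ a), two_comm b e, mul_inv_cancel_right, mul_inv_cancel_right, inv_mul_cancel,
        inv_mul_cancel]
    · intro R hR n hn ho x hx
      rcases hR with rfl | hR
      · rw [st.sylow_centralizes hk hn ho (hno n hn ho) hx, inv_mul_cancel]
        exact one_mem _
      obtain ⟨i, rfl⟩ := st.essential_cases_two hk hR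
      obtain ⟨c, hc⟩ := four_conj_of_parity st.one_le₁ (i := i)
        (i' := d.idx (parity (two_dvd_pow st.one_le₁) i)) (by rw [d.par])
      set g := st.φ (c, 1) with hg
      have hgx : g * x * g⁻¹ ∈ st.E (d.idx (parity (two_dvd_pow st.one_le₁) i)) 0 := by
        obtain ⟨a, ha, b, -, rfl⟩ := st.exists_of_mem_box hx
        rw [hg, st.conj_eq, st.mem_E_zero, ← hc]
        exact ha
      have h := d.side_conj (inv_mem (st.mem (c, 1))) (hdelta _ _ (st.transport_E hc hn) _ hgx)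
      simpa [← hg, mul_assoc] using h
  obtain ⟨c, hc⟩ := hle (st.mem (1, sr 0))
  rw [twist_apply] at hc
  obtain ⟨h1, h2⟩ := Prod.ext_iff.1 (st.inj hc)
  rw [show c = 1 from h1, map_one] at h2
  exact sr_ne_one _ h2.symm

variable {n : G} (hn : n ∈ normalizer ((S : Subgroup G) : Set G)) (ho : Odd (orderOf n))
  {z : G} (hz : z ∈ st.Zb) (hzn : n * z * n⁻¹ ≠ z)
include hn ho hz hzn

/-- A moving element fixes only `1` in each fixed four-group. -/
theorem eq_one_of_fixed (p : ZMod 2) {c : G} (hc : c ∈ st.cfix (d.idx p) 0) (hfix : n * c * n⁻¹ = c) :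
    c = 1 := by
  by_contra hc1
  obtain ⟨m, hm, hmz⟩ := d.act p
  have hnE := st.sylow_mem_normalizer_E hk hn ho (d.idx p)
  have hall : ∀ a ∈ st.cfix (d.idx p) 0, n * a * n⁻¹ = a := fun a ha =>
    centralizes_four (st.card_cfix hk hm hmz) ho (fun b hb => st.conj_mem_cfix hnE hb) hc hc1 hfix ha
  obtain ⟨l, hl, hl'⟩ := d.exists_shift hk p hz
  apply hzn
  have hlfix : n * l * n⁻¹ = l := by
    rcases hl with rfl | rfl
    · group
    · exact st.sylow_fix hk hn ho
  have := hall _ hl'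
  rw [show n * (z * l) * n⁻¹ = (n * z * n⁻¹) * (n * l * n⁻¹) by group, hlfix] at this
  exact mul_right_cancel this

theorem cfix_eq : st.cfix (d.idx 1) 0 = st.cfix (d.idx 0) 0 := by
  obtain ⟨m₀, hm₀, hmz₀⟩ := d.act 0
  obtain ⟨m₁, hm₁, hmz₁⟩ := d.act 1
  have hnE := fun p => st.sylow_mem_normalizer_E hk hn ho (d.idx p)
  refine (eq_of_le_of_card_ge ?_ (by rw [st.card_cfix hk hm₀ hmz₀, st.card_cfix hk hm₁ hmz₁])).symm
  let f : st.cfix (d.idx 0) 0 → st.cfix (d.idx 0) 0 := fun c =>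
    ⟨c * (n * c * n⁻¹), mul_mem c.2 (st.conj_mem_cfix (hnE 0) c.2)⟩
  have hinj : Function.Injective f := by
    intro a b e
    have ha := d.cfix_le_Zb hk 0 a.2
    have hb := d.cfix_le_Zb hk 0 b.2
    have e' : (a : G) * (n * a * n⁻¹) = b * (n * b * n⁻¹) := congrArg Subtype.val e
    have hfix : n * ((a : G) * (b : G)⁻¹) * n⁻¹ = (a : G) * (b : G)⁻¹ := by
      have hsq : ∀ {x : G}, x ∈ st.Zb → x * x = 1 := fun hx => st.E_sq (st.Zb_le_E 0 hx)
      have hinv : (a : G) * (b : G)⁻¹ = (a : G)⁻¹ * b := by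
        rw [inv_eq_of_mul_eq_one_right (hsq hb), inv_eq_of_mul_eq_one_right (hsq ha)]
      calc n * ((a : G) * (b : G)⁻¹) * n⁻¹ = (n * a * n⁻¹) * (n * b * n⁻¹)⁻¹ := by group
        _ = (a : G)⁻¹ * ((a : G) * (n * a * n⁻¹)) * (n * b * n⁻¹)⁻¹ := by group
        _ = (a : G)⁻¹ * b := by rw [e']; group
        _ = _ := hinv.symm
    exact Subtype.ext (mul_inv_eq_one.1
      (d.eq_one_of_fixed hk hn ho hz hzn 0 (mul_mem a.2 (inv_mem b.2)) hfix))
  intro x hx
  obtain ⟨c, hc⟩ := (Finite.injective_iff_surjective.1 hinj) ⟨x, hx⟩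
  have hcx : (c : G) * (n * c * n⁻¹) = x := congrArg Subtype.val hc
  obtain ⟨l, hl, hl'⟩ := d.exists_shift hk 1 (d.cfix_le_Zb hk 0 c.2)
  have hlfix : n * l * n⁻¹ = l := by
    rcases hl with rfl | rfl
    · group
    · exact st.sylow_fix hk hn ho
  have hlZ : l ∈ st.Zb := by
    rcases hl with rfl | rfl
    exacts [one_mem _, st.z₁_mem_Zb]
  have := mul_mem hl' (st.conj_mem_cfix (hnE 1) hl')
  rw [show n * ((c : G) * l) * n⁻¹ = (n * c * n⁻¹) * (n * l * n⁻¹) by group, hlfix, mul_assoc,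
    ← mul_assoc l, st.Zb_central hlZ (S := S) (s := n * (c : G) * n⁻¹)
      ((Subgroup.mem_normalizer_iff.1 hn _).1 (st.E_le _ _ (st.cfix_le _ _ c.2))), mul_assoc,
    st.E_sq (st.Zb_le_E 0 hlZ), mul_one, hcx] at this
  exact this

end Setup.ActTwo

/-- Case B. -/
theorem Setup.split_of_one (st : Setup (S : Subgroup G) k 1) (hk : 2 ≤ k)
    (hperf : commutator G = ⊤) : ∃ S₁ S₂, Split S S₁ S₂ := by
  obtain ⟨d⟩ := st.exists_actTwo hk hperf
  obtain ⟨n, hn, ho, z, hz, hzn⟩ := d.exists_moving hk hperf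
  obtain ⟨m₀, hm₀, hmz₀⟩ := d.act 0
  set C := st.cfix (d.idx 0) 0 with hC
  have hCp : ∀ p, st.cfix (d.idx p) 0 = C := by
    intro p
    rcases (show ∀ q : ZMod 2, q = 0 ∨ q = 1 by decide) p with rfl | rfl
    · rfl
    · exact d.cfix_eq hk hn ho hz hzn
  have hCZ : C ≤ st.Zb := d.cfix_le_Zb hk 0
  have hCS : C ≤ (S : Subgroup G) := hCZ.trans (st.box_le _ _)
  -- `C` is the graph of a homomorphism
  have hbij : Function.Bijective (st.pr₂ hCS) := by
    have hinj : Function.Injective (st.pr₂ hCS) := by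
      refine (injective_iff_map_eq_one _).2 fun c hc => ?_
      have e := st.φ_pr hCS c
      rw [hc] at e
      have h2 := c.2
      rw [← e] at h2
      rcases st.cfix_cases hk hm₀ hmz₀ h2 with e₁ | e₁ <;> rw [e₁] at e h2
      · exact Subtype.ext (e.symm.trans (by rw [Prod.mk_one_one, map_one]; rfl))
      · exact absurd h2 (st.z₁_not_mem_cfix hk hm₀ hmz₀)
    refine (Nat.bijective_iff_injective_and_card _).2 ⟨hinj, ?_⟩
    rw [hC, st.card_cfix hk hm₀ hmz₀, DihedralGroup.nat_card]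
    rfl
  set ε := MulEquiv.ofBijective (st.pr₂ hCS) hbij
  set χ' := (st.pr₁ hCS).comp ε.symm.toMonoidHom with hχ'
  have hgraph : ∀ w, st.φ (χ' w, w) = (ε.symm w : G) := by
    intro w
    have e : st.pr₂ hCS (ε.symm w) = w := ε.apply_symm_apply w
    conv_lhs => arg 2; arg 2; rw [← e]
    exact st.φ_pr hCS (ε.symm w)
  have hval : ∀ w, χ' w ∈ halfSub st.one_le₁ := fun w =>
    (st.mem_box.1 (show st.φ (χ' w, w) ∈ st.Zb from (hgraph w).symm ▸ hCZ (ε.symm w).2)).1
  have hrange : (st.swap.twist χ').range = C := by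
    refine le_antisymm ?_ fun c hc => ⟨ε ⟨c, hc⟩, ?_⟩
    · rintro _ ⟨w, rfl⟩
      rw [twist_apply, swap_φ, hgraph]
      exact (ε.symm w).2
    · rw [twist_apply, swap_φ, hgraph, MulEquiv.symm_apply_apply]
  refine ⟨d.side, C, ?_, ?_, ?_, st.twist_dihedral _, hrange ▸ st.swap.twist_dihedral _, ?_⟩
  · refine hrange ▸ st.twist_product (fun _ _ => two_comm _ _) (fun w e => halfSub_comm (hval w) e) ?_
    intro w
    rcases hval w with e | e <;> rw [e]
    · exact map_one _
    · exact d.χ_half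
  · refine stronglyClosed_of_odd S (st.twist_range_le _) (fun s hs x hx => d.side_conj hs hx) ?_
    intro R hR m hm hmo x hx hxT
    rcases hR with rfl | hR
    · refine (d.side_le_of_axis hk (M := d.side.comap (MulAut.conj m).toMonoidHom) fun p a ha => ?_) hxT
      exact d.axis_le_side hk p (st.conj_mem_axis (st.sylow_mem_normalizer_E hk hm hmo _) ha)
    obtain ⟨i, rfl⟩ := st.essential_cases_two hk hR
    obtain ⟨c, hc⟩ := four_conj_of_parity st.one_le₁ (i := i)
      (i' := d.idx (parity (two_dvd_pow st.one_le₁) i)) (by rw [d.par])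
    set g := st.φ (c, 1) with hg
    obtain ⟨e, rfl⟩ := hxT
    have he : e ∈ four (two_dvd_pow st.one_le₁) i := st.mem_E_zero.1 hx
    have hax : g * st.twist d.χ e * g⁻¹ ∈ st.axis (d.idx (parity (two_dvd_pow st.one_le₁) i)) 0 := by
      rw [d.axis_map hk]
      refine ⟨c * e * c⁻¹, (hc e).1 he, ?_⟩
      rw [hg, twist_apply, twist_apply, st.conj_eq, map_mul, map_mul, map_inv]
      refine congrArg st.φ (Prod.ext rfl ?_)
      show d.χ c * d.χ e * (d.χ c)⁻¹ = 1 * d.χ e * 1⁻¹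
      rw [two_comm (d.χ c), mul_inv_cancel_right, one_mul, inv_one, mul_one]
    have h := d.side_conj (inv_mem (st.mem (c, 1)))
      (d.axis_le_side hk _ (st.conj_mem_axis (st.transport_E hc hm) hax))
    simpa [← hg, mul_assoc] using h
  · refine stronglyClosed_of_odd S hCS
      (fun s hs x hx => by rwa [← st.Zb_central (hCZ hx) hs, mul_inv_cancel_right]) ?_
    intro R hR m hm hmo x hx hxT
    rcases hR with rfl | hR
    · exact st.conj_mem_cfix (st.sylow_mem_normalizer_E hk hm hmo _) hxT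
    obtain ⟨i, rfl⟩ := st.essential_cases_two hk hR
    obtain ⟨c, hc⟩ := four_conj_of_parity st.one_le₁ (i := i)
      (i' := d.idx (parity (two_dvd_pow st.one_le₁) i)) (by rw [d.par])
    set g := st.φ (c, 1) with hg
    have hgc : g * x * g⁻¹ = x := by
      rw [← st.Zb_central (hCZ hxT) (st.mem (c, 1)), mul_inv_cancel_right]
    have h := st.conj_mem_cfix (st.transport_E hc hm)
      (x := x) ((hCp (parity (two_dvd_pow st.one_le₁) i)).symm ▸ hxT)
    rw [hCp] at h
    have hgc' : g * (m * x * m⁻¹) * g⁻¹ ∈ C := by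
      rw [show g * (m * x * m⁻¹) * g⁻¹ = g * m * g⁻¹ * (g * x * g⁻¹) * (g * m * g⁻¹)⁻¹ by group, hgc]
      exact h
    have h2 := st.Zb_central (hCZ hgc') (st.mem (c, 1))
    rw [← hg, inv_mul_cancel_right] at h2
    rwa [← mul_left_cancel h2] at hgc'
  · intro x hx hc
    obtain ⟨⟨a, b⟩, rfl⟩ := st.exists_preimage hx
    have ha := center_mem hk (d := a) fun e => by
      have := mul_inv_eq_iff_eq_mul.1 (hc (st.φ (e, 1)))
      rw [← map_mul, ← map_mul] at this
      exact (congrArg Prod.fst (st.inj this)).symm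
    have hxZ : st.φ (a, b) ∈ st.Zb := st.mem_box.2 ⟨ha, mem_top _⟩
    obtain ⟨l, hl, hl'⟩ := d.exists_shift hk 0 hxZ
    have hlfix : n * l * n⁻¹ = l := by
      rcases hl with rfl | rfl
      · group
      · exact st.sylow_fix hk hn ho
    have h1 : st.φ (a, b) * l = 1 := by
      refine d.eq_one_of_fixed hk hn ho hz hzn 0 hl' ?_
      rw [show n * (st.φ (a, b) * l) * n⁻¹ = (n * st.φ (a, b) * n⁻¹) * (n * l * n⁻¹) by group, hc n,
        hlfix]
    rcases hl with rfl | rfl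
    · rwa [mul_one] at h1
    · exfalso
      have e : st.φ (a, b) = st.z₁ :=
        (eq_inv_of_mul_eq_one_left h1).trans (inv_eq_of_mul_eq_one_right (st.E_sq (st.z₁_mem_E 0 0)))
      exact hmz₀ (e ▸ hc m₀)

end Cfsg.Agent.DihedralPair
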