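import Cfsg.Agent.Lib.DihedralPair.Blocks

/-!
# Twisted factorisations, transfer subgroups and the target of the two cases
-/

set_option autoImplicit false
set_option linter.unusedSectionVars false

namespace Cfsg.Agent.DihedralPair

open DihedralGroup DihedralSylow Subgroup Cfsg Cfsg.FusionSystem Cfsg.Agent.Fusion

section Dihedral

variable {k : ℕ}

/-- The centre `{1, r h}` of a dihedral 2-group. -/
def halfSub (hk : 1 ≤ k) : Subgroup (DihedralGroup (2 ^ k)) where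
  carrier := {d | d = 1 ∨ d = r (half _)}
  one_mem' := Or.inl rfl
  mul_mem' := by
    rintro _ _ (rfl | rfl) (rfl | rfl)
    · exact Or.inl (mul_one 1)
    · exact Or.inr (one_mul _)
    · exact Or.inr (mul_one _)
    · exact Or.inl (by rw [r_mul_r, half_add_half (two_dvd_pow hk), r_zero])
  inv_mem' := by
    rintro _ (rfl | rfl)
    · exact Or.inl inv_one
    · exact Or.inr (by rw [inv_r, neg_half (two_dvd_pow hk)])

theorem mem_halfSub {hk : 1 ≤ k} {d : DihedralGroup (2 ^ k)} :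
    d ∈ halfSub hk ↔ d = 1 ∨ d = r (half _) := Iff.rfl

theorem halfSub_comm {hk : 1 ≤ k} {d : DihedralGroup (2 ^ k)} (h : d ∈ halfSub hk)
    (x : DihedralGroup (2 ^ k)) : d * x = x * d := by
  rcases h with rfl | rfl
  · rw [one_mul, mul_one]
  · exact half_comm (two_dvd_pow hk) x

theorem halfSub_le_four (hk : 1 ≤ k) (i : ZMod (2 ^ k)) : halfSub hk ≤ four (two_dvd_pow hk) i := by
  rintro _ (rfl | rfl)
  · exact one_mem _
  · exact r_mem_four_iff.2 (Or.inr rfl)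

theorem four_conj_of_parity (hk : 1 ≤ k) {i i' : ZMod (2 ^ k)}
    (h : parity (two_dvd_pow hk) i = parity (two_dvd_pow hk) i') :
    ∃ d : DihedralGroup (2 ^ k), ∀ x, x ∈ four (two_dvd_pow hk) i ↔ d * x * d⁻¹ ∈ four (two_dvd_pow hk) i' := by
  obtain ⟨d, hd⟩ := exists_conj_four (two_dvd_pow hk) h
  refine ⟨d, fun x => ?_⟩
  rw [← hd]
  exact (Subgroup.mem_map_iff_mem (MulAut.conj d).injective).symm

/-- Homomorphisms given by their values on the two classes of reflections. -/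
theorem exists_signHom {H : Type*} [Group H] (hk : 2 ≤ k) (e₀ e₁ : H) (h₀ : e₀ * e₀ = 1)
    (h₁ : e₁ * e₁ = 1) (hc : e₀ * e₁ = e₁ * e₀) :
    ∃ χ : DihedralGroup (2 ^ k) →* H, χ (r (half _)) = 1 ∧
      (∀ a, parity (two_dvd_pow (by omega : 1 ≤ k)) a = 0 → χ (sr a) = e₀) ∧
      (∀ a, parity (two_dvd_pow (by omega : 1 ≤ k)) a = 1 → χ (sr a) = e₁) ∧
      ∀ P : Subgroup H, e₀ ∈ P → e₁ ∈ P → ∀ d, χ d ∈ P := by
  classical
  set π := parity (two_dvd_pow (by omega : 1 ≤ k))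
  let f : DihedralGroup (2 ^ k) → H := fun
    | r a => if π a = 0 then 1 else e₀ * e₁
    | sr a => if π a = 0 then e₀ else e₁
  let χ : DihedralGroup (2 ^ k) →* H :=
    { toFun := f
      map_one' := by show (if π 0 = 0 then _ else _) = _; rw [map_zero, if_pos rfl]
      map_mul' := by
        have k₁ : e₀ * (e₀ * e₁) = e₁ := by rw [← mul_assoc, h₀, one_mul]
        have k₂ : e₁ * (e₀ * e₁) = e₀ := by rw [hc, ← mul_assoc, h₁, one_mul]
        have k₃ : e₀ * e₁ * e₀ = e₁ := by rw [hc, mul_assoc, h₀, mul_one]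
        have k₄ : e₀ * e₁ * e₁ = e₀ := by rw [mul_assoc, h₁, mul_one]
        have k₅ : e₀ * e₁ * (e₀ * e₁) = 1 := by rw [← mul_assoc, k₃, h₁]
        rintro (a | a) (b | b) <;>
          rcases parity_eq_zero_or_one (two_dvd_pow (by omega : 1 ≤ k)) a with ha | ha <;>
          rcases parity_eq_zero_or_one (two_dvd_pow (by omega : 1 ≤ k)) b with hb | hb <;>
          simp only [r_mul_r, r_mul_sr, sr_mul_r, sr_mul_sr, f, π, map_add, map_sub, ha, hb,
            add_zero, zero_add, sub_zero, zero_sub, sub_self, CharTwo.add_self_eq_zero,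
            ZMod.neg_eq_self_mod_two, one_ne_zero, if_pos, if_false, one_mul, mul_one,
            h₀, h₁, k₁, k₂, k₃, k₄, k₅, hc.symm] }
  refine ⟨χ, ?_, fun a ha => if_pos ha, fun a ha => if_neg (by rw [ha]; exact one_ne_zero),
    fun P p₀ p₁ d => ?_⟩
  · show (if π (half _) = 0 then _ else _) = _
    exact if_pos (parity_half (four_dvd hk))
  · rcases d with a | a
    · show (if π a = 0 then _ else _) ∈ P
      split_ifs
      exacts [one_mem _, mul_mem p₀ p₁]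
    · show (if π a = 0 then _ else _) ∈ P
      split_ifs
      exacts [p₀, p₁]

/-- The maximal subgroup omitting the reflections of parity `p`. -/
def otherClass (hk : 1 ≤ k) (p : ZMod 2) : Subgroup (DihedralGroup (2 ^ k)) where
  carrier := {d | (∃ a, parity (two_dvd_pow hk) a = 0 ∧ d = r a) ∨
    ∃ a, parity (two_dvd_pow hk) a ≠ p ∧ d = sr a}
  one_mem' := Or.inl ⟨0, map_zero _, one_def⟩
  mul_mem' := by
    have key : ∀ x y q : ZMod 2, x ≠ q → y ≠ q → y - x = 0 := by decide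
    rintro _ _ (⟨a, ha, rfl⟩ | ⟨a, ha, rfl⟩) (⟨b, hb, rfl⟩ | ⟨b, hb, rfl⟩)
    · exact Or.inl ⟨a + b, by rw [map_add, ha, hb, add_zero], r_mul_r a b⟩
    · exact Or.inr ⟨b - a, by rwa [map_sub, ha, sub_zero], r_mul_sr a b⟩
    · exact Or.inr ⟨a + b, by rwa [map_add, hb, add_zero], sr_mul_r a b⟩
    · exact Or.inl ⟨b - a, by rw [map_sub]; exact key _ _ p ha hb, sr_mul_sr a b⟩
  inv_mem' := by
    rintro _ (⟨a, ha, rfl⟩ | ⟨a, ha, rfl⟩)
    · exact Or.inl ⟨-a, by rw [map_neg, ha, neg_zero], inv_r a⟩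
    · exact Or.inr ⟨a, ha, inv_sr a⟩

theorem evenRot_le_otherClass (hk : 1 ≤ k) (p : ZMod 2) :
    evenRot (two_dvd_pow hk) ≤ otherClass hk p := by
  rintro _ ⟨a, ha, rfl⟩
  exact Or.inl ⟨a, ha, rfl⟩

theorem halfSub_le_otherClass (hk : 2 ≤ k) (p : ZMod 2) :
    halfSub (by omega : 1 ≤ k) ≤ otherClass (by omega : 1 ≤ k) p := by
  rintro _ (rfl | rfl)
  · exact one_mem _
  · exact Or.inl ⟨_, parity_half (four_dvd hk), rfl⟩

theorem four_le_otherClass (hk : 2 ≤ k) {p : ZMod 2} {i : ZMod (2 ^ k)}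
    (hi : parity (two_dvd_pow (by omega : 1 ≤ k)) i ≠ p) :
    four (two_dvd_pow (by omega : 1 ≤ k)) i ≤ otherClass (by omega : 1 ≤ k) p := by
  rintro _ (rfl | rfl | rfl | rfl)
  · exact one_mem _
  · exact Or.inl ⟨_, parity_half (four_dvd hk), rfl⟩
  · exact Or.inr ⟨i, hi, rfl⟩
  · exact Or.inr ⟨i + half _, by rwa [map_add, parity_half (four_dvd hk), add_zero], rfl⟩

theorem sr_not_mem_otherClass (hk : 1 ≤ k) {p : ZMod 2} {a : ZMod (2 ^ k)}
    (ha : parity (two_dvd_pow hk) a = p) : sr a ∉ otherClass hk p := by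
  rintro (⟨b, -, e⟩ | ⟨b, hb, e⟩)
  · exact sr_ne_r _ _ e
  · exact hb (sr.inj e ▸ ha)

theorem exists_parity (hk : 1 ≤ k) (p : ZMod 2) : ∃ a, parity (two_dvd_pow hk) a = p :=
  ⟨(p.val : ZMod (2 ^ k)), by rw [map_natCast, ZMod.natCast_zmod_val]⟩

end Dihedral

variable {G : Type*} [Group G]

namespace Setup

variable {S : Subgroup G} {k₁ k₂ : ℕ} (st : Setup S k₁ k₂)

theorem comm_mem_box (p : ZMod 2) {s x : G} (hs : s ∈ S) (hx : x ∈ S) :
    x⁻¹ * (s * x * s⁻¹) ∈ st.box (otherClass st.one_le₁ p) ⊤ := by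
  obtain ⟨⟨a, b⟩, rfl⟩ := st.exists_preimage hs
  obtain ⟨⟨c, d⟩, rfl⟩ := st.exists_preimage hx
  rw [conj_eq, ← map_inv, ← map_mul, Prod.inv_mk, Prod.mk_mul_mk, st.mem_box]
  refine ⟨evenRot_le_otherClass _ p ?_, mem_top _⟩
  have := comm_mem_evenRot (two_dvd_pow st.one_le₁) c⁻¹ a
  simpa [mul_assoc] using this

theorem not_le_box (p : ZMod 2) : ¬ S ≤ st.box (otherClass st.one_le₁ p) ⊤ := by
  intro h
  obtain ⟨a, ha⟩ := exists_parity st.one_le₁ p
  exact sr_not_mem_otherClass _ ha (st.mem_box.1 (h (st.mem (sr a, 1)))).1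

theorem twist_range_le (χ : DihedralGroup (2 ^ k₁) →* DihedralGroup (2 ^ k₂)) : (st.twist χ).range ≤ S := by
  rintro _ ⟨d, rfl⟩
  exact st.mem _

theorem twist_dihedral (χ : DihedralGroup (2 ^ k₁) →* DihedralGroup (2 ^ k₂)) :
    ∃ m : ℕ, 2 ≤ m ∧ Nonempty ((st.twist χ).range ≃* DihedralGroup m) :=
  ⟨2 ^ k₁, Nat.le_self_pow (by have := st.one_le₁; omega) 2,
    ⟨(MonoidHom.ofInjective (st.twist_injective χ)).symm⟩⟩

/-- Twisted factors are normal in `S`. -/
theorem twist_conj_mem {χ : DihedralGroup (2 ^ k₁) →* DihedralGroup (2 ^ k₂)}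
    (hχ : ∀ d e, χ d * e = e * χ d) {s x : G} (hs : s ∈ S) (hx : x ∈ (st.twist χ).range) :
    s * x * s⁻¹ ∈ (st.twist χ).range := by
  obtain ⟨⟨a, b⟩, rfl⟩ := st.exists_preimage hs
  obtain ⟨d, rfl⟩ := hx
  refine ⟨a * d * a⁻¹, ?_⟩
  rw [twist_apply, twist_apply, conj_eq, map_mul, map_mul, map_inv]
  refine congrArg st.φ (Prod.ext rfl ?_)
  show χ a * χ d * (χ a)⁻¹ = b * χ d * b⁻¹
  rw [← hχ d b, mul_inv_cancel_right, hχ a (χ d), mul_inv_cancel_right]

/-- Two twisted factors give a direct decomposition. -/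
theorem twist_product {χ : DihedralGroup (2 ^ k₁) →* DihedralGroup (2 ^ k₂)}
    {χ' : DihedralGroup (2 ^ k₂) →* DihedralGroup (2 ^ k₁)} (hχ : ∀ d e, χ d * e = e * χ d)
    (hχ' : ∀ d e, χ' d * e = e * χ' d) (hcomp : ∀ d, χ (χ' d) = 1) :
    Cfsg.IsInternalDirectProduct (st.twist χ).range (st.swap.twist χ').range S := by
  refine ⟨st.twist_range_le χ, st.swap.twist_range_le χ', ?_, ?_, ?_⟩
  · rintro _ ⟨d, rfl⟩ _ ⟨d', rfl⟩
    rw [twist_apply, twist_apply, swap_φ, ← map_mul, ← map_mul, Prod.mk_mul_mk, Prod.mk_mul_mk]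
    exact congrArg st.φ (Prod.ext (hχ' d' d).symm (hχ d d'))
  · refine (Subgroup.eq_bot_iff_forall _).2 ?_
    rintro _ ⟨⟨d, rfl⟩, d', he⟩
    rw [twist_apply, twist_apply, swap_φ] at he
    obtain ⟨e₁, e₂⟩ := Prod.ext_iff.1 (st.inj he)
    have h1 : d' = 1 := e₂.trans (by rw [show d = χ' d' from e₁.symm, hcomp])
    rw [show d = χ' d' from e₁.symm, h1, map_one, map_one]
  · refine le_antisymm (sup_le (st.twist_range_le χ) (st.swap.twist_range_le χ')) fun g hg => ?_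
    obtain ⟨⟨a, b⟩, rfl⟩ := st.exists_preimage hg
    have e : st.φ (a, b) =
        st.twist χ (a * (χ' ((χ a)⁻¹ * b))⁻¹) * st.swap.twist χ' ((χ a)⁻¹ * b) := by
      rw [twist_apply, twist_apply, swap_φ, ← map_mul, Prod.mk_mul_mk]
      refine congrArg st.φ (Prod.ext (inv_mul_cancel_right _ _).symm ?_)
      show b = χ (a * (χ' ((χ a)⁻¹ * b))⁻¹) * ((χ a)⁻¹ * b)
      rw [map_mul χ, map_inv χ, hcomp, inv_one, mul_one, mul_inv_cancel_left]
    rw [e]
    exact mul_mem (Subgroup.mem_sup_left ⟨_, rfl⟩) (Subgroup.mem_sup_right ⟨_, rfl⟩)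

/-- The twisted factor is generated by the images of two four-groups. -/
theorem twist_range_le_of_four {i i' : ZMod (2 ^ k₁)}
    (hii : parity (two_dvd_pow st.one_le₁) i ≠ parity (two_dvd_pow st.one_le₁) i')
    (χ : DihedralGroup (2 ^ k₁) →* DihedralGroup (2 ^ k₂)) {M : Subgroup G}
    (h : (four (two_dvd_pow st.one_le₁) i).map (st.twist χ) ≤ M)
    (h' : (four (two_dvd_pow st.one_le₁) i').map (st.twist χ) ≤ M) : (st.twist χ).range ≤ M := by
  rw [MonoidHom.range_eq_map, ← four_sup_four st.one_le₁ hii, Subgroup.map_sup]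
  exact sup_le h h'

end Setup

/-- A decomposition of `S` into two strongly closed dihedral factors. -/
structure Split [Finite G] (S : Sylow 2 G) (S₁ S₂ : Subgroup G) : Prop where
  prod : Cfsg.IsInternalDirectProduct S₁ S₂ (S : Subgroup G)
  closed₁ : Cfsg.IsStronglyClosed S₁ (S : Subgroup G)
  closed₂ : Cfsg.IsStronglyClosed S₂ (S : Subgroup G)
  dih₁ : ∃ m : ℕ, 2 ≤ m ∧ Nonempty (S₁ ≃* DihedralGroup m)
  dih₂ : ∃ m : ℕ, 2 ≤ m ∧ Nonempty (S₂ ≃* DihedralGroup m)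
  no_central : ∀ x ∈ (S : Subgroup G), (∀ g : G, g * x * g⁻¹ = x) → x = 1

/-- Subgroups normal in `S` and preserved by the odd normalisers of `S` and of the essential
subgroups are strongly closed. -/
theorem stronglyClosed_of_odd [Finite G] (S : Sylow 2 G) {T : Subgroup G} (hT : T ≤ (S : Subgroup G))
    (hn : ∀ s ∈ (S : Subgroup G), ∀ x ∈ T, s * x * s⁻¹ ∈ T)
    (hodd : ∀ R : Subgroup G, (R = (S : Subgroup G) ∨
        (groupFusionSystem (S : Subgroup G)).IsEssential 2 R) →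
      ∀ n ∈ normalizer (R : Set G), Odd (orderOf n) → ∀ x ∈ R, x ∈ T → n * x * n⁻¹ ∈ T) :
    Cfsg.IsStronglyClosed T (S : Subgroup G) := by
  refine ⟨hT, fun x hx g hgx => ?_⟩
  refine (rel_of_essential S (fun a b => a ∈ T ↔ b ∈ T) ⟨fun _ => Iff.rfl, Iff.symm, Iff.trans⟩
    (fun s hs y _ => ⟨hn s hs y, fun h => ?_⟩) (fun R hR n hn' ho y hy => ⟨hodd R hR n hn' ho y hy,
      fun h => ?_⟩) (hT hx) hgx).1 hx
  · simpa [mul_assoc] using hn s⁻¹ (inv_mem hs) _ h
  · have := hodd R hR n⁻¹ (inv_mem hn') (by rwa [orderOf_inv]) _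
      ((Subgroup.mem_normalizer_iff.1 hn' y).1 hy) h
    simpa [mul_assoc] using this

end Cfsg.Agent.DihedralPair
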