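import Cfsg.Agent.Lib.DihedralPair.Subdirect

/-!
# Self-centralising subgroups of a dihedral 2-group
-/

set_option autoImplicit false
set_option linter.unusedSectionVars false

namespace Cfsg.Agent.DihedralPair

open DihedralGroup DihedralSylow

variable {k : ℕ}

theorem two_dvd_pow (hk : 1 ≤ k) : 2 ∣ 2 ^ k := dvd_pow_self 2 (by omega)

/-- The subgroup of rotations. -/
def rotations (m : ℕ) : Subgroup (DihedralGroup m) where
  carrier := {d | ∃ a, d = r a}
  one_mem' := ⟨0, one_def⟩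
  mul_mem' := by rintro _ _ ⟨a, rfl⟩ ⟨b, rfl⟩; exact ⟨a + b, rfl⟩
  inv_mem' := by rintro _ ⟨a, rfl⟩; exact ⟨-a, by simp⟩

theorem half_comm {m : ℕ} (hm : 2 ∣ m) (d : DihedralGroup m) : r (half m) * d = d * r (half m) := by
  rcases d with a | a
  · rw [r_mul_r, r_mul_r, add_comm]
  · rw [r_mul_sr, sr_mul_r, sub_eq_add_neg, neg_half hm]

theorem center_mem (hk : 2 ≤ k) {d : DihedralGroup (2 ^ k)} (h : ∀ e, d * e = e * d) :
    d = 1 ∨ d = r (half (2 ^ k)) := by
  rcases d with a | a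
  · have h1 := h (sr 0)
    rw [r_mul_sr, sr_mul_r, sr.injEq] at h1
    rcases eq_zero_or_half (show a + a = 0 by linear_combination -h1) with rfl | rfl
    · exact Or.inl one_def.symm
    · exact Or.inr rfl
  · have h1 := h (r 1)
    rw [r_mul_sr, sr_mul_r, sr.injEq] at h1
    have e : ((2 : ℕ) : ZMod (2 ^ k)) = 0 := by push_cast; linear_combination h1
    rw [ZMod.natCast_eq_zero_iff] at e
    have := Nat.le_of_dvd (by omega) ((four_dvd hk).trans e)
    omega

theorem four_eq_top (hm : 2 ∣ 2 ^ 1) (i : ZMod (2 ^ 1)) : four hm i = ⊤ :=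
  Subgroup.eq_top_of_card_eq _ (by rw [card_four, DihedralGroup.nat_card]; rfl)

/-- The shape of a subgroup containing its centraliser. -/
theorem subgroup_shape (hk : 1 ≤ k) (H : Subgroup (DihedralGroup (2 ^ k)))
    (hc : ∀ d, (∀ h ∈ H, d * h = h * d) → d ∈ H) :
    (2 ≤ k ∧ H = rotations _) ∨ (∃ i, H = four (two_dvd_pow hk) i) ∨
      ∃ (j : ℕ) (ψ : DihedralGroup (2 ^ j) →* DihedralGroup (2 ^ k)),
        2 ≤ j ∧ Function.Injective ψ ∧ ψ.range = H := by
  have hm := two_dvd_pow hk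
  have hh : r (half (2 ^ k)) ∈ H := hc _ fun h _ => half_comm hm h
  by_cases hsr : ∃ i, sr i ∈ H
  swap
  · push Not at hsr
    refine Or.inl ⟨?_, ?_⟩
    · by_contra hlt
      obtain rfl : k = 1 := by omega
      have hab : ∀ h : DihedralGroup (2 ^ 1), sr 0 * h = h * sr 0 := by decide
      exact hsr 0 (hc _ fun h _ => hab h)
    · refine le_antisymm (fun d hd => ?_) ?_
      · rcases d with a | a
        · exact ⟨a, rfl⟩
        · exact absurd hd (hsr a)
      · rintro _ ⟨a, rfl⟩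
        refine hc _ fun h hh => ?_
        rcases h with b | b
        · rw [r_mul_r, r_mul_r, add_comm]
        · exact absurd hh (hsr b)
  obtain ⟨i, hi⟩ := hsr
  set K := H ⊓ Subgroup.zpowers (r (1 : ZMod (2 ^ k))) with hK
  have : IsCyclic K :=
    isCyclic_of_injective (Subgroup.inclusion (inf_le_right : K ≤ _)) (Subgroup.inclusion_injective _)
  obtain ⟨⟨g, hgK⟩, hg⟩ := IsCyclic.exists_generator (α := K)
  have hrot : ∀ {a : ZMod (2 ^ k)}, r a ∈ Subgroup.zpowers (r (1 : ZMod (2 ^ k))) := fun {a} =>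
    ⟨(a.val : ℤ), by simp⟩
  obtain ⟨c, rfl⟩ : ∃ c, g = r c := by
    obtain ⟨z, hz⟩ := hgK.2
    exact ⟨z, by rw [← hz]; simp⟩
  have hmemK : ∀ a, r a ∈ H → ∃ n : ℤ, (n : ZMod (2 ^ k)) * c = a := by
    intro a ha
    obtain ⟨n, hn⟩ := hg ⟨r a, ha, hrot⟩
    refine ⟨n, ?_⟩
    have := congrArg Subtype.val hn
    rw [SubgroupClass.coe_zpow, r_zpow, r.injEq] at this
    rw [mul_comm]; exact this
  obtain ⟨j, hjk, hj⟩ := (Nat.dvd_prime_pow Nat.prime_two).1
    (show addOrderOf c ∣ 2 ^ k from addOrderOf_dvd_of_nsmul_eq_zero (by rw [nsmul_eq_mul, ZMod.natCast_self, zero_mul]))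
  have h0 : half (2 ^ k) ≠ 0 := half_ne_zero hm
  have hj0 : j ≠ 0 := by
    rintro rfl
    rw [pow_zero, AddMonoid.addOrderOf_eq_one_iff] at hj
    obtain ⟨n, hn⟩ := hmemK _ hh
    rw [hj, mul_zero] at hn
    exact h0 hn.symm
  let f : ZMod (2 ^ j) →+ ZMod (2 ^ k) := ZMod.lift _ ⟨zmultiplesHom _ c, by
    simp only [zmultiplesHom_apply, natCast_zsmul]; rw [← hj]; exact addOrderOf_nsmul_eq_zero c⟩
  have hfv : ∀ n : ℤ, f (n : ZMod (2 ^ j)) = (n : ZMod (2 ^ k)) * c := fun n => by
    simp [f, zsmul_eq_mul]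
  let ψ : DihedralGroup (2 ^ j) →* DihedralGroup (2 ^ k) :=
    { toFun := fun | r a => r (f a) | sr a => sr (i + f a)
      map_one' := by show r (f 0) = 1; rw [map_zero, one_def]
      map_mul' := by
        rintro (a | a) (b | b) <;>
          simp only [r_mul_r, r_mul_sr, sr_mul_r, sr_mul_sr, map_add, map_sub] <;> congr 1 <;> ring }
  have hinj : Function.Injective f := by
    refine (injective_iff_map_eq_zero f).2 fun a ha => ?_
    obtain ⟨n, rfl⟩ := ZMod.intCast_surjective a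
    rw [hfv, ← zsmul_eq_mul, ← addOrderOf_dvd_iff_zsmul_eq_zero, hj] at ha
    exact (ZMod.intCast_zmod_eq_zero_iff_dvd n (2 ^ j)).2 ha
  have hψinj : Function.Injective ψ := by
    rintro (a | a) (b | b) e
    · exact congrArg r (hinj (r.inj e))
    · exact absurd e (by simp [ψ])
    · exact absurd e (by simp [ψ])
    · exact congrArg sr (hinj (add_left_cancel (sr.inj e)))
  have hcH : r c ∈ H := hgK.1
  have hrange : ψ.range = H := by
    refine le_antisymm ?_ fun d hd => ?_
    · rintro _ ⟨d, rfl⟩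
      have hr : ∀ a, r (f a) ∈ H := fun a => by
        obtain ⟨n, rfl⟩ := ZMod.intCast_surjective a
        have := H.zpow_mem hcH n
        rw [r_zpow] at this
        rw [hfv, mul_comm]; exact this
      rcases d with a | a
      · exact hr a
      · show sr (i + f a) ∈ H
        rw [← sr_mul_r]; exact mul_mem hi (hr a)
    · rcases d with a | a
      · obtain ⟨n, hn⟩ := hmemK a hd
        exact ⟨r (n : ZMod (2 ^ j)), congrArg r ((hfv n).trans hn)⟩
      · have h1 := mul_mem hi hd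
        rw [sr_mul_sr] at h1
        obtain ⟨n, hn⟩ := hmemK _ h1
        exact ⟨sr (n : ZMod (2 ^ j)), congrArg sr (by rw [hfv, hn]; ring)⟩
  by_cases hj1 : j = 1
  · refine Or.inr (Or.inl ⟨i, (Subgroup.eq_of_le_of_card_ge ?_ ?_).symm⟩)
    · intro d hd
      rcases hd with rfl | rfl | rfl | rfl
      exacts [one_mem _, hh, hi, by rw [← sr_mul_r]; exact mul_mem hi hh]
    · subst hj1
      rw [card_four, ← hrange, ← Nat.card_congr (MonoidHom.ofInjective hψinj).toEquiv,
        DihedralGroup.nat_card]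
      norm_num
  · exact Or.inr (Or.inr ⟨j, ψ, by omega, hψinj, hrange⟩)

theorem map_half {j : ℕ} (hj : 2 ≤ j) (hk : 1 ≤ k) {ψ : DihedralGroup (2 ^ j) →* DihedralGroup (2 ^ k)}
    (hψ : Function.Injective ψ) : ψ (r (half (2 ^ j))) = r (half (2 ^ k)) := by
  obtain ⟨b, hb⟩ := exists_add_self_of_parity (two_dvd_pow (by omega : 1 ≤ j))
    (a := half (2 ^ j)) (parity_half (four_dvd hj))
  have he : ψ (r (half (2 ^ j))) ∈ evenRot (two_dvd_pow hk) := by
    rw [← hb, ← r_mul_r, map_mul]; exact mul_self_mem_evenRot _ _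
  refine (eq_one_or_half he ?_).resolve_left fun e =>
    r_half_ne (two_dvd_pow (by omega : 1 ≤ j)) (hψ (e.trans (map_one ψ).symm))
  rw [← map_mul, r_mul_r, half_add_half (two_dvd_pow (by omega : 1 ≤ j)), r_zero, map_one]

theorem r_quart_mem_normalizer (hk : 2 ≤ k) (i : ZMod (2 ^ k)) :
    r (quart (2 ^ k)) ∈ Subgroup.normalizer
      ((four (two_dvd_pow (by omega : 1 ≤ k)) i : Subgroup (DihedralGroup (2 ^ k))) : Set (DihedralGroup (2 ^ k))) :=
  (r_mem_normalizer_four_iff _).2 (Or.inr (quart_add_quart (four_dvd hk)))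

theorem r_quart_not_mem (hk : 2 ≤ k) (i : ZMod (2 ^ k)) :
    r (quart (2 ^ k)) ∉ four (two_dvd_pow (by omega : 1 ≤ k)) i := by
  have h2 := two_dvd_pow (show 1 ≤ k by omega)
  rw [r_mem_four_iff]
  intro h
  refine half_ne_zero h2 ?_
  rw [← quart_add_quart (four_dvd hk)]
  rcases h with e | e <;> rw [e]
  · exact add_zero 0
  · exact half_add_half h2

/-- Two four-subgroups of different parity generate. -/
theorem four_sup_four (hk : 1 ≤ k) {i i' : ZMod (2 ^ k)}
    (h : parity (two_dvd_pow hk) i ≠ parity (two_dvd_pow hk) i') :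
    four (two_dvd_pow hk) i ⊔ four (two_dvd_pow hk) i' = ⊤ := by
  set W := four (two_dvd_pow hk) i ⊔ four (two_dvd_pow hk) i'
  have hi : sr i ∈ W := Subgroup.mem_sup_left (sr_mem_four_self _ i)
  have hc : r (i' - i) ∈ W := sr_mul_sr i i' ▸ mul_mem hi (Subgroup.mem_sup_right (sr_mem_four_self _ i'))
  have hodd : parity (two_dvd_pow hk) (i' - i) = 1 :=
    (parity_eq_zero_or_one _ _).resolve_left fun e => h ((sub_eq_zero.1 (by rwa [map_sub] at e)).symm)
  have hu : IsUnit (i' - i) := by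
    rw [← ZMod.natCast_zmod_val (i' - i), map_natCast, ZMod.natCast_eq_one_iff_odd] at hodd
    rw [← ZMod.natCast_zmod_val (i' - i), ZMod.isUnit_iff_coprime]
    exact (Nat.coprime_two_right.2 hodd).pow_right k
  obtain ⟨w, hw⟩ := hu.exists_left_inv
  have hr : ∀ a, r a ∈ W := fun a => by
    have := W.pow_mem hc (a * w).val
    rwa [r_pow, ZMod.natCast_zmod_val, show (i' - i) * (a * w) = a by linear_combination a * hw] at this
  rw [eq_top_iff]
  rintro (a | a) -
  · exact hr a
  · rw [show sr a = sr i * r (a - i) by rw [sr_mul_r, add_sub_cancel]]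
    exact mul_mem hi (hr _)

end Cfsg.Agent.DihedralPair
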