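import Cfsg.Agent.Lib.DihedralPair.CaseASplit
import Cfsg.Agent.Lib.DihedralPair.CaseBSplit
import Cfsg.Agent.Lib.ProductFusion.Main
import Cfsg.Agent.Lib.PCore.Basic

/-!
# Groups with Sylow 2-subgroups a product of two dihedral groups

The two strongly closed factors of `S` give normal closures commuting by product fusion, so the group
is their direct product.
-/

set_option autoImplicit false

namespace Cfsg.Agent.DihedralPair

open DihedralGroup DihedralSylow Subgroup Cfsg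

universe u

variable {G : Type u} [Group G] [Finite G] (S : Sylow 2 G)

theorem exists_setup (D₁ D₂ : Subgroup G) (hD : Cfsg.IsInternalDirectProduct D₁ D₂ (S : Subgroup G))
    (hD₁ : ∃ m : ℕ, 2 ≤ m ∧ Nonempty (↥D₁ ≃* DihedralGroup m))
    (hD₂ : ∃ m : ℕ, 2 ≤ m ∧ Nonempty (↥D₂ ≃* DihedralGroup m)) :
    ∃ k₁ k₂, Nonempty (Setup (S : Subgroup G) k₁ k₂) := by
  have : Fact (Nat.Prime 2) := ⟨Nat.prime_two⟩
  obtain ⟨h₁, h₂, hc, hi, hs⟩ := hD
  have hk : ∀ {D : Subgroup G} {m : ℕ}, D ≤ (S : Subgroup G) → 2 ≤ m → (D ≃* DihedralGroup m) →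
      ∃ k, 1 ≤ k ∧ m = 2 ^ k := by
    intro D m hle hm e
    obtain ⟨t, ht⟩ := IsPGroup.iff_card.1 (S.2.to_le hle)
    rw [Nat.card_congr e.toEquiv, DihedralGroup.nat_card] at ht
    obtain ⟨k, -, hk⟩ := (Nat.dvd_prime_pow Nat.prime_two).1 (ht ▸ dvd_mul_left m 2 : m ∣ 2 ^ t)
    refine ⟨k, ?_, hk⟩
    by_contra h0
    rw [show k = 0 by omega, pow_zero] at hk
    omega
  obtain ⟨m₁, hm₁, ⟨e₁⟩⟩ := hD₁
  obtain ⟨m₂, hm₂, ⟨e₂⟩⟩ := hD₂
  obtain ⟨k₁, hk₁, rfl⟩ := hk h₁ hm₁ e₁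
  obtain ⟨k₂, hk₂, rfl⟩ := hk h₂ hm₂ e₂
  refine ⟨k₁, k₂, ⟨⟨(D₁.subtype.comp e₁.symm.toMonoidHom).noncommCoprod (D₂.subtype.comp e₂.symm.toMonoidHom)
    (fun a b => hc _ (e₁.symm a).2 _ (e₂.symm b).2), ?_, ?_, hk₁, hk₂⟩⟩⟩
  · refine (injective_iff_map_eq_one _).2 ?_
    rintro ⟨a, b⟩ h
    replace h : (e₁.symm a : G) * (e₂.symm b : G) = 1 := h
    have h' : (e₁.symm a : G) = ((e₂.symm b : G))⁻¹ := eq_inv_of_mul_eq_one_left h
    have h1 : (e₁.symm a : G) ∈ D₁ ⊓ D₂ := ⟨(e₁.symm a).2, by rw [h']; exact D₂.inv_mem (e₂.symm b).2⟩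
    rw [hi, Subgroup.mem_bot] at h1
    rw [h1, eq_comm, inv_eq_one] at h'
    exact Prod.ext (e₁.symm.map_eq_one_iff.1 (Subtype.ext h1)) (e₂.symm.map_eq_one_iff.1 (Subtype.ext h'))
  · refine le_antisymm ?_ ?_
    · rintro _ ⟨⟨a, b⟩, rfl⟩
      exact (S : Subgroup G).mul_mem (h₁ (e₁.symm a).2) (h₂ (e₂.symm b).2)
    · rw [← hs]
      refine sup_le (fun x hx => ⟨(e₁ ⟨x, hx⟩, 1), ?_⟩) (fun x hx => ⟨(1, e₂ ⟨x, hx⟩), ?_⟩)
      · show (e₁.symm (e₁ ⟨x, hx⟩) : G) * (e₂.symm 1 : G) = x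
        simp
      · show (e₁.symm 1 : G) * (e₂.symm (e₂ ⟨x, hx⟩) : G) = x
        simp

theorem exists_split (hperf : commutator G = ⊤) (hS : ¬ IsMulCommutative ↥(S : Subgroup G))
    (D₁ D₂ : Subgroup G) (hD : Cfsg.IsInternalDirectProduct D₁ D₂ (S : Subgroup G))
    (hD₁ : ∃ m : ℕ, 2 ≤ m ∧ Nonempty (↥D₁ ≃* DihedralGroup m))
    (hD₂ : ∃ m : ℕ, 2 ≤ m ∧ Nonempty (↥D₂ ≃* DihedralGroup m)) :
    ∃ S₁ S₂, Split S S₁ S₂ := by
  obtain ⟨k₁, k₂, ⟨st⟩⟩ := exists_setup S D₁ D₂ hD hD₁ hD₂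
  have h₁ := st.one_le₁
  have h₂ := st.one_le₂
  by_cases a : 2 ≤ k₁ <;> by_cases b : 2 ≤ k₂
  · exact st.split_of_two_le a b hperf
  · obtain rfl : k₂ = 1 := by omega
    exact st.split_of_one a hperf
  · obtain rfl : k₁ = 1 := by omega
    exact st.swap.split_of_one b hperf
  · obtain rfl : k₁ = 1 := by omega
    obtain rfl : k₂ = 1 := by omega
    refine absurd ⟨⟨fun x y => Subtype.ext ?_⟩⟩ hS
    obtain ⟨⟨p, q⟩, hx⟩ := st.exists_preimage x.2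
    obtain ⟨⟨p', q'⟩, hy⟩ := st.exists_preimage y.2
    show (x : G) * y = y * x
    rw [← hx, ← hy, ← map_mul, ← map_mul, Prod.mk_mul_mk, Prod.mk_mul_mk, two_comm p, two_comm q]

/-- The factorisation of the group from a split Sylow subgroup. -/
theorem factorization (hFT : FTConsumers.OddOrder.{u}) (hO : Cfsg.oddCore G = ⊥)
    (hidx : ∀ N : Subgroup G, N.Normal → Odd N.index → N = ⊤) {S₁ S₂ : Subgroup G}
    (h : Split S S₁ S₂) :
    ∃ G₁ G₂ : Subgroup G, G₁.Normal ∧ G₂.Normal ∧ Cfsg.IsInternalDirectProduct G₁ G₂ ⊤ ∧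
      S₁ ≤ G₁ ∧ S₂ ≤ G₂ ∧ ¬ (2 ∣ (S₁.subgroupOf G₁).index) ∧ ¬ (2 ∣ (S₂.subgroupOf G₂).index) := by
  have : Fact (Nat.Prime 2) := ⟨Nat.prime_two⟩
  obtain ⟨h₁, h₂, hc, hi, hs⟩ := h.prod
  set N₁ := normalClosure (S₁ : Set G) with hN₁
  set N₂ := normalClosure (S₂ : Set G) with hN₂
  have hcomm : ∀ a ∈ N₁, ∀ b ∈ N₂, a * b = b * a := by
    intro a ha b hb
    have := ProductFusion.commutator_le hFT (P := S) ⟨h.closed₁, h.closed₂, hc, hi⟩
      (Subgroup.commutator_mem_commutator ha hb)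
    rw [hO, Subgroup.mem_bot] at this
    exact commutatorElement_eq_one_iff_mul_comm.1 this
  have hle₁ : S₁ ≤ N₁ := fun x hx => subset_normalClosure hx
  have hle₂ : S₂ ≤ N₂ := fun x hx => subset_normalClosure hx
  have hSle : (S : Subgroup G) ≤ N₁ ⊔ N₂ := hs ▸ sup_le_sup hle₁ hle₂
  have hodd : Odd (N₁ ⊔ N₂).index :=
    (Nat.not_even_iff_odd.1 fun h => S.not_dvd_index (even_iff_two_dvd.1 h)).of_dvd_nat (index_dvd_of_le hSle)
  have htop : N₁ ⊔ N₂ = ⊤ := hidx _ inferInstance hodd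
  have hcen : ∀ x ∈ N₁ ⊓ N₂, ∀ g : G, g * x * g⁻¹ = x := by
    intro x hx g
    have : g ∈ centralizer ({x} : Set G) := by
      have hle : N₁ ⊔ N₂ ≤ centralizer ({x} : Set G) := sup_le
        (fun a ha => Subgroup.mem_centralizer_singleton_iff.2 (hcomm a ha x hx.2))
        (fun b hb => Subgroup.mem_centralizer_singleton_iff.2 (hcomm x hx.1 b hb).symm)
      exact hle (htop ▸ mem_top g)
    rw [Subgroup.mem_centralizer_singleton_iff.1 this, mul_inv_cancel_right]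
  have hinf : N₁ ⊓ N₂ = ⊥ := by
    set K := N₁ ⊓ N₂ with hK
    have hKn : K.Normal := ⟨fun x hx g => by rwa [hcen x hx g]⟩
    have hp : IsPGroup 2 K := by
      rintro ⟨x, hx⟩
      obtain ⟨t, m, hm, ht⟩ := Nat.exists_eq_two_pow_mul_odd (orderOf_pos x).ne'
      refine ⟨t, Subtype.ext ?_⟩
      have hzn : (zpowers (x ^ 2 ^ t)).Normal := ⟨fun y hy g => by
        have hy' : y ∈ K := (zpowers_le.2 (K.pow_mem hx (2 ^ t))) hy
        rwa [hcen y hy' g]⟩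
      have hzo : Odd (Nat.card (zpowers (x ^ 2 ^ t))) := by
        rw [Nat.card_zpowers, orderOf_pow' _ (by positivity), ht, Nat.gcd_eq_right (dvd_mul_right _ _),
          Nat.mul_div_cancel_left _ (by positivity)]
        exact hm
      have := PCore.le_oddCore hzo (mem_zpowers (x ^ 2 ^ t))
      rw [hO, Subgroup.mem_bot] at this
      exact this
    obtain ⟨P, hP⟩ := hp.exists_le_sylow
    obtain ⟨g, hg⟩ := MulAction.exists_smul_eq G P S
    refine (Subgroup.eq_bot_iff_forall _).2 fun x hx => h.no_central x ?_ (hcen x hx)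
    rw [← hg, StrongEmb.mem_smul_sylow_iff]
    exact hP (by simpa using hKn.conj_mem x hx g⁻¹)
  have hS₁ : (S : Subgroup G) ⊓ N₁ = S₁ := by
    refine le_antisymm (fun x ⟨hx, hxN⟩ => ?_) (le_inf h₁ hle₁)
    rw [← hs] at hx
    obtain ⟨a, ha, b, hb, rfl⟩ := (sup_mem_iff hc).1 hx
    have hbN : b ∈ N₁ ⊓ N₂ := ⟨(Subgroup.mul_mem_cancel_left _ (hle₁ ha)).1 hxN, hle₂ hb⟩
    rw [hinf, Subgroup.mem_bot] at hbN
    rw [hbN, mul_one]
    exact ha
  have hS₂ : (S : Subgroup G) ⊓ N₂ = S₂ := by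
    refine le_antisymm (fun x ⟨hx, hxN⟩ => ?_) (le_inf h₂ hle₂)
    rw [← hs] at hx
    obtain ⟨a, ha, b, hb, rfl⟩ := (sup_mem_iff hc).1 hx
    have haN : a ∈ N₁ ⊓ N₂ := ⟨hle₁ ha, (Subgroup.mul_mem_cancel_right _ (hle₂ hb)).1 hxN⟩
    rw [hinf, Subgroup.mem_bot] at haN
    rw [haN, one_mul]
    exact hb
  have hind : ∀ (N : Subgroup G), N.Normal → ∀ T, (S : Subgroup G) ⊓ N = T → ¬ 2 ∣ (T.subgroupOf N).index := by
    intro N hN T hT
    obtain ⟨R, hR⟩ := Cfsg.Agent.SylowCount.exists_sylow_inf S N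
    rw [← hT, Subgroup.inf_subgroupOf_right, ← hR]
    exact R.not_dvd_index
  refine ⟨N₁, N₂, inferInstance, inferInstance, ⟨le_top, le_top, hcomm, hinf, htop⟩, hle₁, hle₂,
    hind N₁ inferInstance S₁ hS₁, hind N₂ inferInstance S₂ hS₂⟩
where
  sup_mem_iff {A B : Subgroup G} (hc : ∀ a ∈ A, ∀ b ∈ B, a * b = b * a) {x : G} :
      x ∈ A ⊔ B ↔ ∃ a ∈ A, ∃ b ∈ B, a * b = x := by
    have hn : B ≤ normalizer (A : Set G) := by
      intro b hb
      refine Subgroup.mem_normalizer_iff.2 fun a => ⟨fun ha => ?_, fun ha => ?_⟩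
      · rwa [← hc a ha b hb, mul_inv_cancel_right]
      · have := hc _ ha b hb
        rw [inv_mul_cancel_right] at this
        exact (mul_left_cancel this).symm ▸ ha
    rw [← SetLike.mem_coe, Subgroup.coe_mul_of_right_le_normalizer_left A B hn]
    exact Set.mem_mul

end Cfsg.Agent.DihedralPair
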