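import Cfsg.Agent.Lib.DihedralPair.Subdirect

/-!
# Odd automorphisms when one factor has exponent two

`mixed_mem`: if `(u, p) : Q → A × D` is injective with `A` of exponent two and `p` onto a dihedral
group of order at least 8, an automorphism of odd order moves every element inside
`p⁻¹{1, z}`.
-/

set_option autoImplicit false
set_option linter.unusedSectionVars false

namespace Cfsg.Agent.DihedralPair

open DihedralGroup DihedralSylow Function

variable {Q A : Type*} [Group Q] [Finite Q] [Group A] {k : ℕ} (hk : 2 ≤ k) {u : Q →* A}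
  {p : Q →* DihedralGroup (2 ^ k)}

include hk

theorem mixed_mem (hA : ∀ a : A, a * a = 1) (hp : Surjective p)
    (hinj : ∀ x, u x = 1 → p x = 1 → x = 1) (hQ : IsPGroup 2 Q) {α : MulAut Q}
    (hα : Odd (orderOf α)) (x : Q) :
    p (x⁻¹ * α x) = 1 ∨ p (x⁻¹ * α x) = r (half (2 ^ k)) := by
  have hm := four_dvd hk
  have hinj' : ∀ a b, u a = u b → p a = p b → a = b := fun a b e₁ e₂ => mul_inv_eq_one.1
    (hinj _ (by rw [map_mul, map_inv, e₁, mul_inv_cancel]) (by rw [map_mul, map_inv, e₂, mul_inv_cancel]))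
  have hS : ∀ a ∈ squares Q, u a = 1 ∧ p a ∈ evenRot (two_dvd hm) := by
    intro a ha
    induction ha using Subgroup.closure_induction with
    | mem y hy =>
      obtain ⟨z, rfl⟩ := hy
      exact ⟨by simp only [map_mul, hA], by simp only [map_mul]; exact mul_self_mem_evenRot _ _⟩
    | one => exact ⟨map_one u, by rw [map_one]; exact one_mem _⟩
    | mul a b _ _ ia ib => exact ⟨by rw [map_mul, ia.1, ib.1, one_mul], by rw [map_mul]; exact mul_mem ia.2 ib.2⟩
    | inv a _ ia => exact ⟨by rw [map_inv, ia.1, inv_one], by rw [map_inv]; exact inv_mem ia.2⟩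
  have hfix : ∀ a ∈ squares Q, a * a = 1 → α a = a := by
    intro a ha h2
    obtain ⟨h0, h1⟩ := hS a ha
    obtain ⟨h0', h1'⟩ := hS _ (map_squares α ha)
    rcases eq_one_or_half h1 (by rw [← map_mul, h2, map_one]) with e | e
    · rw [hinj a h0 e, map_one]
    · rcases eq_one_or_half h1' (by rw [← map_mul, ← map_mul, h2, map_one, map_one]) with e' | e'
      · have h3 := hinj _ h0' e'
        rw [map_eq_one_iff α α.injective] at h3
        rw [h3, map_one]
      · exact hinj' _ _ (h0'.trans h0.symm) (e'.trans e.symm)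
  have hSfix : ∀ a ∈ squares Q, α a = a := fun a ha =>
    fixed_of_involutions hQ hα (squares Q)
      (fun a ha b hb => hinj' _ _ (by rw [map_mul, map_mul, (hS a ha).1, (hS b hb).1])
        (by rw [map_mul, map_mul, evenRot_comm (hS a ha).2 (hS b hb).2]))
      (fun a ha => map_squares α ha) hfix ha
  have cl := mul_map_mem_evenRot hm p hp (fun x => by rw [hSfix _ (sq_mem x)])
    (fun x y => by rw [hSfix _ (comm_mem_squares x y)]) hα
  -- elements over even rotations move inside `{1, z}`
  have step : ∀ y, p y ∈ evenRot (two_dvd hm) →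
      p (α y) = p y ∨ p (α y) = p y * r (half (2 ^ k)) := by
    intro y hy
    obtain ⟨a, ha, he⟩ := hy
    obtain ⟨b, rfl⟩ := exists_add_self_of_parity _ ha
    obtain ⟨q, hq⟩ := hp (r b)
    set v := y * (q * q)⁻¹ with hv
    have hy' : y = v * (q * q) := (inv_mul_cancel_right y (q * q)).symm
    have hpv : p v = 1 := by rw [hv, map_mul, map_inv, map_mul, he, hq, r_mul_r, mul_inv_cancel]
    have hv2 : v * v = 1 := hinj _ (by rw [map_mul]; exact hA _) (by rw [map_mul, hpv, one_mul])
    have h1 : p (α v) ∈ evenRot (two_dvd hm) := by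
      have := cl v
      rwa [hpv, inv_one, one_mul] at this
    have e : p (α y) = p (α v) * p y := by
      rw [hy', map_mul, map_mul, hSfix _ (sq_mem q), map_mul p v, hpv, one_mul]
    rcases eq_one_or_half h1 (by rw [← map_mul, ← map_mul, hv2, map_one, map_one]) with h | h
    · exact Or.inl (by rw [e, h, one_mul])
    · refine Or.inr ?_
      rw [e, h, he, r_mul_r, r_mul_r, add_comm]
  set y := x⁻¹ * α x with hy
  have hye : p y ∈ evenRot (two_dvd hm) := by rw [hy, map_mul, map_inv]; exact cl x
  obtain ⟨a, ha, hpy⟩ := hye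
  have hx : α x = x * y := by rw [hy, mul_inv_cancel_left]
  have hrot : ∀ i : ℕ, ∃ c : ZMod (2 ^ k), p ((α ^ i) y) = r c ∧ parity (two_dvd hm) c = 0 ∧
      c + c = a + a := by
    intro i
    induction i with
    | zero => exact ⟨a, by simpa using hpy, ha, rfl⟩
    | succ i ih =>
      obtain ⟨c, hc, hc0, hc'⟩ := ih
      rcases step ((α ^ i) y) ⟨c, hc0, hc⟩ with h | h
      · exact ⟨c, by rw [pow_succ', MulAut.mul_apply, h, hc], hc0, hc'⟩
      · refine ⟨c + half _, by rw [pow_succ', MulAut.mul_apply, h, hc, r_mul_r],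
          by rw [map_add, hc0, parity_half hm, add_zero], ?_⟩
        linear_combination hc' + half_add_half (two_dvd hm)
  have key : ∀ n : ℕ, ∃ c : ZMod (2 ^ k), p ((α ^ n) x) = p x * r c ∧ c + c = n • (a + a) := by
    intro n
    induction n with
    | zero => exact ⟨0, by simp [-r_zero, ← one_def], by simp⟩
    | succ n ih =>
      obtain ⟨c, hc, hc'⟩ := ih
      obtain ⟨d, hd, -, hd'⟩ := hrot n
      refine ⟨c + d, by rw [pow_succ, MulAut.mul_apply, hx, map_mul, map_mul, hc, hd, mul_assoc, r_mul_r], ?_⟩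
      rw [succ_nsmul, ← hc', ← hd']
      ring
  obtain ⟨c, hc, hc'⟩ := key (orderOf α)
  rw [pow_orderOf_eq_one, MulAut.one_apply, left_eq_mul, one_def, r.injEq] at hc
  rw [hc, add_zero, nsmul_eq_mul] at hc'
  have hu : IsUnit ((orderOf α : ℕ) : ZMod (2 ^ k)) := by
    rw [ZMod.isUnit_iff_coprime]
    exact (Nat.coprime_two_right.2 hα).pow_right k
  have h0 : a + a = 0 := hu.mul_right_eq_zero.1 hc'.symm
  rcases eq_zero_or_half h0 with e | e
  · exact Or.inl (by rw [hpy, e, r_zero])
  · exact Or.inr (by rw [hpy, e])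

end Cfsg.Agent.DihedralPair
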