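import Cfsg.Agent.Lib.Fusion.Alperin
import Cfsg.Agent.Lib.Fusion.Group
import Cfsg.Agent.Lib.PGroup.MetacyclicTwo
import Cfsg.Agent.Lib.StronglyEmbedded.Conj

/-!
# Radical and essential subgroups for the prime 2: working tools
-/

set_option autoImplicit false
set_option linter.unusedSectionVars false

namespace Cfsg.Agent.DihedralPair

open Cfsg Cfsg.FusionSystem Cfsg.Agent.Fusion Subgroup

variable {Ω : Type*} [Group Ω] {S : Subgroup Ω} [Finite S] {F : FusionSystem S} {R : Subgroup Ω}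

/-- An element of `N_S(R)` acting inside a normalised set of automorphisms without non-trivial
elements of odd order lies in `R`. -/
theorem mem_of_radical (hr : F.IsRadical 2 R) (hc : centralizerIn S R ≤ R) {x : Ω}
    (hxS : x ∈ S) (hxN : x ∈ normalizer (R : Set Ω)) (N : Subgroup (MulAut R)) (hN : conjAut hxN ∈ N)
    (hnorm : ∀ a ∈ F.autGroup R, ∀ b ∈ N, a * b * a⁻¹ ∈ N)
    (hodd : ∀ a ∈ F.autGroup R, a ∈ N → Odd (orderOf a) → a = 1) : x ∈ R := by
  have : Fact (Nat.Prime 2) := ⟨Nat.prime_two⟩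
  obtain ⟨hRS, hrad⟩ := hr
  have := finite_autGroup (F := F) hRS
  set A := F.autGroup R with hA
  have hK : (N.subgroupOf A).Normal :=
    ⟨fun b hb a => mem_subgroupOf.2 (hnorm a a.2 b (mem_subgroupOf.1 hb))⟩
  have hp : IsPGroup 2 (N.subgroupOf A) := fun b => by
    obtain ⟨t, m, hm, ht⟩ := Nat.exists_eq_two_pow_mul_odd (orderOf_pos b).ne'
    refine ⟨t, ?_⟩
    have hd : Odd (orderOf (((b ^ 2 ^ t : N.subgroupOf A) : A) : MulAut R)) := by
      rw [Subgroup.orderOf_coe, Subgroup.orderOf_coe, orderOf_pow' _ (by positivity), ht,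
        Nat.gcd_eq_right (dvd_mul_right _ _), Nat.mul_div_cancel_left _ (by positivity)]
      exact hm
    exact Subtype.ext (Subtype.ext (hodd _ (b ^ 2 ^ t).1.2 (mem_subgroupOf.1 (b ^ 2 ^ t).2) hd))
  have hmem : conjAut hxN ∈ (pCore 2 A).map A.subtype :=
    ⟨⟨conjAut hxN, autInducedBy_le_autGroup F hRS (conjAut_mem_autInducedBy hxS hxN)⟩,
      PCore.le_pCore hp (mem_subgroupOf.2 hN), rfl⟩
  rw [hrad] at hmem
  by_contra hxR
  exact conjAut_notMem_inn hc hRS hxS hxN hxR hmem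

/-- A proper radical centric subgroup has an automorphism of odd order. -/
theorem exists_odd (hS : IsPGroup 2 S) (hr : F.IsRadical 2 R) (hc : centralizerIn S R ≤ R)
    (hne : R ≠ S) : ∃ a ∈ F.autGroup R, Odd (orderOf a) ∧ a ≠ 1 := by
  have : Fact (Nat.Prime 2) := ⟨Nat.prime_two⟩
  by_contra h
  push Not at h
  obtain ⟨x, hx, hxR⟩ := SetLike.exists_of_lt (lt_normalizerIn hS (lt_of_le_of_ne hr.1 hne))
  exact hxR (mem_of_radical hr hc hx.1 hx.2 ⊤ (mem_top _) (fun _ _ _ _ => mem_top _)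
    fun a ha _ ho => h a ha ho)

/-- `[R, x] ≤ Φ(R)` forces `x ∈ R`. -/
theorem mem_of_comm_frattini (hS : IsPGroup 2 S) (hr : F.IsRadical 2 R)
    (hc : centralizerIn S R ≤ R) {x : Ω} (hxS : x ∈ S) (hxN : x ∈ normalizer (R : Set Ω))
    (h : ∀ q : R, q⁻¹ * conjAut hxN q ∈ frattini R) : x ∈ R := by
  have : Fact (Nat.Prime 2) := ⟨Nat.prime_two⟩
  haveI := finite_of_le (Ω := Ω) hr.1
  let N : Subgroup (MulAut R) :=
    { carrier := {δ | ∀ q, q⁻¹ * δ q ∈ frattini R}
      one_mem' := fun q => by simp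
      mul_mem' := fun {δ ε} hδ hε q => by
        have := (frattini R).mul_mem (hε q) (hδ (ε q))
        simpa [MulAut.mul_apply, mul_assoc] using this
      inv_mem' := fun {δ} hδ q => by
        have := (frattini R).inv_mem (hδ (δ⁻¹ q))
        simpa [MulAut.apply_inv_self] using this }
  refine mem_of_radical hr hc hxS hxN N h (fun a _ b hb q => ?_) fun a _ haN ho => ?_
  · have h1 : a ((a⁻¹ q)⁻¹ * b (a⁻¹ q)) ∈ frattini R := by
      have h2 := frattini_characteristic (G := R)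
      rw [Subgroup.characteristic_iff_map_eq] at h2
      exact (h2 a).le ⟨_, hb (a⁻¹ q), rfl⟩
    simpa [MulAut.mul_apply, MulAut.apply_inv_self] using h1
  · exact Cfsg.Agent.PGroup.MetacyclicTwo.aut_trivial_of_frattini (hS.to_le hr.1) (Nat.coprime_two_right.2 ho) haN

/-- Induction in the automorphism group of a fully normalised subgroup. -/
theorem autGroup_le_of_odd (hS : IsPGroup 2 S) (hF : F.IsSaturated 2) (hn : F.IsFullyNormalized R)
    (W : Subgroup (MulAut R)) (h2 : autInducedBy S R ≤ W)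
    (hodd : ∀ a ∈ F.autGroup R, Odd (orderOf a) → a ∈ W) : F.autGroup R ≤ W := by
  have : Fact (Nat.Prime 2) := ⟨Nat.prime_two⟩
  have := finite_autGroup (F := F) hn.1
  set A := F.autGroup R with hA
  suffices W.subgroupOf A = ⊤ from subgroupOf_eq_top.1 this
  apply Subgroup.eq_top_of_card_eq
  refine Nat.dvd_antisymm (card_subgroup_dvd_card _) (Nat.dvd_iff_prime_pow_dvd_dvd _ _ |>.2 ?_)
  intro q k hq hd
  have : Fact q.Prime := ⟨hq⟩
  obtain ⟨P, hP⟩ : ∃ P : Sylow q A, (P : Subgroup A) ≤ W.subgroupOf A := by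
    by_cases hq2 : q = 2
    · subst hq2
      obtain ⟨-, P, hP⟩ := isFullyAutomized_of_fullyNormalized hS hF hn
      exact ⟨P, hP ▸ fun a ha => mem_subgroupOf.2 (h2 (mem_subgroupOf.1 ha))⟩
    · obtain ⟨P⟩ := (inferInstance : Nonempty (Sylow q A))
      refine ⟨P, fun a ha => mem_subgroupOf.2 (hodd _ a.2 ?_)⟩
      obtain ⟨j, hj⟩ := P.2 ⟨a, ha⟩
      have hd' : orderOf a ∣ q ^ j := orderOf_dvd_of_pow_eq_one (congrArg Subtype.val hj)
      rw [Subgroup.orderOf_coe]
      exact (hq.odd_of_ne_two hq2 |>.pow).of_dvd_nat hd'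
  exact (P.pow_dvd_card_of_pow_dvd_card hd).trans (card_dvd_of_le hP)

/-- In a group with a strongly 2-embedded subgroup any two involutions are conjugate. -/
theorem isConj_of_stronglyEmbedded {X : Type*} [Group X] [Finite X] {E : Subgroup X}
    (hE : Cfsg.IsStronglyPEmbedded 2 E) {a b : X} (ha : orderOf a = 2) (hb : orderOf b = 2) :
    IsConj a b := by
  have : Fact (Nat.Prime 2) := ⟨Nat.prime_two⟩
  obtain ⟨P, hPE, -⟩ := StronglyEmbedded.exists_sylow hE
  -- every involution has a conjugate in `E`, and one outside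
  have hin : ∀ a : X, orderOf a = 2 → ∃ g, g * a * g⁻¹ ∈ E ∧ orderOf (g * a * g⁻¹) = 2 := by
    intro a ha
    have hz : IsPGroup 2 (zpowers a) :=
      IsPGroup.of_card (n := 1) (by rw [Nat.card_zpowers, ha, pow_one])
    obtain ⟨U, hU⟩ := hz.exists_le_sylow
    obtain ⟨g, hg⟩ := MulAction.exists_smul_eq X U P
    refine ⟨g, hPE ?_, (orderOf_injective (MulAut.conj g).toMonoidHom (MulAut.conj g).injective a).trans ha⟩
    rw [← hg, StrongEmb.mem_smul_sylow_iff]
    simpa [mul_assoc] using hU (mem_zpowers a)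
  obtain ⟨x, -, hx⟩ : ∃ x, x ∈ (⊤ : Subgroup X) ∧ x ∉ E := by
    by_contra hno
    push Not at hno
    exact hE.2.1 (eq_top_iff.2 fun y hy => hno y hy)
  obtain ⟨g, hga, hga'⟩ := hin a ha
  obtain ⟨w, hwb, hwb'⟩ := hin b hb
  obtain ⟨u, hu⟩ : ∃ u, u = x * (g * a * g⁻¹) * x⁻¹ := ⟨_, rfl⟩
  have huE : u ∉ E := fun h => hx (StronglyEmbedded.mem_of_conj hE hga' hga (hu ▸ h))
  have hu2 : orderOf u = 2 := hu ▸
    (orderOf_injective (MulAut.conj x).toMonoidHom (MulAut.conj x).injective (g * a * g⁻¹)).trans hga'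
  -- an involution in `E` and one outside are conjugate
  have key : ∀ t, t ∈ E → orderOf t = 2 → IsConj t u := by
    intro t htE ht
    have tt : t * t = 1 := by rw [← pow_two, ← ht, pow_orderOf_eq_one]
    have uu : u * u = 1 := by rw [← pow_two, ← hu2, pow_orderOf_eq_one]
    rcases Nat.even_or_odd (orderOf (t * u)) with hev | hod
    · obtain ⟨n, hn⟩ := hev
      set c := (t * u) ^ n with hc
      have hct : t * c * t⁻¹ = c⁻¹ := by
        rw [hc, ← inv_pow, ← conj_pow]
        congr 1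
        rw [mul_inv_rev, inv_eq_of_mul_eq_one_right tt, inv_eq_of_mul_eq_one_right uu,
          ← mul_assoc, tt, one_mul]
      have hcu : u * c * u⁻¹ = c⁻¹ := by
        rw [hc, ← inv_pow, ← conj_pow]
        congr 1
        rw [mul_inv_rev, inv_eq_of_mul_eq_one_right tt, inv_eq_of_mul_eq_one_right uu,
          mul_assoc, mul_assoc, uu, mul_one]
      have hpos := orderOf_pos (t * u)
      have hc2 : orderOf c = 2 := by
        rw [hc, orderOf_pow' _ (by omega), hn, Nat.gcd_eq_right ⟨2, by omega⟩]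
        exact Nat.div_eq_of_eq_mul_left (by omega) (by omega)
      have hci : c⁻¹ = c := inv_eq_of_mul_eq_one_right (by rw [← pow_two, ← hc2, pow_orderOf_eq_one])
      rw [hci] at hct hcu
      have hctc : c * t * c⁻¹ = t := by
        have h5 : t * c = c * t := mul_inv_eq_iff_eq_mul.1 hct
        rw [← h5, mul_inv_cancel_right]
      have hcE : c ∈ E := StronglyEmbedded.mem_of_conj hE ht htE (by rw [hctc]; exact htE)
      exact absurd (StronglyEmbedded.mem_of_conj hE hc2 hcE (by rw [hcu]; exact hcE)) huE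
    · obtain ⟨n, hn⟩ := hod
      refine isConj_iff.2 ⟨(t * u) ^ n, ?_⟩
      -- conjugating by a power of the product
      have hti : ∀ j : ℕ, t * (t * u) ^ j * t⁻¹ = ((t * u) ^ j)⁻¹ := by
        intro j
        rw [← inv_pow, ← conj_pow]
        congr 1
        rw [mul_inv_rev, inv_eq_of_mul_eq_one_right tt, inv_eq_of_mul_eq_one_right uu,
          ← mul_assoc, tt, one_mul]
      have h1 := hti n
      rw [mul_inv_eq_iff_eq_mul] at h1
      -- `t rⁿ = r⁻ⁿ t`, so `rⁿ t r⁻ⁿ = r²ⁿ t = r⁻¹ t = u`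
      set r := (t * u) with hr
      have h2 : t * (r ^ n)⁻¹ = r ^ n * t := by
        calc t * (r ^ n)⁻¹ = r ^ n * ((r ^ n)⁻¹ * t) * (r ^ n)⁻¹ := by group
          _ = r ^ n * (t * r ^ n) * (r ^ n)⁻¹ := by rw [h1]
          _ = r ^ n * t := by group
      have h3 : r ^ (2 * n) = r⁻¹ := eq_inv_of_mul_eq_one_left (by
        rw [← pow_succ, show 2 * n + 1 = orderOf r by omega, pow_orderOf_eq_one])
      calc r ^ n * t * (r ^ n)⁻¹ = r ^ n * (t * (r ^ n)⁻¹) := mul_assoc _ _ _
        _ = r ^ (2 * n) * t := by rw [h2, ← mul_assoc, ← pow_add, two_mul]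
        _ = u := by
          rw [h3, hr, mul_inv_rev, inv_eq_of_mul_eq_one_right tt, inv_eq_of_mul_eq_one_right uu,
            mul_assoc, tt, mul_one]
  exact ((isConj_iff.2 ⟨g, rfl⟩).trans (key _ hga hga')).trans
    ((isConj_iff.2 ⟨w, rfl⟩).trans (key _ hwb hwb')).symm

end Cfsg.Agent.DihedralPair
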