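import Cfsg.Agent.Lib.DihedralPair.Dihedral
import Cfsg.Agent.Lib.DihedralPair.Radical

/-!
# A Sylow 2-subgroup that is a product of two dihedral groups
-/

set_option autoImplicit false
set_option linter.unusedSectionVars false

namespace Cfsg.Agent.DihedralPair

open DihedralGroup DihedralSylow Subgroup

variable {G : Type*} [Group G]

/-- The Sylow subgroup `S` as an image of a product of two dihedral groups. -/
structure Setup (S : Subgroup G) (k₁ k₂ : ℕ) where
  /-- The parametrisation. -/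
  φ : DihedralGroup (2 ^ k₁) × DihedralGroup (2 ^ k₂) →* G
  inj : Function.Injective φ
  range_eq : φ.range = S
  one_le₁ : 1 ≤ k₁
  one_le₂ : 1 ≤ k₂

namespace Setup

variable {S : Subgroup G} {k₁ k₂ : ℕ} (st : Setup S k₁ k₂)

/-- The factors exchanged. -/
def swap : Setup S k₂ k₁ where
  φ := st.φ.comp (MulEquiv.prodComm).toMonoidHom
  inj := st.inj.comp (MulEquiv.prodComm (M := DihedralGroup (2 ^ k₂)) (N := DihedralGroup (2 ^ k₁))).injective
  range_eq := by
    rw [MonoidHom.range_comp, MonoidHom.range_eq_top.2 MulEquiv.prodComm.surjective,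
      ← MonoidHom.range_eq_map]
    exact st.range_eq
  one_le₁ := st.one_le₂
  one_le₂ := st.one_le₁

theorem swap_φ (a : DihedralGroup (2 ^ k₂)) (b : DihedralGroup (2 ^ k₁)) :
    st.swap.φ (a, b) = st.φ (b, a) := rfl

theorem mem (d : DihedralGroup (2 ^ k₁) × DihedralGroup (2 ^ k₂)) : st.φ d ∈ S :=
  st.range_eq.le ⟨d, rfl⟩

theorem exists_preimage {g : G} (hg : g ∈ S) : ∃ d, st.φ d = g := st.range_eq.ge hg

/-- The coordinates on a subgroup of `S`. -/
noncomputable def coords {R : Subgroup G} (hR : R ≤ S) :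
    R →* DihedralGroup (2 ^ k₁) × DihedralGroup (2 ^ k₂) :=
  (MonoidHom.ofInjective st.inj).symm.toMonoidHom.comp
    (Subgroup.inclusion (hR.trans st.range_eq.ge))

@[simp] theorem φ_coords {R : Subgroup G} (hR : R ≤ S) (q : R) : st.φ (st.coords hR q) = q :=
  MonoidHom.apply_ofInjective_symm st.inj _

theorem coords_injective {R : Subgroup G} (hR : R ≤ S) : Function.Injective (st.coords hR) :=
  fun a b e => Subtype.ext (by rw [← st.φ_coords hR a, e, st.φ_coords])

theorem coords_eq {R : Subgroup G} (hR : R ≤ S) {q : R}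
    {d : DihedralGroup (2 ^ k₁) × DihedralGroup (2 ^ k₂)} (h : st.φ d = q) : st.coords hR q = d :=
  st.inj (by rw [st.φ_coords, h])

/-- The first projection of a subgroup. -/
noncomputable def pr₁ {R : Subgroup G} (hR : R ≤ S) : R →* DihedralGroup (2 ^ k₁) :=
  (MonoidHom.fst _ _).comp (st.coords hR)

/-- The second projection of a subgroup. -/
noncomputable def pr₂ {R : Subgroup G} (hR : R ≤ S) : R →* DihedralGroup (2 ^ k₂) :=
  (MonoidHom.snd _ _).comp (st.coords hR)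

theorem φ_pr {R : Subgroup G} (hR : R ≤ S) (q : R) : st.φ (st.pr₁ hR q, st.pr₂ hR q) = q :=
  st.φ_coords hR q

theorem pr₁_eq {R : Subgroup G} (hR : R ≤ S) {q : R} {a : DihedralGroup (2 ^ k₁)}
    {b : DihedralGroup (2 ^ k₂)} (h : st.φ (a, b) = q) : st.pr₁ hR q = a :=
  congrArg Prod.fst (st.coords_eq hR h)

theorem pr₂_eq {R : Subgroup G} (hR : R ≤ S) {q : R} {a : DihedralGroup (2 ^ k₁)}
    {b : DihedralGroup (2 ^ k₂)} (h : st.φ (a, b) = q) : st.pr₂ hR q = b :=
  congrArg Prod.snd (st.coords_eq hR h)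

theorem swap_pr₁ {R : Subgroup G} (hR : R ≤ S) (q : R) : st.swap.pr₁ hR q = st.pr₂ hR q :=
  st.swap.pr₁_eq hR (b := st.pr₁ hR q) (by rw [swap_φ]; exact st.φ_pr hR q)

theorem swap_pr₂ {R : Subgroup G} (hR : R ≤ S) (q : R) : st.swap.pr₂ hR q = st.pr₁ hR q :=
  st.swap.pr₂_eq hR (a := st.pr₂ hR q) (by rw [swap_φ]; exact st.φ_pr hR q)

/-- The product of subgroups of the two factors. -/
def box (A : Subgroup (DihedralGroup (2 ^ k₁))) (B : Subgroup (DihedralGroup (2 ^ k₂))) : Subgroup G :=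
  (A.prod B).map st.φ

theorem mem_box {A : Subgroup (DihedralGroup (2 ^ k₁))} {B : Subgroup (DihedralGroup (2 ^ k₂))}
    {a : DihedralGroup (2 ^ k₁)} {b : DihedralGroup (2 ^ k₂)} :
    st.φ (a, b) ∈ st.box A B ↔ a ∈ A ∧ b ∈ B :=
  (Subgroup.mem_map_iff_mem st.inj).trans Subgroup.mem_prod

theorem box_le (A : Subgroup (DihedralGroup (2 ^ k₁))) (B : Subgroup (DihedralGroup (2 ^ k₂))) :
    st.box A B ≤ S := by
  rintro _ ⟨d, -, rfl⟩
  exact st.mem d

theorem swap_box (A : Subgroup (DihedralGroup (2 ^ k₂))) (B : Subgroup (DihedralGroup (2 ^ k₁))) :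
    st.swap.box A B = st.box B A := by
  ext g
  constructor
  · rintro ⟨⟨a, b⟩, ⟨ha, hb⟩, rfl⟩
    exact ⟨(b, a), ⟨hb, ha⟩, rfl⟩
  · rintro ⟨⟨b, a⟩, ⟨hb, ha⟩, rfl⟩
    exact ⟨(a, b), ⟨ha, hb⟩, rfl⟩

theorem conj_eq (a a' : DihedralGroup (2 ^ k₁)) (b b' : DihedralGroup (2 ^ k₂)) :
    st.φ (a, b) * st.φ (a', b') * (st.φ (a, b))⁻¹ = st.φ (a * a' * a⁻¹, b * b' * b⁻¹) := by
  rw [← map_inv, ← map_mul, ← map_mul]; rfl

end Setup

end Cfsg.Agent.DihedralPair
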