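import Cfsg.Agent.Lib.DihedralPair.Subdirect

/-!
# Odd automorphisms moving the central involutions of a subdirect product

`full`: the squares generate the product of the groups of even rotations.
`false_of_product`: this does not happen in the direct product.
-/

set_option autoImplicit false
set_option linter.unusedSectionVars false

namespace Cfsg.Agent.DihedralPair

open DihedralGroup DihedralSylow Function

variable {Q : Type*} [Group Q] [Finite Q] {k₁ k₂ : ℕ} {p₁ : Q →* DihedralGroup (2 ^ k₁)}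
  {p₂ : Q →* DihedralGroup (2 ^ k₂)} (hk₁ : 2 ≤ k₁) (hk₂ : 2 ≤ k₂) (s : Sub p₁ p₂) {α : MulAut Q}
  (hα : Odd (orderOf α))

/-- An element whose `e`th power, `e` half the exponent, is not trivial is an odd rotation. -/
theorem exists_odd_rot {k : ℕ} (hk : 2 ≤ k) {d : DihedralGroup (2 ^ k)} (h : d ^ 2 ^ (k - 1) ≠ 1) :
    ∃ a, parity (two_dvd (four_dvd hk)) a = 1 ∧ d = r a := by
  obtain ⟨j, rfl⟩ : ∃ j, k = j + 2 := ⟨k - 2, by omega⟩
  rcases d with a | a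
  · refine ⟨a, (parity_eq_zero_or_one _ a).resolve_left fun h0 => h ?_, rfl⟩
    obtain ⟨b, rfl⟩ := exists_add_self_of_parity _ h0
    have e : (b + b) * ((2 ^ (j + 2 - 1) : ℕ) : ZMod (2 ^ (j + 2))) = 0 := by
      have e2 : ((2 ^ (j + 2) : ℕ) : ZMod (2 ^ (j + 2))) = 0 := ZMod.natCast_self _
      have e3 : (2 : ZMod (2 ^ (j + 2))) * ((2 ^ (j + 1) : ℕ) : ZMod (2 ^ (j + 2))) = 0 := by
        rw [show (2 : ZMod (2 ^ (j + 2))) = ((2 : ℕ) : ZMod (2 ^ (j + 2))) from Nat.cast_ofNat.symm,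
          ← Nat.cast_mul, ← pow_succ', e2]
      rw [show j + 2 - 1 = j + 1 by omega]
      linear_combination b * e3
    rw [r_pow, e, r_zero]
  · refine absurd ?_ h
    have e : (sr a : DihedralGroup (2 ^ (j + 2))) ^ 2 = 1 := by rw [pow_two, sr_mul_self]
    calc (sr a : DihedralGroup (2 ^ (j + 2))) ^ 2 ^ (j + 2 - 1)
        = (sr a ^ 2) ^ 2 ^ j := by rw [← pow_mul]; congr 1; rw [show j + 2 - 1 = j + 1 by omega, pow_succ']
      _ = 1 := by rw [e, one_pow]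

include hk₁ hk₂ s

theorem pow_mem_evenPart (x : Q) :
    x ^ 2 ^ (k₁ - 1) ∈ evenPart p₁ p₂ (four_dvd hk₁) (four_dvd hk₂) := by
  obtain ⟨j, hj⟩ : ∃ j, k₁ - 1 = j + 1 := ⟨k₁ - 2, by omega⟩
  rw [hj, pow_succ', pow_mul, pow_two]
  exact pow_mem (s.squares_le _ _ (sq_mem x)) _

include hα

/-- If an odd automorphism moves a central involution, the orders agree and the squares generate
every pair of even rotations of the form `(r a, 1)`. -/
theorem full (hmove : ∃ x ∈ evenPart p₁ p₂ (four_dvd hk₁) (four_dvd hk₂), x * x = 1 ∧ α x ≠ x)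
    (hinv : ∀ x ∈ evenPart p₁ p₂ (four_dvd hk₁) (four_dvd hk₂), x * x = 1 →
      α x ∈ evenPart p₁ p₂ (four_dvd hk₁) (four_dvd hk₂))
    (a : ZMod (2 ^ k₁)) : ∃ q ∈ squares Q, p₁ q = r (a + a) ∧ p₂ q = 1 := by
  set e := 2 ^ (k₁ - 1) with he
  obtain ⟨x, hx⟩ := s.surj₁ (r 1)
  have hxe : p₁ (x ^ e) = r (half _) := by rw [map_pow, hx, r_one_pow (by omega)]
  have hx2 : x ^ e * x ^ e = 1 := by
    have h1 : (x ^ e) * (x ^ e) ∈ evenPart p₁ p₂ (four_dvd hk₁) (four_dvd hk₂) :=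
      mul_mem (pow_mem_evenPart hk₁ hk₂ s x) (pow_mem_evenPart hk₁ hk₂ s x)
    refine s.ext ?_ ?_
    · rw [map_mul, hxe, r_mul_r, half_add_half (two_dvd (four_dvd hk₁)), r_zero, map_one]
    · by_contra hne
      -- otherwise `α` could not permute the three involutions
      have hk : k₁ < k₂ := by
        by_contra hle
        refine hne ?_
        rw [map_one, ← pow_add, ← two_mul, he, ← pow_succ', show k₁ - 1 + 1 = k₁ by omega, map_pow]
        obtain ⟨i, hi⟩ := pow_dvd_pow (2 : ℕ) (not_lt.1 hle)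
        rw [hi, pow_mul, pow_card_eq_one (by omega), one_pow]
      obtain ⟨y, hy⟩ := s.surj₂ (r 1)
      set f := 2 ^ (k₂ - 1) with hf
      have hy1 : p₂ (y ^ f) = r (half _) := by rw [map_pow, hy, r_one_pow (by omega)]
      have hy0 : p₁ (y ^ f) = 1 := by
        rw [map_pow, hf, show k₂ - 1 = k₁ + (k₂ - 1 - k₁) by omega, pow_add, pow_mul,
          pow_card_eq_one (by omega), one_pow]
      have hyM : y ^ f ∈ evenPart p₁ p₂ (four_dvd hk₁) (four_dvd hk₂) := by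
        rw [hf, show k₂ - 1 = k₁ - 1 + (k₂ - k₁) by omega, pow_add, pow_mul]
        exact pow_mem (pow_mem_evenPart hk₁ hk₂ s y) _
      have hy2 : y ^ f * y ^ f = 1 := s.ext
        (by rw [map_mul, hy0, one_mul, map_one])
        (by rw [map_mul, hy1, r_mul_r, half_add_half (two_dvd (four_dvd hk₂)), r_zero, map_one])
      obtain ⟨i, hi1, hi2⟩ := transitive hk₁ hk₂ s hα hmove hinv (r (half _)) 1 (Or.inr rfl) (Or.inl rfl)
        (fun h => r_half_ne (two_dvd (four_dvd hk₁)) h.1) _ hyM hy2 (fun h => by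
          rw [h, map_one] at hy1
          exact r_half_ne (two_dvd (four_dvd hk₂)) hy1.symm)
      -- then a power with exponent at least the exponent of the first factor would survive
      rw [map_pow, map_pow] at hi1
      rw [hf, show k₂ - 1 = k₁ + (k₂ - 1 - k₁) by omega, pow_add, pow_mul,
        pow_card_eq_one (by omega), one_pow] at hi1
      exact r_half_ne (two_dvd (four_dvd hk₁)) hi1.symm
  have hxne : x ^ e ≠ 1 := fun h => r_half_ne (two_dvd (four_dvd hk₁)) (by rw [← hxe, h, map_one])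
  obtain ⟨i₁, hu1, hu2⟩ := transitive hk₁ hk₂ s hα hmove hinv (r (half _)) 1 (Or.inr rfl) (Or.inl rfl)
    (fun h => r_half_ne (two_dvd (four_dvd hk₁)) h.1) _ (pow_mem_evenPart hk₁ hk₂ s x) hx2 hxne
  obtain ⟨i₂, hv1, hv2⟩ := transitive hk₁ hk₂ s hα hmove hinv 1 (r (half _)) (Or.inl rfl) (Or.inr rfl)
    (fun h => r_half_ne (two_dvd (four_dvd hk₂)) h.2) _ (pow_mem_evenPart hk₁ hk₂ s x) hx2 hxne
  set u := (α ^ i₁) x
  set v := (α ^ i₂) x
  rw [map_pow, map_pow] at hu1 hu2 hv1 hv2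
  obtain ⟨a₁, ha₁, hua⟩ := exists_odd_rot hk₁ (d := p₁ u) (by rw [hu1]; exact r_half_ne (two_dvd (four_dvd hk₁)))
  -- the second exponent equals the first
  have hk : k₂ = k₁ := by
    have hle : k₁ ≤ k₂ := by
      by_contra hlt
      refine r_half_ne (two_dvd (four_dvd hk₂)) ?_
      rw [← hv2, show k₁ - 1 = k₂ + (k₁ - 1 - k₂) by omega, pow_add, pow_mul,
        pow_card_eq_one (by omega), one_pow]
    by_contra hne
    obtain ⟨y, hy⟩ := s.surj₂ (r 1)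
    have hy1 : p₂ (y ^ 2 ^ (k₂ - 1)) = r (half _) := by rw [map_pow, hy, r_one_pow (by omega)]
    have hy0 : p₁ (y ^ 2 ^ (k₂ - 1)) = 1 := by
      rw [map_pow, show k₂ - 1 = k₁ + (k₂ - 1 - k₁) by omega, pow_add, pow_mul,
        pow_card_eq_one (by omega), one_pow]
    have hyM : y ^ 2 ^ (k₂ - 1) ∈ evenPart p₁ p₂ (four_dvd hk₁) (four_dvd hk₂) := by
      rw [show k₂ - 1 = k₁ - 1 + (k₂ - k₁) by omega, pow_add, pow_mul]
      exact pow_mem (pow_mem_evenPart hk₁ hk₂ s y) _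
    obtain ⟨i, hi1, -⟩ := transitive hk₁ hk₂ s hα hmove hinv (r (half _)) 1 (Or.inr rfl) (Or.inl rfl)
      (fun h => r_half_ne (two_dvd (four_dvd hk₁)) h.1) _ hyM
      (s.ext (by rw [map_mul, hy0, one_mul, map_one])
        (by rw [map_mul, hy1, r_mul_r, half_add_half (two_dvd (four_dvd hk₂)), r_zero, map_one]))
      (fun h => by rw [h, map_one] at hy1; exact r_half_ne (two_dvd (four_dvd hk₂)) hy1.symm)
    rw [map_pow, map_pow, show k₂ - 1 = k₁ + (k₂ - 1 - k₁) by omega, pow_add, pow_mul,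
      pow_card_eq_one (by omega), one_pow] at hi1
    exact r_half_ne (two_dvd (four_dvd hk₁)) hi1.symm
  subst hk
  obtain ⟨b₂, hb₂, hvb⟩ := exists_odd_rot hk₂ (d := p₂ v) (by rw [hv2]; exact r_half_ne (two_dvd (four_dvd hk₂)))
  obtain ⟨ua, -, hu2'⟩ := (Subgroup.mem_comap.1 (Subgroup.mem_inf.1 (s.squares_le (four_dvd hk₁) (four_dvd hk₂) (sq_mem u))).2)
  obtain ⟨va, -, hv1'⟩ := (Subgroup.mem_comap.1 (Subgroup.mem_inf.1 (s.squares_le (four_dvd hk₁) (four_dvd hk₂) (sq_mem v))).1)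
  -- `u * u = (2 a₁, ua)`, `v * v = (va, 2 b₂)`
  have hu2e : ua * ((2 ^ (k₂ - 2) : ℕ) : ZMod (2 ^ k₂)) = 0 := by
    have := hu2
    rw [show k₂ - 1 = k₂ - 2 + 1 by omega, pow_succ', pow_mul, pow_two, ← map_mul, hu2', r_pow,
      one_def, r.injEq] at this
    exact this
  have hv1e : va * ((2 ^ (k₂ - 2) : ℕ) : ZMod (2 ^ k₂)) = 0 := by
    have := hv1
    rw [show k₂ - 1 = k₂ - 2 + 1 by omega, pow_succ', pow_mul, pow_two, ← map_mul, hv1', r_pow,
      one_def, r.injEq] at this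
    exact this
  have hdiv : ∀ c : ZMod (2 ^ k₂), c * ((2 ^ (k₂ - 2) : ℕ) : ZMod (2 ^ k₂)) = 0 →
      ∃ d, c = ((4 : ℕ) : ZMod (2 ^ k₂)) * d := by
    intro c hc
    rw [← ZMod.natCast_zmod_val c, ← Nat.cast_mul, ZMod.natCast_eq_zero_iff] at hc
    obtain ⟨d, hd⟩ : 4 ∣ c.val := by
      refine Nat.dvd_of_mul_dvd_mul_right (show 0 < 2 ^ (k₂ - 2) by positivity) ?_
      refine dvd_trans (dvd_of_eq ?_) hc
      rw [show (4 : ℕ) = 2 ^ 2 by norm_num, ← pow_add]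
      congr 1; omega
    exact ⟨d, by rw [← Nat.cast_mul, ← hd, ZMod.natCast_zmod_val]⟩
  obtain ⟨du, hdu⟩ := hdiv ua hu2e
  obtain ⟨dv, hdv⟩ := hdiv va hv1e
  have hunit : ∀ c : ZMod (2 ^ k₂), parity (two_dvd (four_dvd hk₂)) c = 1 → IsUnit c := by
    intro c hc
    rw [← ZMod.natCast_zmod_val c, map_natCast, ZMod.natCast_eq_one_iff_odd] at hc
    rw [← ZMod.natCast_zmod_val c, ZMod.isUnit_iff_coprime]
    exact (Nat.coprime_two_right.2 hc).pow_right k₂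
  -- downward induction
  have key : ∀ n : ℕ, ∀ j, j + n = k₂ → 1 ≤ j → ∀ c : ZMod (2 ^ k₂),
      (∃ q ∈ squares Q, p₁ q = r (((2 ^ j : ℕ) : ZMod (2 ^ k₂)) * c) ∧ p₂ q = 1) ∧
      (∃ q ∈ squares Q, p₁ q = 1 ∧ p₂ q = r (((2 ^ j : ℕ) : ZMod (2 ^ k₂)) * c)) := by
    intro n
    induction n with
    | zero =>
      intro j hj _ c
      rw [add_zero] at hj
      subst hj
      exact ⟨⟨1, one_mem _, by simp [one_def, -r_zero], map_one _⟩,
        ⟨1, one_mem _, map_one _, by simp [one_def, -r_zero]⟩⟩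
    | succ n ih =>
      intro j hj h1 c
      have ih' := ih (j + 1) (by omega) (by omega)
      set P : ZMod (2 ^ k₂) := ((2 ^ j : ℕ) : ZMod (2 ^ k₂)) with hP
      set P' : ZMod (2 ^ k₂) := ((2 ^ (j - 1) : ℕ) : ZMod (2 ^ k₂)) with hP'
      have hPP : P = 2 * P' := by
        rw [hP, hP', show j = j - 1 + 1 by omega, pow_succ', Nat.cast_mul]; rfl
      have hj1 : ((2 ^ (j + 1) : ℕ) : ZMod (2 ^ k₂)) = 2 * P := by
        rw [hP, pow_succ', Nat.cast_mul]; rfl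
      have h4 : ((4 : ℕ) : ZMod (2 ^ k₂)) = 4 := Nat.cast_ofNat
      constructor
      · obtain ⟨i, hi⟩ := (hunit a₁ ha₁).exists_left_inv
        set N := (c * i).val with hN
        have hNc : (N : ZMod (2 ^ k₂)) = c * i := by rw [hN, ZMod.natCast_zmod_val]
        obtain ⟨q, hq, q1, q2⟩ := (ih' (-(du * (N : ZMod (2 ^ k₂))))).2
        refine ⟨(u * u) ^ (2 ^ (j - 1) * N) * q, mul_mem (pow_mem (sq_mem u) _) hq, ?_, ?_⟩
        · rw [map_mul, map_pow, map_mul, hua, q1, mul_one, r_mul_r, r_pow, r.injEq, Nat.cast_mul,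
            hNc, ← hP', hPP]
          linear_combination 2 * P' * c * hi
        · rw [map_mul, map_pow, hu2', q2, r_pow, r_mul_r, one_def, r.injEq, Nat.cast_mul, ← hP',
            hdu, hj1, hPP, h4]
          ring
      · obtain ⟨i, hi⟩ := (hunit b₂ hb₂).exists_left_inv
        set N := (c * i).val with hN
        have hNc : (N : ZMod (2 ^ k₂)) = c * i := by rw [hN, ZMod.natCast_zmod_val]
        obtain ⟨q, hq, q1, q2⟩ := (ih' (-(dv * (N : ZMod (2 ^ k₂))))).1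
        refine ⟨(v * v) ^ (2 ^ (j - 1) * N) * q, mul_mem (pow_mem (sq_mem v) _) hq, ?_, ?_⟩
        · rw [map_mul, map_pow, hv1', q1, r_pow, r_mul_r, one_def, r.injEq, Nat.cast_mul, ← hP',
            hdv, hj1, hPP, h4]
          ring
        · rw [map_mul, map_pow, map_mul, hvb, q2, mul_one, r_mul_r, r_pow, r.injEq, Nat.cast_mul,
            hNc, ← hP', hPP]
          linear_combination 2 * P' * c * hi
  obtain ⟨q, hq, q1, q2⟩ := ((key (k₂ - 1) 1 (by omega) le_rfl) a).1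
  exact ⟨q, hq, by rw [q1, r.injEq, pow_one]; push_cast; ring, q2⟩

/-- In the direct product nothing moves. -/
theorem false_of_product (hprod : ∀ d₁ d₂, ∃ q, p₁ q = d₁ ∧ p₂ q = d₂)
    (hmove : ∃ x ∈ evenPart p₁ p₂ (four_dvd hk₁) (four_dvd hk₂), x * x = 1 ∧ α x ≠ x)
    (hinv : ∀ x ∈ evenPart p₁ p₂ (four_dvd hk₁) (four_dvd hk₂), x * x = 1 →
      α x ∈ evenPart p₁ p₂ (four_dvd hk₁) (four_dvd hk₂)) : False := by
  set e := 2 ^ (k₁ - 1) with he
  obtain ⟨a, ha1, ha2⟩ := hprod (r 1) (sr 0)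
  obtain ⟨b, hb1, hb2⟩ := hprod (r 1) (sr 1)
  have hsr : ∀ i : ZMod (2 ^ k₂), (sr i : DihedralGroup (2 ^ k₂)) ^ e = 1 := by
    intro i
    have h2 : (sr i : DihedralGroup (2 ^ k₂)) ^ 2 = 1 := by rw [pow_two, sr_mul_self]
    calc (sr i : DihedralGroup (2 ^ k₂)) ^ e = (sr i ^ 2) ^ 2 ^ (k₁ - 2) := by
          rw [← pow_mul, he]; congr 1; rw [show k₁ - 1 = k₁ - 2 + 1 by omega, pow_succ']
      _ = 1 := by rw [h2, one_pow]
  have h1 : ∀ q, p₁ q = r 1 → (∃ i, p₂ q = sr i) →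
      p₁ (q ^ e) = r (half _) ∧ p₂ (q ^ e) = 1 := by
    rintro q hq ⟨i, hi⟩
    exact ⟨by rw [map_pow, hq, r_one_pow (by omega)], by rw [map_pow, hi, hsr]⟩
  have hab : a ^ e = b ^ e := s.ext
    (by rw [(h1 a ha1 ⟨0, ha2⟩).1, (h1 b hb1 ⟨1, hb2⟩).1]) (by rw [(h1 a ha1 ⟨0, ha2⟩).2, (h1 b hb1 ⟨1, hb2⟩).2])
  have ha2e : a ^ e * a ^ e = 1 := s.ext
    (by rw [map_mul, (h1 a ha1 ⟨0, ha2⟩).1, r_mul_r, half_add_half (two_dvd (four_dvd hk₁)), r_zero, map_one])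
    (by rw [map_mul, (h1 a ha1 ⟨0, ha2⟩).2, one_mul, map_one])
  obtain ⟨i, hi1, hi2⟩ := transitive hk₁ hk₂ s hα hmove hinv (r (half _)) (r (half _)) (Or.inr rfl)
    (Or.inr rfl) (fun h => r_half_ne (two_dvd (four_dvd hk₁)) h.1) _ (pow_mem_evenPart hk₁ hk₂ s a) ha2e
    (fun h => r_half_ne (two_dvd (four_dvd hk₁)) (by rw [← (h1 a ha1 ⟨0, ha2⟩).1, h, map_one]))
  have hrot : ∀ q, q ^ e = a ^ e → (∃ x, p₁ ((α ^ i) q) = r x) ∧ ∃ x, p₂ ((α ^ i) q) = r x := by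
    intro q hq
    have u1 : p₁ ((α ^ i) q) ^ e = r (half _) := by rw [← map_pow, ← map_pow, hq, hi1]
    have u2 : p₂ ((α ^ i) q) ^ e = r (half _) := by rw [← map_pow, ← map_pow, hq, hi2]
    refine ⟨?_, ?_⟩
    · rcases hd : p₁ ((α ^ i) q) with x | x
      · exact ⟨x, rfl⟩
      · obtain ⟨y, -, hy⟩ := exists_odd_rot hk₁ (d := p₁ ((α ^ i) q)) (by rw [u1]; exact r_half_ne (two_dvd (four_dvd hk₁)))
        rw [hd] at hy; exact absurd hy (by simp)
    · rcases hd : p₂ ((α ^ i) q) with x | x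
      · exact ⟨x, rfl⟩
      · rw [hd, hsr] at u2
        exact absurd u2.symm (r_half_ne (two_dvd (four_dvd hk₂)))
  obtain ⟨⟨x₁, hx₁⟩, ⟨x₂, hx₂⟩⟩ := hrot a rfl
  obtain ⟨⟨y₁, hy₁⟩, ⟨y₂, hy₂⟩⟩ := hrot b hab.symm
  have hc : (α ^ i) (a * b) = (α ^ i) (b * a) := s.ext
    (by simp [hx₁, hy₁, add_comm]) (by simp [hx₂, hy₂, add_comm])
  have h := congrArg p₂ ((α ^ i).injective hc)
  rw [map_mul, map_mul, ha2, hb2, sr_mul_sr, sr_mul_sr, r.injEq] at h
  have e2 : ((2 : ℕ) : ZMod (2 ^ k₂)) = 0 := by push_cast; linear_combination h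
  rw [ZMod.natCast_eq_zero_iff] at e2
  have := Nat.le_of_dvd (by omega) ((four_dvd hk₂).trans e2)
  omega

end Cfsg.Agent.DihedralPair
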