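import Cfsg.Agent.Lib.DihedralPair.Setup
import Cfsg.Agent.Lib.DihedralPair.Swap
import Cfsg.Agent.Lib.DihedralPair.Mixed

/-!
# The proper centric radical subgroups of a product of two dihedral groups

`shape`: they are `four × ⊤`, `⊤ × four` or `four × four`.
-/

set_option autoImplicit false
set_option linter.unusedSectionVars false

namespace Cfsg.Agent.DihedralPair

open DihedralGroup DihedralSylow Subgroup Cfsg Cfsg.FusionSystem

variable {G : Type*} [Group G] {S : Subgroup G} [Finite S] {k₁ k₂ : ℕ} (st : Setup S k₁ k₂)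
  {F : FusionSystem S} (hS : IsPGroup 2 S) {R : Subgroup G} (hR : F.IsRadical 2 R)
  (hC : centralizerIn S R ≤ R)

theorem four_comm {k : ℕ} (hk : 1 ≤ k) (i : ZMod (2 ^ k)) :
    ∀ a ∈ four (two_dvd_pow hk) i, ∀ b ∈ four (two_dvd_pow hk) i, a * b = b * a := by
  intro a ha b hb
  have hi : ∀ c ∈ four (two_dvd_pow hk) i, c⁻¹ = c := fun c hc =>
    inv_eq_of_mul_eq_one_right (sq_four _ hc)
  calc a * b = (a * b)⁻¹ := (hi _ (mul_mem ha hb)).symm
    _ = b * a := by rw [mul_inv_rev, hi a ha, hi b hb]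

theorem Setup.mem_normalizer {x : G} (hRf : Finite R)
    (h : ∀ q : R, x * (q : G) * x⁻¹ ∈ R) : x ∈ normalizer (R : Set G) := by
  have hle : R.map (MulAut.conj x).toMonoidHom ≤ R := by
    rintro _ ⟨q, hq, rfl⟩
    exact h ⟨q, hq⟩
  have heq := eq_of_le_of_card_ge hle
    (by rw [card_map_of_injective (MulAut.conj x).injective])
  rw [Subgroup.mem_normalizer_iff]
  intro g
  refine ⟨fun hg => h ⟨g, hg⟩, fun hg => ?_⟩
  obtain ⟨y, hy, hyg⟩ := heq.ge hg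
  rwa [← mul_left_cancel (mul_right_cancel (show x * y * x⁻¹ = x * g * x⁻¹ from hyg))]

namespace Setup

include hR hC

theorem left_mem_of_commute {d : DihedralGroup (2 ^ k₁)}
    (h : ∀ a ∈ (st.pr₁ hR.1).range, d * a = a * d) : st.φ (d, 1) ∈ R := by
  refine hC ⟨st.mem _, mem_centralizer_iff.2 fun q hq => ?_⟩
  rw [← show st.φ (st.pr₁ hR.1 ⟨q, hq⟩, st.pr₂ hR.1 ⟨q, hq⟩) = q from st.φ_pr hR.1 ⟨q, hq⟩, ← map_mul,
    ← map_mul]
  refine congrArg st.φ (Prod.ext ?_ ?_)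
  · exact (h _ ⟨_, rfl⟩).symm
  · show _ * 1 = 1 * _
    rw [mul_one, one_mul]

theorem mem_range_of_commute {d : DihedralGroup (2 ^ k₁)}
    (h : ∀ a ∈ (st.pr₁ hR.1).range, d * a = a * d) : d ∈ (st.pr₁ hR.1).range :=
  ⟨⟨_, st.left_mem_of_commute hR hC h⟩, st.pr₁_eq hR.1 rfl⟩

include hS

theorem not_rotations (hk : 2 ≤ k₁) : (st.pr₁ hR.1).range ≠ rotations _ := by
  intro he
  have hfin : Finite R := Agent.Fusion.finite_of_le (Ω := G) hR.1
  have hcomm : ∀ d ∈ rotations (2 ^ k₁), st.φ (d, 1) ∈ R := by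
    intro d hd
    refine st.left_mem_of_commute hR hC fun a ha => ?_
    rw [he] at ha
    obtain ⟨x, rfl⟩ := hd
    obtain ⟨y, rfl⟩ := ha
    rw [r_mul_r, r_mul_r, add_comm]
  set x := st.φ (sr 0, 1) with hx
  have key : ∀ q : R, ∃ w : R, (q : G)⁻¹ * (x * (q : G) * x⁻¹) = ((w * w : R) : G) := by
    intro q
    obtain ⟨a, ha⟩ : st.pr₁ hR.1 q ∈ rotations (2 ^ k₁) := he ▸ ⟨q, rfl⟩
    refine ⟨⟨_, hcomm (r (-a)) ⟨_, rfl⟩⟩, ?_⟩
    rw [← st.φ_pr hR.1 q, ha, hx, conj_eq, Subgroup.coe_mul, ← map_inv, ← map_mul, ← map_mul]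
    refine congrArg st.φ (Prod.ext ?_ ?_)
    · simp
    · simp
  have hN : x ∈ normalizer (R : Set G) := Setup.mem_normalizer hfin fun q => by
    obtain ⟨w, hw⟩ := key q
    rw [inv_mul_eq_iff_eq_mul] at hw
    rw [hw]
    exact R.mul_mem q.2 (w * w).2
  have hxR : x ∈ R := mem_of_comm_frattini hS hR hC (st.mem _) hN fun q => by
    have : Fact (Nat.Prime 2) := ⟨Nat.prime_two⟩
    obtain ⟨w, hw⟩ := key q
    rw [show q⁻¹ * Agent.Fusion.conjAut hN q = w * w from Subtype.ext hw, ← pow_two]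
    exact Agent.PGroup.pow_mem_frattini (hS.to_le hR.1) w
  have h1 : sr 0 ∈ rotations (2 ^ k₁) := he ▸ ⟨⟨x, hxR⟩, st.pr₁_eq hR.1 rfl⟩
  obtain ⟨a, ha⟩ := h1
  exact absurd ha (by simp)

/-- If one projection is a four-group and the other dihedral of order at least 8, the latter is full. -/
theorem range_eq_top_of_four {i : ZMod (2 ^ k₁)}
    (h₁ : (st.pr₁ hR.1).range = four (two_dvd_pow st.one_le₁) i)
    {j : ℕ} (ψ : DihedralGroup (2 ^ j) →* DihedralGroup (2 ^ k₂)) (hj : 2 ≤ j)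
    (hψ : Function.Injective ψ) (h₂ : ψ.range = (st.pr₂ hR.1).range) :
    (st.pr₂ hR.1).range = ⊤ := by
  have : Fact (Nat.Prime 2) := ⟨Nat.prime_two⟩
  have hfin : Finite R := Agent.Fusion.finite_of_le (Ω := G) hR.1
  by_contra htop
  set H := (st.pr₂ hR.1).range with hH
  have hD : IsPGroup 2 (DihedralGroup (2 ^ k₂)) :=
    IsPGroup.of_card (n := k₂ + 1) (by rw [DihedralGroup.nat_card, pow_succ'])
  obtain ⟨d, ⟨-, hdN⟩, hd⟩ := SetLike.exists_of_lt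
    (Agent.Fusion.lt_normalizerIn (S := ⊤) (hD.to_subgroup ⊤) (lt_top_iff_ne_top.2 htop))
  have hfour : ∀ a ∈ four (two_dvd_pow st.one_le₁) i, st.φ (a, 1) ∈ R := fun a ha =>
    st.left_mem_of_commute hR hC fun b hb => four_comm st.one_le₁ i a ha b (h₁ ▸ hb)
  have hright : ∀ b ∈ H, st.φ (1, b) ∈ R := by
    rintro b ⟨q, rfl⟩
    have h := R.mul_mem (R.inv_mem (hfour _ (h₁ ▸ ⟨q, rfl⟩ : st.pr₁ hR.1 q ∈ _))) q.2
    rwa [← st.φ_pr hR.1 q, ← map_inv, ← map_mul, Prod.inv_mk, Prod.mk_mul_mk, inv_mul_cancel,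
      inv_one, one_mul] at h
  set x := st.φ (1, d) with hx
  have hN : x ∈ normalizer (R : Set G) := Setup.mem_normalizer hfin fun q => by
    have h1 : d * st.pr₂ hR.1 q * d⁻¹ ∈ H := (Subgroup.mem_normalizer_iff.1 hdN _).1 ⟨q, rfl⟩
    have := R.mul_mem (hfour _ (h₁ ▸ ⟨q, rfl⟩ : st.pr₁ hR.1 q ∈ _)) (hright _ h1)
    rw [← map_mul] at this
    rw [← st.φ_pr hR.1 q, hx, conj_eq]
    simpa using this
  -- the map onto the small dihedral group
  let p : R →* DihedralGroup (2 ^ j) :=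
    (MonoidHom.ofInjective hψ).symm.toMonoidHom.comp
      ((st.pr₂ hR.1).codRestrict ψ.range fun q => h₂ ▸ ⟨q, rfl⟩)
  have hψp : ∀ q, ψ (p q) = st.pr₂ hR.1 q := fun q => MonoidHom.apply_ofInjective_symm hψ _
  have hp : Function.Surjective p := by
    intro e
    obtain ⟨q, hq⟩ : ψ e ∈ H := h₂ ▸ ⟨e, rfl⟩
    exact ⟨q, hψ ((hψp q).trans hq)⟩
  let u : R →* four (two_dvd_pow st.one_le₁) i := (st.pr₁ hR.1).codRestrict _ fun q => h₁ ▸ ⟨q, rfl⟩
  have hu : ∀ q, (u q : DihedralGroup (2 ^ k₁)) = st.pr₁ hR.1 q := fun q => rfl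
  have hcentre : ∀ z : R, p z = 1 ∨ p z = r (half (2 ^ j)) → z ∈ center R := by
    intro z hz
    refine Subgroup.mem_center_iff.2 fun q => Subtype.ext ?_
    rw [Subgroup.coe_mul, Subgroup.coe_mul, ← st.φ_pr hR.1 q, ← st.φ_pr hR.1 z, ← map_mul, ← map_mul]
    refine congrArg st.φ (Prod.ext ?_ ?_)
    · exact four_comm st.one_le₁ i _ (hu q ▸ (u q).2) _ (hu z ▸ (u z).2)
    · show st.pr₂ hR.1 q * st.pr₂ hR.1 z = st.pr₂ hR.1 z * st.pr₂ hR.1 q
      rw [← hψp q, ← hψp z, ← map_mul ψ, ← map_mul ψ]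
      rcases hz with e | e <;> rw [e]
      · rw [mul_one, one_mul]
      · rw [half_comm (two_dvd_pow (show 1 ≤ j by omega))]
  refine hd ?_
  suffices x ∈ R from ⟨⟨x, this⟩, st.pr₂_eq hR.1 rfl⟩
  let N : Subgroup (MulAut R) :=
    { carrier := {β | ∀ z ∈ center R, β z = z}
      one_mem' := fun z _ => rfl
      mul_mem' := fun {β γ} hβ hγ z hz => by rw [MulAut.mul_apply, hγ z hz, hβ z hz]
      inv_mem' := fun {β} hβ z hz => β.injective (by rw [MulAut.apply_inv_self, hβ z hz]) }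
  refine mem_of_radical hR hC (st.mem _) hN N (fun z hz => ?_) (fun a _ b hb z hz => ?_)
    fun a _ haN ho => ?_
  · have hz2 : p z = 1 ∨ p z = r (half (2 ^ j)) := center_mem hj fun e => by
      obtain ⟨q, rfl⟩ := hp e
      rw [← map_mul, ← map_mul, Subgroup.mem_center_iff.1 hz q]
    refine Subtype.ext ?_
    rw [Agent.Fusion.coe_conjAut, ← st.φ_pr hR.1 z, hx, conj_eq]
    refine congrArg st.φ (Prod.ext (by simp) ?_)
    show d * st.pr₂ hR.1 z * d⁻¹ = st.pr₂ hR.1 z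
    rw [← hψp z]
    rcases hz2 with e | e <;> rw [e]
    · simp
    · rw [map_half hj st.one_le₂ hψ, ← half_comm (two_dvd_pow st.one_le₂) d, mul_inv_cancel_right]
  · have h1 : a⁻¹ z ∈ center R := by
      refine Subgroup.mem_center_iff.2 fun q => a.injective ?_
      rw [map_mul, map_mul, MulAut.apply_inv_self]
      exact Subgroup.mem_center_iff.1 hz _
    rw [MulAut.mul_apply, MulAut.mul_apply, hb _ h1, MulAut.apply_inv_self]
  · refine MulEquiv.ext fun q => ?_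
    have hy := mixed_mem hj (u := u) (p := p) (fun a => Subtype.ext (sq_four _ a.2)) hp
      (fun q e1 e2 => Subtype.ext (by
        rw [← st.φ_pr hR.1 q, ← hψp q, e2, map_one, ← hu q, e1, Subgroup.coe_one, Prod.mk_one_one,
          map_one, Subgroup.coe_one])) (hS.to_le hR.1) ho q
    exact eq_of_fixed_delta (hS.to_le hR.1) ho (haN _ (hcentre _ hy))

/-- Both projections cannot be dihedral of order at least 8. -/
theorem false_of_dihedral (hne : R ≠ S) {j₁ j₂ : ℕ} (ψ₁ : DihedralGroup (2 ^ j₁) →* DihedralGroup (2 ^ k₁))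
    (ψ₂ : DihedralGroup (2 ^ j₂) →* DihedralGroup (2 ^ k₂)) (hj₁ : 2 ≤ j₁) (hj₂ : 2 ≤ j₂)
    (hψ₁ : Function.Injective ψ₁) (hψ₂ : Function.Injective ψ₂)
    (h₁ : ψ₁.range = (st.pr₁ hR.1).range) (h₂ : ψ₂.range = (st.pr₂ hR.1).range) : False := by
  have : Fact (Nat.Prime 2) := ⟨Nat.prime_two⟩
  have hfin : Finite R := Agent.Fusion.finite_of_le (Ω := G) hR.1
  let p₁ : R →* DihedralGroup (2 ^ j₁) :=
    (MonoidHom.ofInjective hψ₁).symm.toMonoidHom.comp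
      ((st.pr₁ hR.1).codRestrict ψ₁.range fun q => h₁ ▸ ⟨q, rfl⟩)
  let p₂ : R →* DihedralGroup (2 ^ j₂) :=
    (MonoidHom.ofInjective hψ₂).symm.toMonoidHom.comp
      ((st.pr₂ hR.1).codRestrict ψ₂.range fun q => h₂ ▸ ⟨q, rfl⟩)
  have hp₁ : ∀ q, ψ₁ (p₁ q) = st.pr₁ hR.1 q := fun q => MonoidHom.apply_ofInjective_symm hψ₁ _
  have hp₂ : ∀ q, ψ₂ (p₂ q) = st.pr₂ hR.1 q := fun q => MonoidHom.apply_ofInjective_symm hψ₂ _
  have s : Sub p₁ p₂ := by
    refine ⟨fun e => ?_, fun e => ?_, fun q e1 e2 => Subtype.ext ?_⟩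
    · obtain ⟨q, hq⟩ : ψ₁ e ∈ (st.pr₁ hR.1).range := h₁ ▸ ⟨e, rfl⟩
      exact ⟨q, hψ₁ ((hp₁ q).trans hq)⟩
    · obtain ⟨q, hq⟩ : ψ₂ e ∈ (st.pr₂ hR.1).range := h₂ ▸ ⟨e, rfl⟩
      exact ⟨q, hψ₂ ((hp₂ q).trans hq)⟩
    · rw [← st.φ_pr hR.1 q, ← hp₁ q, ← hp₂ q, e1, e2, map_one, map_one, Prod.mk_one_one, map_one,
        Subgroup.coe_one]
  obtain ⟨α, -, ho, hα1⟩ := exists_odd hS hR hC hne
  set M := evenPart p₁ p₂ (four_dvd hj₁) (four_dvd hj₂)
  have hinv : ∀ x ∈ M, x * x = 1 → α x ∈ M := by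
    intro x hx h2
    have e2 : α x * α x = 1 := by rw [← map_mul, h2, map_one]
    have hc : ∀ y : R, α x * y = y * α x := by
      intro y
      obtain ⟨w, rfl⟩ := α.surjective y
      rw [← map_mul, ← map_mul]
      congr 1
      obtain ⟨hx1, hx2⟩ := Subgroup.mem_inf.1 hx
      have c1 : p₁ x * p₁ w = p₁ w * p₁ x := by
        rcases eq_one_or_half (Subgroup.mem_comap.1 hx1) (by rw [← map_mul, h2, map_one]) with e | e <;> rw [e]
        · rw [one_mul, mul_one]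
        · exact half_comm (two_dvd_pow (by omega)) _
      have c2 : p₂ x * p₂ w = p₂ w * p₂ x := by
        rcases eq_one_or_half (Subgroup.mem_comap.1 hx2) (by rw [← map_mul, h2, map_one]) with e | e <;> rw [e]
        · rw [one_mul, mul_one]
        · exact half_comm (two_dvd_pow (by omega)) _
      exact s.ext (by rw [map_mul, map_mul, c1]) (by rw [map_mul, map_mul, c2])
    refine Subgroup.mem_inf.2 ⟨Subgroup.mem_comap.2 ?_, Subgroup.mem_comap.2 ?_⟩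
    · rcases center_mem hj₁ (d := p₁ (α x)) (fun e => by
        obtain ⟨y, rfl⟩ := s.surj₁ e; rw [← map_mul, ← map_mul, hc y]) with e | e <;> rw [e]
      · exact one_mem _
      · exact r_mem_evenRot.2 (parity_half (four_dvd hj₁))
    · rcases center_mem hj₂ (d := p₂ (α x)) (fun e => by
        obtain ⟨y, rfl⟩ := s.surj₂ e; rw [← map_mul, ← map_mul, hc y]) with e | e <;> rw [e]
      · exact one_mem _
      · exact r_mem_evenRot.2 (parity_half (four_dvd hj₂))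
  by_cases hmove : ∃ x ∈ M, x * x = 1 ∧ α x ≠ x
  swap
  · push Not at hmove
    exact hα1 (MulEquiv.ext fun q => s.all_fixed (four_dvd hj₁) (four_dvd hj₂) (hS.to_le hR.1) ho hmove q)
  have hsq : squares R ≤ frattini R := (Subgroup.closure_le _).2 fun _ ⟨w, e⟩ => by
    rw [← e]
    show w * w ∈ frattini R
    rw [← pow_two]
    exact Agent.PGroup.pow_mem_frattini (hS.to_le hR.1) w
  have hL : ∀ d, ∃ q, p₁ q = d ∧ p₂ q = 1 := by
    intro d
    set x := st.φ (ψ₁ d, 1) with hx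
    have key : ∀ q : R, ∃ w ∈ squares R, (q : G)⁻¹ * (x * (q : G) * x⁻¹) = ((w : R) : G) := by
      intro q
      obtain ⟨a, ha, he⟩ : (p₁ q)⁻¹ * (d * p₁ q * d⁻¹) ∈ evenRot (two_dvd (four_dvd hj₁)) := by
        have := comm_mem_evenRot (two_dvd (four_dvd hj₁)) (p₁ q)⁻¹ d
        simpa [mul_assoc] using this
      obtain ⟨b, rfl⟩ := exists_add_self_of_parity _ ha
      obtain ⟨w, hw, w1, w2⟩ := full hj₁ hj₂ s ho hmove hinv b
      refine ⟨w, hw, ?_⟩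
      rw [← st.φ_pr hR.1 q, hx, conj_eq, ← st.φ_pr hR.1 w, ← map_inv, ← map_mul]
      refine congrArg st.φ (Prod.ext ?_ ?_)
      · show (st.pr₁ hR.1 q)⁻¹ * (ψ₁ d * st.pr₁ hR.1 q * (ψ₁ d)⁻¹) = st.pr₁ hR.1 w
        rw [← hp₁ q, ← hp₁ w, w1, ← he, map_mul, map_mul, map_mul, map_inv, map_inv]
      · show (st.pr₂ hR.1 q)⁻¹ * (1 * st.pr₂ hR.1 q * (1 : DihedralGroup (2 ^ k₂))⁻¹) = st.pr₂ hR.1 w
        rw [← hp₂ w, w2, map_one]
        simp
    have hN : x ∈ normalizer (R : Set G) := Setup.mem_normalizer hfin fun q => by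
      obtain ⟨w, -, hw⟩ := key q
      rw [inv_mul_eq_iff_eq_mul] at hw
      rw [hw]
      exact R.mul_mem q.2 w.2
    have hxR : x ∈ R := mem_of_comm_frattini hS hR hC (st.mem _) hN fun q => by
      obtain ⟨w, hw, he⟩ := key q
      rw [show q⁻¹ * Agent.Fusion.conjAut hN q = w from Subtype.ext he]
      exact hsq hw
    exact ⟨⟨x, hxR⟩, hψ₁ ((hp₁ _).trans (st.pr₁_eq hR.1 rfl)),
      hψ₂ ((hp₂ _).trans ((st.pr₂_eq hR.1 rfl).trans (map_one ψ₂).symm))⟩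
  refine false_of_product hj₁ hj₂ s ho (fun d₁ d₂ => ?_) hmove hinv
  obtain ⟨y, hy⟩ := s.surj₂ d₂
  obtain ⟨q, q1, q2⟩ := hL (d₁ * (p₁ y)⁻¹)
  exact ⟨q * y, by rw [map_mul, q1, inv_mul_cancel_right], by rw [map_mul, q2, one_mul, hy]⟩

theorem eq_box_of_four {i : ZMod (2 ^ k₁)}
    (h₁ : (st.pr₁ hR.1).range = four (two_dvd_pow st.one_le₁) i) :
    R = st.box (four (two_dvd_pow st.one_le₁) i) (st.pr₂ hR.1).range := by
  have hfour : ∀ a ∈ four (two_dvd_pow st.one_le₁) i, st.φ (a, 1) ∈ R := fun a ha =>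
    st.left_mem_of_commute hR hC fun b hb => four_comm st.one_le₁ i a ha b (h₁ ▸ hb)
  refine le_antisymm (fun g hg => ?_) ?_
  · rw [← show st.φ (st.pr₁ hR.1 ⟨g, hg⟩, st.pr₂ hR.1 ⟨g, hg⟩) = g from st.φ_pr hR.1 ⟨g, hg⟩]
    exact st.mem_box.2 ⟨h₁ ▸ ⟨_, rfl⟩, ⟨_, rfl⟩⟩
  · rintro _ ⟨⟨a, b⟩, ⟨ha, q, hq⟩, rfl⟩
    have hq1 : st.pr₁ hR.1 q ∈ four (two_dvd_pow st.one_le₁) i := h₁ ▸ ⟨q, rfl⟩
    have := R.mul_mem (hfour _ (mul_mem ha (inv_mem hq1))) q.2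
    rw [← st.φ_pr hR.1 q, ← map_mul, Prod.mk_mul_mk, inv_mul_cancel_right, one_mul] at this
    simpa only [hq] using this

/-- The possible proper centric radical subgroups. -/
theorem shape (hne : R ≠ S) :
    (∃ i, R = st.box (four (two_dvd_pow st.one_le₁) i) ⊤) ∨
      (∃ j, R = st.box ⊤ (four (two_dvd_pow st.one_le₂) j)) ∨
      ∃ i j, R = st.box (four (two_dvd_pow st.one_le₁) i) (four (two_dvd_pow st.one_le₂) j) := by
  have hsw : (st.swap.pr₁ hR.1).range = (st.pr₂ hR.1).range := by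
    ext d; exact ⟨fun ⟨q, e⟩ => ⟨q, by rw [← swap_pr₁]; exact e⟩, fun ⟨q, e⟩ => ⟨q, by rw [swap_pr₁]; exact e⟩⟩
  have hsw' : (st.swap.pr₂ hR.1).range = (st.pr₁ hR.1).range := by
    ext d; exact ⟨fun ⟨q, e⟩ => ⟨q, by rw [← swap_pr₂]; exact e⟩, fun ⟨q, e⟩ => ⟨q, by rw [swap_pr₂]; exact e⟩⟩
  rcases subgroup_shape st.one_le₁ _ (fun d h => st.mem_range_of_commute hR hC h) with
    ⟨hk, h⟩ | ⟨i, h₁⟩ | ⟨j₁, ψ₁, hj₁, hψ₁, h₁⟩
  · exact absurd h (st.not_rotations hS hR hC hk)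
  all_goals rcases subgroup_shape st.one_le₂ _ (fun d h => st.swap.mem_range_of_commute hR hC h) with
    ⟨hk, h⟩ | ⟨j, h₂⟩ | ⟨j₂, ψ₂, hj₂, hψ₂, h₂⟩
  · exact absurd h (st.swap.not_rotations hS hR hC hk)
  · exact Or.inr (Or.inr ⟨i, j, by rw [st.eq_box_of_four hS hR hC h₁, ← hsw, h₂]⟩)
  · refine Or.inl ⟨i, ?_⟩
    conv_lhs => rw [st.eq_box_of_four hS hR hC h₁]
    rw [st.range_eq_top_of_four hS hR hC h₁ ψ₂ hj₂ hψ₂ (h₂.trans hsw)]
  · exact absurd h (st.swap.not_rotations hS hR hC hk)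
  · refine Or.inr (Or.inl ⟨j, ?_⟩)
    conv_lhs => rw [st.swap.eq_box_of_four hS hR hC h₂]
    rw [st.swap.range_eq_top_of_four hS hR hC h₂ ψ₁ hj₁ hψ₁ (h₁.trans hsw'.symm), swap_box]
  · exact (st.false_of_dihedral hS hR hC hne ψ₁ ψ₂ hj₁ hj₂ hψ₁ hψ₂ h₁ (h₂.trans hsw)).elim

end Setup

end Cfsg.Agent.DihedralPair
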