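import Cfsg.Agent.Lib.DihedralPair.Autos

/-!
# Odd automorphisms of subdirect products of two dihedral 2-groups

`Sub.all_fixed`: an automorphism of odd order fixing the involutions of the centre is trivial.
`Sub.full`: if not, the two dihedral groups have the same order and every pair of even rotations
comes from the group generated by the squares.  `Sub.false_of_full`: in a direct product an
odd automorphism cannot move the central involutions.  `mem_centreTwo`: when one factor has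
exponent two, an automorphism of odd order acts trivially modulo the preimage of the centre.
-/

set_option autoImplicit false
set_option linter.unusedSectionVars false

namespace Cfsg.Agent.DihedralPair

open DihedralGroup DihedralSylow Function

variable {Q : Type*} [Group Q] [Finite Q]

/-- The subgroup generated by the squares. -/
def squares (Q : Type*) [Group Q] : Subgroup Q := Subgroup.closure (Set.range fun x : Q => x * x)

theorem sq_mem (x : Q) : x * x ∈ squares Q := Subgroup.subset_closure ⟨x, rfl⟩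

theorem map_squares (α : MulAut Q) {x : Q} (hx : x ∈ squares Q) : α x ∈ squares Q := by
  induction hx using Subgroup.closure_induction with
  | mem y hy =>
    obtain ⟨z, rfl⟩ := hy
    simp only [map_mul]
    exact sq_mem _
  | one => rw [map_one]; exact one_mem _
  | mul a b _ _ ia ib => rw [map_mul]; exact mul_mem ia ib
  | inv a _ ia => rw [map_inv]; exact inv_mem ia

theorem comm_mem_squares (x y : Q) : x * y * x⁻¹ * y⁻¹ ∈ squares Q := by
  have e : x * y * x⁻¹ * y⁻¹ = (x * y) * (x * y) * ((y⁻¹ * x⁻¹ * y) * (y⁻¹ * x⁻¹ * y)) * (y⁻¹ * y⁻¹) := by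
    group
  rw [e]
  exact mul_mem (mul_mem (sq_mem _) (sq_mem _)) (sq_mem _)

theorem evenRot_comm {m : ℕ} {hm : 2 ∣ m} {d e : DihedralGroup m} (hd : d ∈ evenRot hm)
    (he : e ∈ evenRot hm) : d * e = e * d := by
  obtain ⟨a, -, rfl⟩ := hd
  obtain ⟨b, -, rfl⟩ := he
  rw [r_mul_r, r_mul_r, add_comm]

theorem eq_one_or_half {m : ℕ} [NeZero m] {hm : 2 ∣ m} {d : DihedralGroup m} (hd : d ∈ evenRot hm)
    (h : d * d = 1) : d = 1 ∨ d = r (half m) := by
  obtain ⟨a, -, rfl⟩ := hd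
  rw [r_mul_r, one_def, r.injEq] at h
  rcases eq_zero_or_half h with rfl | rfl
  · exact Or.inl one_def.symm
  · exact Or.inr rfl

/-- An automorphism of odd order fixing the involutions of an invariant abelian subgroup fixes it. -/
theorem fixed_of_involutions (hQ : IsPGroup 2 Q) {α : MulAut Q} (hα : Odd (orderOf α)) (M : Subgroup Q)
    (hc : ∀ a ∈ M, ∀ b ∈ M, a * b = b * a) (hinv : ∀ a ∈ M, α a ∈ M)
    (hfix : ∀ a ∈ M, a * a = 1 → α a = a) {a : Q} (ha : a ∈ M) : α a = a := by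
  suffices ∀ k, ∀ a ∈ M, a ^ 2 ^ k = 1 → α a = a by
    obtain ⟨k, hk⟩ := hQ a
    exact this k a ha hk
  intro k
  induction k with
  | zero => intro a _ h; rw [pow_zero, pow_one] at h; rw [h, map_one]
  | succ k ih =>
    intro a ha h
    have h2 : α (a * a) = a * a := ih _ (mul_mem ha ha) (by rw [← pow_two, ← pow_mul, ← pow_succ']; exact h)
    have hd : a⁻¹ * α a ∈ M := mul_mem (inv_mem ha) (hinv a ha)
    refine eq_of_fixed_delta hQ hα (hfix _ hd ?_)
    calc a⁻¹ * α a * (a⁻¹ * α a) = a⁻¹ * a⁻¹ * (α a * α a) := by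
          rw [mul_assoc, ← mul_assoc (α a), hc (α a) (hinv a ha) a⁻¹ (inv_mem ha), mul_assoc, ← mul_assoc]
      _ = 1 := by rw [← map_mul, h2]; group

variable {m₁ m₂ : ℕ} [NeZero m₁] [NeZero m₂] (h₁ : 4 ∣ m₁) (h₂ : 4 ∣ m₂)
  {p₁ : Q →* DihedralGroup m₁} {p₂ : Q →* DihedralGroup m₂}

theorem two_dvd {m : ℕ} (h : 4 ∣ m) : 2 ∣ m := (dvd_mul_left 2 2).trans h

/-- A subdirect product of two dihedral groups of order at least 8. -/
structure Sub (p₁ : Q →* DihedralGroup m₁) (p₂ : Q →* DihedralGroup m₂) : Prop where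
  surj₁ : Surjective p₁
  surj₂ : Surjective p₂
  inj : ∀ x, p₁ x = 1 → p₂ x = 1 → x = 1

/-- The elements both of whose components are even rotations. -/
def evenPart (p₁ : Q →* DihedralGroup m₁) (p₂ : Q →* DihedralGroup m₂) (h₁ : 4 ∣ m₁) (h₂ : 4 ∣ m₂) :
    Subgroup Q :=
  (evenRot (two_dvd h₁)).comap p₁ ⊓ (evenRot (two_dvd h₂)).comap p₂

namespace Sub

variable (s : Sub p₁ p₂)
include s

theorem symm : Sub p₂ p₁ := ⟨s.surj₂, s.surj₁, fun x h h' => s.inj x h' h⟩

theorem ext {x y : Q} (e₁ : p₁ x = p₁ y) (e₂ : p₂ x = p₂ y) : x = y := by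
  have := s.inj (x * y⁻¹) (by rw [map_mul, map_inv, e₁, mul_inv_cancel])
    (by rw [map_mul, map_inv, e₂, mul_inv_cancel])
  exact mul_inv_eq_one.1 this

theorem evenPart_comm {a b : Q} (ha : a ∈ evenPart p₁ p₂ h₁ h₂) (hb : b ∈ evenPart p₁ p₂ h₁ h₂) :
    a * b = b * a :=
  s.ext (by rw [map_mul, map_mul, evenRot_comm ha.1 hb.1]) (by rw [map_mul, map_mul, evenRot_comm ha.2 hb.2])

theorem squares_le : squares Q ≤ evenPart p₁ p₂ h₁ h₂ :=
  (Subgroup.closure_le _).2 fun _ ⟨x, e⟩ => e ▸ Subgroup.mem_inf.2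
    ⟨Subgroup.mem_comap.2 (by simpa only [map_mul] using mul_self_mem_evenRot _ (p₁ x)),
      Subgroup.mem_comap.2 (by simpa only [map_mul] using mul_self_mem_evenRot _ (p₂ x))⟩

variable (hQ : IsPGroup 2 Q) {α : MulAut Q} (hα : Odd (orderOf α))
include hQ hα

/-- An automorphism of odd order fixing the central involutions is trivial. -/
theorem all_fixed (hfix : ∀ x ∈ evenPart p₁ p₂ h₁ h₂, x * x = 1 → α x = x) (x : Q) : α x = x := by
  set M := evenPart p₁ p₂ h₁ h₂ with hM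
  have hsqfix : ∀ a ∈ squares Q, α a = a := fun a ha =>
    fixed_of_involutions hQ hα (squares Q)
      (fun a ha b hb => s.evenPart_comm h₁ h₂ (s.squares_le h₁ h₂ ha) (s.squares_le h₁ h₂ hb))
      (fun a ha => map_squares α ha) (fun a ha => hfix a (s.squares_le h₁ h₂ ha)) ha
  have c1 := mul_map_mem_evenRot h₁ p₁ s.surj₁ (fun x => by rw [hsqfix _ (sq_mem x)])
    (fun x y => by rw [hsqfix _ (comm_mem_squares x y)]) hα
  have c2 := mul_map_mem_evenRot h₂ p₂ s.surj₂ (fun x => by rw [hsqfix _ (sq_mem x)])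
    (fun x y => by rw [hsqfix _ (comm_mem_squares x y)]) hα
  have hd : ∀ x, x⁻¹ * α x ∈ M := fun x =>
    Subgroup.mem_inf.2 ⟨Subgroup.mem_comap.2 (by rw [map_mul, map_inv]; exact c1 x),
      Subgroup.mem_comap.2 (by rw [map_mul, map_inv]; exact c2 x)⟩
  have hinv : ∀ a ∈ M, α a ∈ M := fun a ha => by
    have := mul_mem ha (hd a)
    rwa [mul_inv_cancel_left] at this
  have hMfix : ∀ a ∈ M, α a = a := fun a ha =>
    fixed_of_involutions hQ hα M (fun a ha b hb => s.evenPart_comm h₁ h₂ ha hb) hinv hfix ha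
  exact eq_of_fixed_delta hQ hα (hMfix _ (hd x))

end Sub

/-- The central involution in a coordinate. -/
theorem r_half_ne {m : ℕ} [NeZero m] (h : 2 ∣ m) : r (half m) ≠ (1 : DihedralGroup m) := by
  rw [one_def, Ne, r.injEq]
  exact half_ne_zero h

theorem pow_card_eq_one {k : ℕ} (hk : 1 ≤ k) (d : DihedralGroup (2 ^ k)) : d ^ 2 ^ k = 1 := by
  rcases d with a | a
  · rw [r_pow, ZMod.natCast_self, mul_zero, r_zero]
  · obtain ⟨k', rfl⟩ : ∃ k', k = k' + 1 := ⟨k - 1, by omega⟩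
    have e : (sr a : DihedralGroup (2 ^ (k' + 1))) ^ 2 = 1 := by rw [pow_two, sr_mul_self]
    calc (sr a : DihedralGroup (2 ^ (k' + 1))) ^ 2 ^ (k' + 1)
        = (sr a ^ 2) ^ 2 ^ k' := by rw [← pow_mul]; congr 1; omega
      _ = 1 := by rw [e, one_pow]

section Moving

variable {k₁ k₂ : ℕ} {p₁ : Q →* DihedralGroup (2 ^ k₁)} {p₂ : Q →* DihedralGroup (2 ^ k₂)}
  (hk₁ : 2 ≤ k₁) (hk₂ : 2 ≤ k₂) (s : Sub p₁ p₂) {α : MulAut Q}
  (hα : Odd (orderOf α))

theorem four_dvd {k : ℕ} (hk : 2 ≤ k) : 4 ∣ 2 ^ k := pow_dvd_pow 2 hk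

theorem r_one_pow {k : ℕ} (hk : 1 ≤ k) :
    (r 1 : DihedralGroup (2 ^ k)) ^ 2 ^ (k - 1) = r (half (2 ^ k)) := by
  obtain ⟨j, rfl⟩ : ∃ j, k = j + 1 := ⟨k - 1, by omega⟩
  rw [r_one_pow_eq, half, Nat.add_sub_cancel, pow_succ, Nat.mul_div_cancel _ (by omega)]
where
  r_one_pow_eq {n j : ℕ} : (r 1 : DihedralGroup n) ^ j = r (j : ZMod n) := DihedralGroup.r_one_pow j

include hk₁ hk₂ s hα

/-- If some central involution moves, all three of them exist and are permuted transitively. -/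
theorem transitive (hmove : ∃ x ∈ evenPart p₁ p₂ (four_dvd hk₁) (four_dvd hk₂), x * x = 1 ∧ α x ≠ x)
    (hinv : ∀ x ∈ evenPart p₁ p₂ (four_dvd hk₁) (four_dvd hk₂), x * x = 1 →
      α x ∈ evenPart p₁ p₂ (four_dvd hk₁) (four_dvd hk₂)) :
    ∀ d₁ d₂, (d₁ = 1 ∨ d₁ = r (half _)) → (d₂ = 1 ∨ d₂ = r (half _)) → ¬ (d₁ = 1 ∧ d₂ = 1) →
      ∀ c ∈ evenPart p₁ p₂ (four_dvd hk₁) (four_dvd hk₂), c * c = 1 → c ≠ 1 →
        ∃ i : ℕ, p₁ ((α ^ i) c) = d₁ ∧ p₂ ((α ^ i) c) = d₂ := by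
  classical
  set M := evenPart p₁ p₂ (four_dvd hk₁) (four_dvd hk₂) with hM
  obtain ⟨x, hxM, hx2, hxm⟩ := hmove
  let code : Q → Fin 2 × Fin 2 := fun c => (if p₁ c = 1 then 0 else 1, if p₂ c = 1 then 0 else 1)
  let K : Set Q := {c | c ∈ M ∧ c * c = 1}
  have hK : ∀ c ∈ K, (p₁ c = 1 ∨ p₁ c = r (half _)) ∧ (p₂ c = 1 ∨ p₂ c = r (half _)) := fun c hc =>
    ⟨eq_one_or_half hc.1.1 (by rw [← map_mul, hc.2, map_one]),
      eq_one_or_half hc.1.2 (by rw [← map_mul, hc.2, map_one])⟩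
  have hcode : Set.InjOn code K := by
    intro a ha b hb e
    simp only [code, Prod.mk.injEq] at e
    have n1 := r_half_ne (m := 2 ^ k₁) (two_dvd (four_dvd hk₁))
    have n2 := r_half_ne (m := 2 ^ k₂) (two_dvd (four_dvd hk₂))
    obtain ⟨a1, a2⟩ := hK a ha
    obtain ⟨b1, b2⟩ := hK b hb
    refine s.ext ?_ ?_
    · rcases a1 with a1 | a1 <;> rcases b1 with b1 | b1 <;> simp_all
    · rcases a2 with a2 | a2 <;> rcases b2 with b2 | b2 <;> simp_all
  have hαK : ∀ c ∈ K, α c ∈ K := fun c hc => ⟨hinv c hc.1 hc.2, by rw [← map_mul, hc.2, map_one]⟩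
  have hx1 : x ≠ 1 := fun e => hxm (by rw [e, map_one])
  have hcard : (code '' K).ncard ≤ 4 := by
    refine (Set.ncard_le_ncard (Set.subset_univ _)).trans ?_
    simp
  rw [hcode.ncard_image] at hcard
  have e4 : ({1, x, α x, α (α x)} : Set Q) = K := by
    refine Set.eq_of_subset_of_ncard_le ?_ ?_ (Set.toFinite _)
    · simp only [Set.insert_subset_iff, Set.singleton_subset_iff]
      exact ⟨⟨one_mem _, one_mul 1⟩, ⟨hxM, hx2⟩, hαK _ ⟨hxM, hx2⟩, hαK _ (hαK _ ⟨hxM, hx2⟩)⟩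
    · have n2 : α (α x) ≠ x := fun e => hxm (fixed_of_sq_fixed hα e)
      have n3 : α (α x) ≠ α x := fun e => hxm (α.injective e)
      rw [Set.ncard_insert_of_notMem (by
          simp [hx1.symm, eq_comm (a := (1 : Q)), map_eq_one_iff α α.injective, hx1]),
        Set.ncard_insert_of_notMem (by simp [hxm.symm, n2.symm]), Set.ncard_pair n3.symm]
      exact hcard
  have hall : ∀ q : Fin 2 × Fin 2, ∃ c ∈ K, code c = q := by
    intro q
    have h4 : (code '' K) = Set.univ := by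
      refine Set.eq_of_subset_of_ncard_le (Set.subset_univ _) ?_ (Set.toFinite _)
      rw [hcode.ncard_image, Set.ncard_univ, ← e4,
        Set.ncard_insert_of_notMem (by
          simp [hx1.symm, eq_comm (a := (1 : Q)), map_eq_one_iff α α.injective, hx1]),
        Set.ncard_insert_of_notMem (by
          simp [hxm.symm, Ne.symm (fun e => hxm (fixed_of_sq_fixed hα e) : α (α x) ≠ x)]),
        Set.ncard_pair (fun e => hxm (α.injective e).symm)]
      simp
    obtain ⟨c, hc, e⟩ := h4.ge (Set.mem_univ q)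
    exact ⟨c, hc, e⟩
  intro d₁ d₂ hd₁ hd₂ hd c hcM hc2 hc1
  obtain ⟨c', hc', e⟩ := hall (if d₁ = 1 then 0 else 1, if d₂ = 1 then 0 else 1)
  have hp : p₁ c' = d₁ ∧ p₂ c' = d₂ := by
    simp only [code, Prod.mk.injEq] at e
    have n1 := r_half_ne (m := 2 ^ k₁) (two_dvd (four_dvd hk₁))
    have n2 := r_half_ne (m := 2 ^ k₂) (two_dvd (four_dvd hk₂))
    obtain ⟨a1, a2⟩ := hK c' hc'
    refine ⟨?_, ?_⟩
    · rcases a1 with a1 | a1 <;> rcases hd₁ with b1 | b1 <;> simp_all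
    · rcases a2 with a2 | a2 <;> rcases hd₂ with b2 | b2 <;> simp_all
  have hcK : c ∈ ({1, x, α x, α (α x)} : Set Q) := e4 ▸ (⟨hcM, hc2⟩ : c ∈ K)
  have hcK' : c' ∈ ({1, x, α x, α (α x)} : Set Q) := e4 ▸ hc'
  have h3 : α (α (α x)) = x := by
    have : α (α (α x)) ∈ ({1, x, α x, α (α x)} : Set Q) :=
      e4 ▸ hαK _ (hαK _ (hαK _ ⟨hxM, hx2⟩))
    rcases this with u | u | u | u
    · simp [map_eq_one_iff α α.injective, hx1] at u
    · exact u
    · exact absurd (fixed_of_sq_fixed hα (α.injective u)) hxm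
    · exact absurd (α.injective (α.injective u)) hxm
  suffices ∃ i : ℕ, (α ^ i) c = c' by
    obtain ⟨i, hi⟩ := this
    exact ⟨i, hi ▸ hp.1, hi ▸ hp.2⟩
  have hc'1 : c' ≠ 1 := fun e => hd ⟨by rw [← hp.1, e, map_one], by rw [← hp.2, e, map_one]⟩
  have reach : ∀ y : Q, y = x ∨ y = α x ∨ y = α (α x) →
      ∃ i j : ℕ, (α ^ i) y = x ∧ (α ^ j) x = y := by
    rintro y (rfl | rfl | rfl)
    · exact ⟨0, 0, rfl, rfl⟩
    · exact ⟨2, 1, by simp [pow_two, h3], by simp⟩
    · exact ⟨1, 2, by simp [h3], by simp [pow_two]⟩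
  obtain ⟨i, -, hi, -⟩ := reach c (hcK.resolve_left hc1)
  obtain ⟨-, j, -, hj⟩ := reach c' (hcK'.resolve_left hc'1)
  exact ⟨j + i, by rw [pow_add, MulAut.mul_apply, hi, hj]⟩

end Moving

end Cfsg.Agent.DihedralPair
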